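import Cfsg.Agent.Lib.Linear.RegUnip.Main

/-!
# Absorption of radicals into conjugates, and products of a regular unipotent matrix with an inverse of one
-/

set_option autoImplicit false

namespace Cfsg.Lib.ClassSquare

open Cfsg.Agent.RegUnip

section Absorb

variable {G : Type*} [Group G] {U : Subgroup G} [Finite U] {c : G}

theorem conj_inv_mem (hN : ∀ u ∈ U, c * u * c⁻¹ ∈ U) {u : G} (hu : u ∈ U) : c⁻¹ * u * c ∈ U := by
  let f : U → U := fun n => ⟨c * (n : G) * c⁻¹, hN _ n.2⟩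
  have hf : Function.Injective f := fun a b h => Subtype.ext (by simpa [f] using congrArg Subtype.val h)
  obtain ⟨n, hn⟩ := Finite.surjective_of_injective hf ⟨u, hu⟩
  have e : c * (n : G) * c⁻¹ = u := congrArg Subtype.val hn
  rw [← e]
  simp [mul_assoc]

/-- An element of a normalised group free of fixed points is absorbed into the conjugacy class. -/
theorem absorb_right (hN : ∀ u ∈ U, c * u * c⁻¹ ∈ U) (hC : ∀ n ∈ U, c * n = n * c → n = 1) {u : G}
    (hu : u ∈ U) : IsConj c (c * u) := by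
  let f : U → U := fun n => ⟨c⁻¹ * (n : G) * c * (n : G)⁻¹, mul_mem (conj_inv_mem hN n.2) (inv_mem n.2)⟩
  have hf : Function.Injective f := by
    intro a b h
    have h' : c⁻¹ * (a : G) * c * (a : G)⁻¹ = c⁻¹ * (b : G) * c * (b : G)⁻¹ := congrArg Subtype.val h
    have h'' : (a : G) * c * (a : G)⁻¹ = (b : G) * c * (b : G)⁻¹ :=
      mul_left_cancel (a := c⁻¹) (by simpa only [mul_assoc] using h')
    have e : (b : G)⁻¹ * a = 1 := hC _ (mul_mem (inv_mem b.2) a.2) (by
      calc c * ((b : G)⁻¹ * a) = (b : G)⁻¹ * ((b : G) * c * (b : G)⁻¹) * a := by group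
        _ = (b : G)⁻¹ * ((a : G) * c * (a : G)⁻¹) * a := by rw [h'']
        _ = _ := by group)
    exact Subtype.ext (inv_mul_eq_one.1 e).symm
  obtain ⟨n, hn⟩ := Finite.surjective_of_injective hf ⟨u, hu⟩
  refine isConj_iff.2 ⟨n, ?_⟩
  rw [show u = c⁻¹ * (n : G) * c * (n : G)⁻¹ from (congrArg Subtype.val hn).symm]
  group

theorem absorb_left (hN : ∀ u ∈ U, c * u * c⁻¹ ∈ U) (hC : ∀ n ∈ U, c * n = n * c → n = 1) {u : G}
    (hu : u ∈ U) : IsConj c (u * c) := by
  have := absorb_right hN hC (conj_inv_mem hN hu)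
  rwa [show c * (c⁻¹ * u * c) = u * c by group] at this

omit [Finite U] in
theorem commute_pow_of_commute {h j n : G} {N : ℕ} (hhj : Commute h j) (hj : j ^ N = 1)
    (hn : Commute (h * j) n) : Commute (h ^ N) n := by
  have := hn.pow_left N
  rwa [hhj.mul_pow, hj, mul_one] at this

end Absorb

section Cover

variable {G : Type*} [Group G]

/-- An element with a triangular decomposition is a product of a conjugate and an inverse of a conjugate. -/
theorem prod_form {U V : Subgroup G} [Finite U] [Finite V] {c : G} (hNU : ∀ u ∈ U, c * u * c⁻¹ ∈ U)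
    (hCU : ∀ n ∈ U, c * n = n * c → n = 1) (hNV : ∀ u ∈ V, c * u * c⁻¹ ∈ V)
    (hCV : ∀ n ∈ V, c * n = n * c → n = 1) {x y v u : G} (hx : x⁻¹ * v * x ∈ V) (hy : y⁻¹ * u⁻¹ * y ∈ U) :
    ∃ a b, IsConj c a ∧ IsConj c b ∧ v * ((x * c * x⁻¹) * (y * c * y⁻¹)⁻¹) * u = a * b⁻¹ := by
  refine ⟨v * (x * c * x⁻¹), u⁻¹ * (y * c * y⁻¹), ?_, ?_, by group⟩
  · obtain ⟨n, hn⟩ := isConj_iff.1 (absorb_left hNV hCV hx)
    exact isConj_iff.2 ⟨x * n, by
      rw [show x * n * c * (x * n)⁻¹ = x * (n * c * n⁻¹) * x⁻¹ by group, hn]; group⟩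
  · obtain ⟨n, hn⟩ := isConj_iff.1 (absorb_left hNU hCU hy)
    exact isConj_iff.2 ⟨y * n, by
      rw [show y * n * c * (y * n)⁻¹ = y * (n * c * n⁻¹) * y⁻¹ by group, hn]; group⟩

/-- The property to be established in a group over the one in question. -/
def IsPair (c h : G) : Prop := ∃ a b, IsConj c a ∧ IsConj c b ∧ h = a * b⁻¹

theorem IsPair.of_isConj {c h h' : G} (hh : IsConj h h') (hp : IsPair c h) : IsPair c h' := by
  obtain ⟨a, b, ha, hb, rfl⟩ := hp
  obtain ⟨g, rfl⟩ := isConj_iff.1 hh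
  exact ⟨g * a * g⁻¹, g * b * g⁻¹, ha.trans (isConj_iff.2 ⟨g, rfl⟩), hb.trans (isConj_iff.2 ⟨g, rfl⟩), by group⟩

theorem isPair_one (c : G) : IsPair c 1 := ⟨c, c, IsConj.refl c, IsConj.refl c, (mul_inv_cancel c).symm⟩

/-- Covering by pairs descends to quotients where the class is its own inverse. -/
theorem square_of_cover {H : Type*} [Group H] (π : H →* G) (hπ : Function.Surjective π) {c : H}
    (hinv : IsConj (π c) (π c)⁻¹) (hcov : ∀ h, π h = 1 ∨ ∃ z, π z = 1 ∧ IsPair c (z * h)) :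
    ∃ c' : G, ∀ g : G, ∃ x y : G, g = (x * c' * x⁻¹) * (y * c' * y⁻¹) := by
  obtain ⟨w, hw⟩ := isConj_iff.1 hinv
  refine ⟨π c, fun g => ?_⟩
  obtain ⟨h, rfl⟩ := hπ g
  obtain ⟨a, b, ha, hb, e⟩ : IsPair (π c) (π h) := by
    rcases hcov h with h1 | ⟨z, hz, a, b, ha, hb, e⟩
    · rw [h1]; exact isPair_one _
    · exact ⟨π a, π b, π.map_isConj ha, π.map_isConj hb, by
        rw [← map_inv, ← map_mul, ← e, map_mul, hz, one_mul]⟩
  obtain ⟨x, rfl⟩ := isConj_iff.1 ha
  obtain ⟨y, rfl⟩ := isConj_iff.1 hb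
  refine ⟨x, y * w, ?_⟩
  rw [e, show (y * π c * y⁻¹)⁻¹ = y * (π c)⁻¹ * y⁻¹ by group, ← hw]
  group

end Cover

section Jordan

variable {K : Type*} [Field K] {n : ℕ}

/-- The Jordan matrix. -/
def jmat (n : ℕ) (K : Type*) [Field K] : Matrix (Fin n) (Fin n) K :=
  Matrix.of fun i j : Fin n => if i = j then 1 else if j.val = i.val + 1 then 1 else 0

theorem jmat_regUpper : RegUpper (jmat n K) := by
  refine ⟨⟨fun i => by simp [jmat], fun i j hij => ?_⟩, fun i j hij => ?_⟩
  · have h1 : j.val < i.val := hij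
    simp [jmat, (ne_of_gt hij : i ≠ j), show ¬ j.val = i.val + 1 by omega]
  · have hne : i ≠ j := fun e => by subst e; omega
    simp [jmat, hne, hij]

theorem det_jmat : (jmat n K).det = 1 := det_upperUni jmat_regUpper.1

/-- The Jordan matrix as a unit. -/
noncomputable def jGL (n : ℕ) (K : Type*) [Field K] : GL (Fin n) K :=
  Matrix.nonsingInvUnit (jmat n K) (by rw [det_jmat]; exact isUnit_one)

theorem coe_jGL : (jGL n K : Matrix (Fin n) (Fin n) K) = jmat n K := rfl

theorem exists_jGL_conj_inv : ∃ P : GL (Fin n) K, (jGL n K)⁻¹ = P * jGL n K * P⁻¹ := by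
  have hdet : IsUnit (jmat n K).det := by rw [det_jmat]; exact isUnit_one
  have hr : RegUpper (jmat n K)⁻¹ := by
    refine ⟨upperUni_inv jmat_regUpper.1, fun i j hij h0 => ?_⟩
    have h := (upperUni_mul (jmat_regUpper (K := K)).1 (upperUni_inv jmat_regUpper.1)).2 i j hij
    have hne : i ≠ j := fun e => by subst e; omega
    rw [Matrix.mul_nonsing_inv _ hdet, Matrix.one_apply_ne hne, h0, add_zero] at h
    exact jmat_regUpper.2 i j hij h.symm
  obtain ⟨P, hP, hMP⟩ := regUpper_isConjJ hr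
  refine ⟨Matrix.nonsingInvUnit P hP, ?_⟩
  rw [eq_mul_inv_iff_mul_eq]
  exact Units.ext (by rw [Units.val_mul, Units.val_mul, Matrix.coe_units_inv]; exact hMP)

/-- A nonscalar or trivial matrix of determinant one is a regular unipotent element times the inverse of one. -/
theorem sl_pair [Fintype K] (hK : 4 ≤ Fintype.card K) (g : GL (Fin n) K)
    (hg : (¬ ∃ c : K, (g : Matrix (Fin n) (Fin n) K) = c • (1 : Matrix (Fin n) (Fin n) K)) ∨ g = 1)
    (hdet : (g : Matrix (Fin n) (Fin n) K).det = 1) :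
    ∃ P Q : GL (Fin n) K, g = (P * jGL n K * P⁻¹) * (Q * jGL n K * Q⁻¹)⁻¹ := by
  rcases hg with hg | rfl
  · have hn : 1 ≤ n := by
      rcases Nat.eq_zero_or_pos n with rfl | h
      · exact absurd ⟨1, Matrix.ext fun i => i.elim0⟩ hg
      · exact h
    have hK' : 4 ≤ Cardinal.mk K := by rw [Cardinal.mk_fintype]; exact_mod_cast hK
    obtain ⟨x, y, h⟩ := Cfsg.Agent.RegUnip.result hK' hn (jGL n K) g (fun i j => rfl) hg hdet
    obtain ⟨P, hP⟩ := exists_jGL_conj_inv (K := K) (n := n)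
    refine ⟨x, y * P⁻¹, ?_⟩
    rw [h]
    congr 1
    calc y * jGL n K * y⁻¹ = (y * P⁻¹) * (P * jGL n K * P⁻¹) * (y * P⁻¹)⁻¹ := by group
      _ = (y * P⁻¹) * (jGL n K)⁻¹ * (y * P⁻¹)⁻¹ := by rw [← hP]
      _ = _ := by group
  · exact ⟨1, 1, by group⟩

theorem jGL_pow (p : ℕ) [Fact p.Prime] [CharP K p] : ∃ N : ℕ, jGL n K ^ (p ^ N) = 1 := by
  classical
  refine ⟨n, Units.ext ?_⟩
  rw [Units.val_pow_eq_pow_val, coe_jGL, Units.val_one]
  set N := jmat n K - 1 with hN
  have e : jmat n K = 1 + N := by simp [hN]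
  rcases Nat.eq_zero_or_pos n with rfl | hn
  · exact Matrix.ext fun i => i.elim0
  haveI : NeZero n := ⟨by omega⟩
  haveI : CharP (Matrix (Fin n) (Fin n) K) p := inferInstance
  rw [e, add_pow_char_pow_of_commute _ _ (Commute.one_left _), one_pow]
  have hlow : ∀ k : ℕ, ∀ i j : Fin n, j.val < i.val + k → (N ^ k) i j = 0 := by
    intro k
    induction k with
    | zero => intro i j h; rw [pow_zero, Matrix.one_apply_ne]; intro e; subst e; omega
    | succ k ih =>
      intro i j h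
      rw [pow_succ, Matrix.mul_apply]
      refine Finset.sum_eq_zero fun l _ => ?_
      by_cases hl : l.val < i.val + k
      · rw [ih i l hl, zero_mul]
      · have hjl : j.val ≤ l.val := by omega
        have : N l j = 0 := by
          rcases eq_or_lt_of_le hjl with e | e
          · simp [hN, Fin.ext e, jmat]
          · have hne : l ≠ j := fun h => by subst h; omega
            simp [hN, jmat, hne, show ¬ j.val = l.val + 1 by omega]
        rw [this, mul_zero]
  have : N ^ (p ^ n) = 0 := by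
    ext i j
    exact hlow _ i j (by have := j.2; have := (Fact.out : p.Prime).two_le; have := Nat.lt_pow_self (n := n) (show 1 < p by omega); omega)
  rw [this, add_zero]

end Jordan

end Cfsg.Lib.ClassSquare
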