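import Cfsg.Agent.Lib.Chev.NormalForm

/-!
# Conjugating into the big cell

Every element of a Chevalley group is conjugate to an element of `V H U`; the torus component can be moved
along a fundamental coroot as soon as the corresponding rank one component is not scalar.
-/

set_option autoImplicit false

namespace Cfsg.Lib.ClassSquare

open Cfsg.Lie Cfsg.Lib.Chev
open scoped Matrix MatrixGroups

section Generic

variable {G : Type*} [Group G]

theorem sup_split {R S : Subgroup G} (h : S ≤ Subgroup.normalizer (R : Set G)) {g : G} (hg : g ∈ R ⊔ S) :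
    ∃ r ∈ R, ∃ s ∈ S, g = r * s := by
  rw [← SetLike.mem_coe, Subgroup.coe_mul_of_right_le_normalizer_left _ _ h] at hg
  obtain ⟨r, hr, s, hs, rfl⟩ := hg
  exact ⟨r, hr, s, hs, rfl⟩

theorem sup_split' {R S : Subgroup G} (h : S ≤ Subgroup.normalizer (R : Set G)) {g : G} (hg : g ∈ R ⊔ S) :
    ∃ s ∈ S, ∃ r ∈ R, g = s * r := by
  obtain ⟨r, hr, s, hs, e⟩ := sup_split h (inv_mem hg)
  exact ⟨s⁻¹, inv_mem hs, r⁻¹, inv_mem hr, by rw [← _root_.mul_inv_rev, ← e, inv_inv]⟩

theorem conj_mem_of_normalizer {R : Subgroup G} {g : G} (hg : g ∈ Subgroup.normalizer (R : Set G)) {x : G}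
    (hx : x ∈ R) : g * x * g⁻¹ ∈ R :=
  (Subgroup.mem_normalizer_iff.1 hg x).1 hx

end Generic

variable {D : ChevalleyDatum} {T : Tbl} {F : Type*} [Field F]

/-- The positive roots made negative by the inverse of a word. -/
noncomputable def negSet' (D : ChevalleyDatum) (T : Tbl) (w : List ℕ) : Finset ℕ :=
  (Finset.range D.nroots).filter fun s => D.nroots ≤ 2 * s ∧ 2 * wperm T w.reverse s < D.nroots

/-- Conjugate to an element of `V t U`. -/
def InCell (g t : GL D.Idx F) : Prop :=
  ∃ x ∈ D.group F, ∃ v ∈ D.negUnipotent F, ∃ u ∈ D.posUnipotent F, x * g * x⁻¹ = v * t * u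

variable (C : Cert D T)
include C

/-- The radical generated by negative root elements outside a subsystem. -/
def negRad (F : Type*) [Field F] (J : Set ℕ) : Subgroup (GL D.Idx F) :=
  Subgroup.closure {g | ∃ (r : ℕ) (t : F), r < D.nroots ∧ 2 * r < D.nroots ∧ ¬ D.InRootSub J r ∧ g = xg C r t}

theorem negRad_le_neg (J : Set ℕ) : negRad C F J ≤ D.negUnipotent F :=
  (Subgroup.closure_le _).2 fun _ ⟨_, t, hr, hn, _, e⟩ => e ▸ xg_mem_neg C hr hn t

theorem xg_mem_negRad {J : Set ℕ} {r : ℕ} (hr : r < D.nroots) (hn : 2 * r < D.nroots) (hJ : ¬ D.InRootSub J r)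
    (t : F) : xg C r t ∈ negRad C F J :=
  Subgroup.subset_closure ⟨r, t, hr, hn, hJ, rfl⟩

theorem neg_le_group : D.negUnipotent F ≤ D.group F :=
  (Subgroup.closure_le _).2 fun _ ⟨r, t, _, e⟩ => by rw [eq_xg C e]; exact xg_mem_group C r t

theorem diag_mul_comm {g h : GL D.Idx F} (hg : g ∈ D.diagonalSubgroup F) (hh : h ∈ D.diagonalSubgroup F) :
    g * h = h * g := by
  obtain ⟨c, -, e⟩ := coe_diagonal C hg
  obtain ⟨d, -, e'⟩ := coe_diagonal C hh
  refine Units.ext ?_
  rw [Units.val_mul, Units.val_mul, e, e', scal, scal, Matrix.diagonal_mul_diagonal, Matrix.diagonal_mul_diagonal]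
  exact congrArg _ (funext fun _ => mul_comm _ _)

theorem diag_conj_neg {h v : GL D.Idx F} (hh : h ∈ D.diagonalSubgroup F) (hv : v ∈ D.negUnipotent F) :
    h * v * h⁻¹ ∈ D.negUnipotent F := by
  obtain ⟨χ, hχ⟩ := diag_conj_xg C hh
  refine Cfsg.Lib.Chev.conj_mem_closure ?_ hv
  rintro x ⟨r, t, hr, e⟩
  rw [eq_xg C e, (hχ r hr.1).2]
  exact xg_mem_neg C hr.1 ((C.isNeg_iff hr.1).1 hr) _

variable (K : FullCert D T)
include K

theorem xg_conj_negRad {J : Set ℕ} {r : ℕ} (hr : D.InRootSub J r) (t : F) {x : GL D.Idx F}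
    (hx : x ∈ negRad C F J) : xg C r t * x * (xg C r t)⁻¹ ∈ negRad C F J := by
  refine Cfsg.Lib.Chev.conj_mem_closure ?_ hx
  rintro x ⟨s, u, hs, hsn, hsJ, rfl⟩
  obtain ⟨l, hl, hc⟩ := comm_xg C K.comm hr.1 hs (fun e => hsJ (e ▸ hr))
    (fun e => hsJ (e ▸ inRootSub_neg C hr)) (-t) u
  have e2 : xg C r t * xg C s u * (xg C r t)⁻¹ = xg C s u * (l.map fun p => xg C p.1 p.2).prod := by
    rw [xg_inv, mul_assoc, hc, ← mul_assoc, ← mul_assoc, xg_add, add_neg_cancel, xg_zero, one_mul]
  rw [e2]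
  refine mul_mem (xg_mem_negRad C hs hsn hsJ u) (list_prod_mem fun y hy => ?_)
  obtain ⟨p, hp, rfl⟩ := List.mem_map.1 hy
  obtain ⟨hp1, i, j, -, hj, hw⟩ := hl p hp
  have hn : ∀ {q}, q < D.nroots → ¬ D.InRootSub J (T.neg q) → ¬ D.InRootSub J q :=
    fun _ h h' => h (inRootSub_neg C h')
  obtain ⟨h1, h2⟩ := sum_pos C K (J := J) (r := T.neg r) (s := T.neg s) (q := T.neg p.1) (i := i) (j := j)
    (C.spec.neg_lt _ hp1) hj (fun m hm => by
      rw [C.spec.cart_neg m hm _ hp1, C.spec.cart_neg m hm _ hr.1, C.spec.cart_neg m hm _ hs, hw m hm]; ring)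
    (inRootSub_neg C hr) (C.spec.neg_lt _ hs) ((K.neg_pos_iff hs).2 hsn)
    (fun h => hsJ (by simpa [C.spec.neg_neg s hs] using inRootSub_neg C h))
  exact xg_mem_negRad C hp1 ((K.neg_pos_iff hp1).1 h1) (hn hp1 h2) _

theorem levi_le_normalizer_negRad (J : Set ℕ) :
    D.leviSubgroup F J ≤ Subgroup.normalizer (negRad C F J : Set (GL D.Idx F)) := by
  refine sup_le (fun h hh => ?_) ((Subgroup.closure_le _).2 ?_)
  · have key : ∀ h ∈ D.diagonalSubgroup F, ∀ x ∈ negRad C F J, h * x * h⁻¹ ∈ negRad C F J := by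
      intro h hh x hx
      obtain ⟨χ, hχ⟩ := diag_conj_xg C hh
      refine Cfsg.Lib.Chev.conj_mem_closure ?_ hx
      rintro x ⟨s, u, hs, hsn, hsJ, rfl⟩
      rw [(hχ s hs).2]
      exact xg_mem_negRad C hs hsn hsJ _
    refine Subgroup.mem_normalizer_iff.2 fun x => ⟨key h hh x, fun hx => ?_⟩
    simpa [mul_assoc] using key _ (inv_mem hh) _ hx
  · rintro g ⟨r, t, hr, e⟩
    rw [eq_xg C e]
    refine Subgroup.mem_normalizer_iff.2 fun x => ⟨fun hx => xg_conj_negRad C K hr t hx, fun hx => ?_⟩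
    have := xg_conj_negRad C K hr (-t) hx
    rw [← xg_inv] at this
    simpa [mul_assoc] using this

theorem negRad_inf_levi (J : Set ℕ) : negRad C F J ⊓ D.leviSubgroup F J = ⊥ := by
  classical
  obtain ⟨a, hlin, ha⟩ := exists_coef C K
  let f : ℕ → ℤ := fun s => - ∑ k ∈ (Finset.range D.rank).filter (fun k => k ∉ J), a k s
  have hf : IsLin D T f := fun r s q i j h => by
    simp only [f, hlin _ r s q i j h, Finset.sum_add_distrib, ← Finset.mul_sum]; ring
  have hf' : IsLin D T fun s => -f s := fun r s q i j h => by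
    show -f q = i * -f r + j * -f s
    rw [hf r s q i j h]; ring
  have h0 : ∀ r, D.InRootSub J r → f r = 0 := fun r hr => by
    simp only [f, neg_eq_zero]
    refine Finset.sum_eq_zero fun k hk => ?_
    simp only [Finset.mem_filter, Finset.mem_range] at hk
    exact (ha r hr.1 k hk.1).1.1 (((inRootSub_iff C).1 hr).2 k hk.1 hk.2)
  have h1 : negRad C F J ≤ gshiftGroup D F f 1 zero_le_one := by
    refine (Subgroup.closure_le _).2 ?_
    rintro g ⟨r, t, hr, hrn, hn, rfl⟩
    refine xg_mem_gshift C hf hr t ?_ _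
    rw [inRootSub_iff C] at hn
    push Not at hn
    obtain ⟨k, hk, hkJ, hne⟩ := hn hr
    have hk' : k ∈ (Finset.range D.rank).filter (fun k => k ∉ J) := by simp [hk, hkJ]
    have hnn : ∀ m ∈ (Finset.range D.rank).filter (fun k => k ∉ J), 0 ≤ -a m r := fun m hm => by
      simp only [Finset.mem_filter, Finset.mem_range] at hm
      have h2 := coroot_nonpos C hr hrn hm.1
      rcases h2.eq_or_lt with e | e
      · rw [(ha r hr m hm.1).1.1 e, neg_zero]
      · have : ¬ 0 ≤ a m r := fun h => absurd ((ha r hr m hm.1).2.2 h) (by omega)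
        omega
    have h3 := Finset.single_le_sum hnn hk'
    rw [Finset.sum_neg_distrib] at h3
    have h4 : a k r ≠ 0 := fun e => hne ((ha r hr k hk).1.2 e)
    have h5 := hnn k hk'
    show 1 ≤ f r
    simp only [f]; omega
  have h2 : ∀ (g : ℕ → ℤ), IsLin D T g → (∀ r, D.InRootSub J r → g r = 0) →
      D.leviSubgroup F J ≤ gshiftGroup D F g 0 le_rfl := fun g hg hg0 =>
    sup_le (fun h hh => diag_mem_gshift C hh) ((Subgroup.closure_le _).2 fun x ⟨r, t, hr, e⟩ => by
      rw [eq_xg C e]; exact xg_mem_gshift C hg hr.1 t (hg0 r hr).ge _)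
  refine (Subgroup.eq_bot_iff_forall _).2 fun g ⟨hgU, hgL⟩ => Units.ext ?_
  rw [Units.val_one]
  ext i j
  by_contra hne
  have hne' : ((g : Matrix D.Idx D.Idx F) - 1) i j ≠ 0 := by rw [Matrix.sub_apply]; exact sub_ne_zero.2 hne
  have e1 := (h1 hgU).1 i j hne'
  have e2 := (h2 _ hf' (fun r hr => by simp [h0 r hr]) hgL).1 i j hne'
  rcases i with i | i <;> rcases j with j | j <;> simp only [glev] at e1 e2 <;> omega

/-- Splitting off the root element of a fundamental root from `U`. -/
theorem pos_split {i : ℕ} (hi : i < D.rank) {u : GL D.Idx F} (hu : u ∈ D.posUnipotent F) :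
    ∃ b : F, ∃ u' ∈ D.unipotentRadical F {i}, u = xg C (T.simp' i) b * u' := by
  rw [← radical_sup_simple C K hi] at hu
  obtain ⟨s, hs, r, hr, e⟩ := sup_split' (le_sup_left.trans (simple_le_normalizer C K hi)) hu
  obtain ⟨b, rfl⟩ := (mem_rootSubgroup C).1 hs
  exact ⟨b, r, hr, e⟩

/-- Splitting off the root element of a fundamental root from `V`. -/
theorem neg_split {i : ℕ} (hi : i < D.rank) {v : GL D.Idx F} (hv : v ∈ D.negUnipotent F) :
    ∃ a : F, ∃ v' ∈ negRad C F {i}, v = v' * xg C (T.neg (T.simp' i)) a := by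
  have hp := C.spec.simp_lt i hi
  have hle : D.negUnipotent F ≤ negRad C F {i} ⊔ D.rootSubgroup F (T.neg (T.simp' i)) := by
    refine (Subgroup.closure_le _).2 ?_
    rintro g ⟨r, t, hr, e⟩
    rw [eq_xg C e]
    by_cases hJ : D.InRootSub {i} r
    · have hn := (C.isNeg_iff hr.1).1 hr
      have := inRootSub_singleton C K hi (inRootSub_neg C hJ) ((K.neg_pos_iff hr.1).2 hn)
      rw [← this, C.spec.neg_neg r hr.1]
      exact Subgroup.mem_sup_right ((mem_rootSubgroup C).2 ⟨t, rfl⟩)
    · exact Subgroup.mem_sup_left (xg_mem_negRad C hr.1 ((C.isNeg_iff hr.1).1 hr) hJ t)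
  have hnorm : D.rootSubgroup F (T.neg (T.simp' i)) ≤ Subgroup.normalizer (negRad C F {i} : Set (GL D.Idx F)) := by
    intro g hg
    obtain ⟨t, rfl⟩ := (mem_rootSubgroup C).1 hg
    exact levi_le_normalizer_negRad C K _
      (xg_mem_levi C (inRootSub_neg C (inRootSub_simple C hi (Set.mem_singleton i))) t)
  obtain ⟨r, hr, s, hs, e⟩ := sup_split hnorm (hle hv)
  obtain ⟨a, rfl⟩ := (mem_rootSubgroup C).1 hs
  exact ⟨a, r, hr, e⟩

omit K in
theorem hom_upr {r : ℕ} (hr : r < D.nroots) (b : F) :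
    (rootRel C (F := F) hr).hom (SLTwoRel.upr b) = xg C r b := (rootRel C (F := F) hr).toFun'_upr b

omit K in
theorem hom_lwr {r : ℕ} (hr : r < D.nroots) (b : F) :
    (rootRel C (F := F) hr).hom (SLTwoRel.lwr b) = xg C (T.neg r) b := (rootRel C (F := F) hr).toFun'_lwr b

omit K in
theorem hom_tri {r : ℕ} (hr : r < D.nroots) {z : F} (hz : z ≠ 0) :
    (rootRel C (F := F) hr).hom (SLTwoRel.tri z 0 hz) = hg C r z := by
  show (rootRel C (F := F) hr).toFun' _ = _
  classical
  simp only [SLTwoRel.toFun', SLTwoRel.coe_tri]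
  simp only [Matrix.of_apply, Matrix.cons_val', Matrix.cons_val_zero, Matrix.cons_val_one, Matrix.empty_val',
    Matrix.cons_val_fin_one, if_true, mul_zero]
  rw [(rootRel C (F := F) hr).x_zero, one_mul]
  rfl

omit K in
/-- The decomposition of a product of opposite root elements. -/
theorem xg_mul_yg {r : ℕ} (hr : r < D.nroots) {b a : F} (h : 1 + b * a ≠ 0) :
    xg C r b * xg C (T.neg r) a =
      xg C (T.neg r) (a / (1 + b * a)) * hg C r (1 + b * a) * xg C r (b / (1 + b * a)) := by
  have e : (SLTwoRel.upr b * SLTwoRel.lwr a : SL(2, F)) =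
      SLTwoRel.lwr (a / (1 + b * a)) * SLTwoRel.tri (1 + b * a) 0 h * SLTwoRel.upr (b / (1 + b * a)) := by
    have h' : 1 + a * b ≠ 0 := by rwa [mul_comm a b]
    refine Subtype.ext ?_
    simp only [Matrix.SpecialLinearGroup.coe_mul, SLTwoRel.coe_upr, SLTwoRel.coe_tri]
    ext i j
    fin_cases i <;> fin_cases j <;> simp [SLTwoRel.lwr, Matrix.mul_apply, Fin.sum_univ_two] <;>
      field_simp [h, h'] <;> ring
  have := congrArg (rootRel C (F := F) hr).hom e
  simpa only [map_mul, hom_upr C hr, hom_lwr C hr, hom_tri C hr h] using this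

omit K in
/-- A fundamental root element in terms of opposite elements and the reflection. -/
theorem xg_one_eq {r : ℕ} (hr : r < D.nroots) :
    xg C r (1 : F) = xg C (T.neg r) 1 * ng C r 1 * xg C (T.neg r) 1 := by
  have e : (SLTwoRel.upr 1 : SL(2, F)) = SLTwoRel.lwr 1 * SLTwoRel.rot * SLTwoRel.lwr 1 := by
    refine Subtype.ext ?_
    simp only [Matrix.SpecialLinearGroup.coe_mul, SLTwoRel.coe_upr, SLTwoRel.coe_rot]
    ext i j
    fin_cases i <;> fin_cases j <;> simp [SLTwoRel.lwr, Matrix.mul_apply, Fin.sum_univ_two]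
  have := congrArg (rootRel C (F := F) hr).hom e
  simp only [map_mul, hom_upr C hr, hom_lwr C hr] at this
  rw [this]
  congr 2
  exact (rootRel C (F := F) hr).toFun'_rot

/-- The Birkhoff decomposition, with the middle element in the normal form. -/
theorem birkhoff {g : GL D.Idx F} (hg : g ∈ D.group F) :
    ∃ w, IsWord D w ∧ ∃ h ∈ D.diagonalSubgroup F, InCell g (wnu C F w * h) := by
  obtain ⟨w0, hw0, hmap⟩ := exists_opposition C K (F := F)
  obtain ⟨u, hu, n, hn, v, hv, e⟩ := bruhat C K (mul_mem (inv_mem (wnu_mem_group C hw0)) hg)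
  obtain ⟨w, hw, h, hh, e'⟩ := (mem_monomial C).1 (mul_mem (wnu_mem C hw0) hn)
  refine ⟨w, hw, h, hh, 1, one_mem _, wnu C F w0 * u * (wnu C F w0)⁻¹, hmap ▸ Subgroup.mem_map_of_mem _ hu, v, hv, ?_⟩
  rw [← e', one_mul, inv_one, mul_one]
  calc g = wnu C F w0 * ((wnu C F w0)⁻¹ * g) := by group
    _ = wnu C F w0 * (u * n * v) := by rw [e]
    _ = _ := by group

/-- Every element is conjugate into the big cell. -/
theorem exists_inCell {g : GL D.Idx F} (hg : g ∈ D.group F) : ∃ t ∈ D.diagonalSubgroup F, InCell g t := by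
  classical
  obtain ⟨w, hw, h, hh, hc⟩ := birkhoff C K hg
  suffices key : ∀ (N : ℕ) (w : List ℕ), IsWord D w → (negSet' D T w).card = N → ∀ h ∈ D.diagonalSubgroup F,
      InCell g (wnu C F w * h) → ∃ t ∈ D.diagonalSubgroup F, InCell g t from key _ w hw rfl h hh hc
  intro N
  induction N using Nat.strong_induction_on with
  | _ N ih =>
    intro w hw hN h hh hc
    by_cases hall : ∀ k < D.rank, D.nroots ≤ 2 * wperm T w.reverse (T.simp' k)
    · have h1 := word_kernel C K (F := F) _ rfl hw.reverse hall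
      have h2 := wnu_reverse_mul C (F := F) hw
      refine ⟨wnu C F w * h, mul_mem ?_ hh, hc⟩
      simpa using mul_mem (inv_mem h1) h2
    push Not at hall
    obtain ⟨k, hk, hkn⟩ := hall
    obtain ⟨x, hx, v, hv, u, hu, e⟩ := hc
    have hp := C.spec.simp_lt k hk
    obtain ⟨χ, hχ⟩ := diag_conj_xg C (inv_mem hh)
    obtain ⟨c, -, hct⟩ := wnu_conj_xg C (F := F) hw.reverse (C.spec.neg_lt _ hp)
    have hσ : D.nroots ≤ 2 * wperm T w.reverse (T.neg (T.simp' k)) := by
      rw [wperm_neg C hw.reverse hp, K.neg_pos_iff (wperm_lt C hw.reverse hp)]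
      exact hkn
    have hrm := wnu_reverse_mul C (F := F) hw
    have habs : ∀ a : F, (wnu C F w * h)⁻¹ * xg C (T.neg (T.simp' k)) a * (wnu C F w * h) ∈ D.posUnipotent F := by
      intro a
      have e1 : (wnu C F w * h)⁻¹ * xg C (T.neg (T.simp' k)) a * (wnu C F w * h) =
          h⁻¹ * ((wnu C F w.reverse * wnu C F w)⁻¹ * (wnu C F w.reverse * xg C (T.neg (T.simp' k)) a *
            (wnu C F w.reverse)⁻¹) * (wnu C F w.reverse * wnu C F w)) * h := by group
      have hN : ∀ {d y : GL D.Idx F}, d ∈ D.diagonalSubgroup F → y ∈ D.posUnipotent F →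
          d⁻¹ * y * d ∈ D.posUnipotent F := fun hd hy => by
        simpa using conj_mem_of_normalizer (diag_le_normalizer C (inv_mem hd)) hy
      rw [e1, hct]
      exact hN hh (hN hrm (xg_mem_pos C (wperm_lt C hw.reverse (C.spec.neg_lt _ hp)) hσ _))
    obtain ⟨a, v', hv', rfl⟩ := neg_split C K hk hv
    set y := xg C (T.simp' k) (1 : F) with hy
    set z := xg C (T.neg (T.simp' k)) (1 : F) with hz
    have hJ := inRootSub_simple C hk (Set.mem_singleton k)
    refine ih _ ?_ (k :: w) (IsWord.cons hk hw) rfl h hh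
      ⟨y * x, mul_mem (xg_mem_group C _ _) hx, (y * v' * y⁻¹) * z,
        mul_mem (negRad_le_neg C _ (conj_mem_of_normalizer (levi_le_normalizer_negRad C K _ (xg_mem_levi C hJ _)) hv'))
          (xg_mem_neg C (C.spec.neg_lt _ hp) (by
            have := K.simple_pos hk; rw [C.neg_eq hp]; omega) _),
        ((wnu C F w * h)⁻¹ * z * (wnu C F w * h)) *
          (((wnu C F w * h)⁻¹ * xg C (T.neg (T.simp' k)) a * (wnu C F w * h)) * (u * y⁻¹)),
        mul_mem (habs 1) (mul_mem (habs a) (mul_mem hu (inv_mem (xg_mem_pos C hp (K.simple_pos hk) _)))), ?_⟩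
    · subst hN
      refine lt_of_le_of_lt (Finset.card_le_card_of_injOn (t := (negSet' D T w).erase (T.simp' k)) (T.refl' k) ?_ ?_) ?_
      · intro s hs
        simp only [negSet', Finset.coe_filter, Finset.mem_range, Set.mem_setOf_eq, List.reverse_cons, wperm_append] at hs
        obtain ⟨hs1, hs2, hs3⟩ := hs
        change 2 * wperm T w.reverse (T.refl' k s) < D.nroots at hs3
        have hne : s ≠ T.simp' k := by
          rintro rfl
          rw [C.spec.refl_simple k hk] at hs3
          omega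
        simp only [Finset.coe_erase, Set.mem_diff, Set.mem_singleton_iff, negSet', Finset.coe_filter, Finset.mem_range,
          Set.mem_setOf_eq]
        refine ⟨⟨C.spec.refl_lt k hk s hs1, K.refl_pos hk hs1 hs2 hne, hs3⟩, fun e => ?_⟩
        have e2 := congrArg (T.refl' k) e
        rw [C.spec.refl_refl k hk s hs1, C.spec.refl_simple k hk] at e2
        rw [e2, K.neg_pos_iff hp] at hs2
        have := K.simple_pos hk
        omega
      · intro s hs t ht e
        simp only [negSet', Finset.coe_filter, Finset.mem_range, Set.mem_setOf_eq] at hs ht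
        rw [← C.spec.refl_refl k hk s hs.1, e, C.spec.refl_refl k hk t ht.1]
      · exact Finset.card_erase_lt_of_mem (by simp [negSet', hp, K.simple_pos hk, hkn])
    · rw [wnu_cons, show y * x * g * (y * x)⁻¹ = y * (x * g * x⁻¹) * y⁻¹ by group, e,
        show z = xg C (T.neg (T.simp' k)) (1 : F) from rfl]
      calc y * (v' * xg C (T.neg (T.simp' k)) a * (wnu C F w * h) * u) * y⁻¹
          = (y * v' * y⁻¹) * y * (xg C (T.neg (T.simp' k)) a * (wnu C F w * h)) * (u * y⁻¹) := by group
        _ = (y * v' * y⁻¹) * (xg C (T.neg (T.simp' k)) 1 * nu C k * xg C (T.neg (T.simp' k)) 1) *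
              (xg C (T.neg (T.simp' k)) a * (wnu C F w * h)) * (u * y⁻¹) := by rw [hy, xg_one_eq C hp]; rfl
        _ = _ := by group

/-- Moving the torus component along a coroot when the component at `i` has a lower coefficient. -/
theorem move_lower {g t v u : GL D.Idx F} {x : GL D.Idx F} (hx : x ∈ D.group F) (ht : t ∈ D.diagonalSubgroup F)
    {i : ℕ} (hi : i < D.rank) {a : F} (ha : a ≠ 0) (hv : v ∈ negRad C F {i}) (hu : u ∈ D.posUnipotent F)
    (e : x * g * x⁻¹ = v * xg C (T.neg (T.simp' i)) a * t * u) {z : F} (hz : z ≠ 0) :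
    InCell g (t * hg C (T.simp' i) z) := by
  have hp := C.spec.simp_lt i hi
  set r := (z - 1) / a with hr
  have hd : 1 + r * a = z := by rw [hr]; field_simp; ring
  obtain ⟨χ, hχ⟩ := diag_conj_xg C (inv_mem ht)
  set y := xg C (T.simp' i) r with hy
  refine ⟨y * x, mul_mem (xg_mem_group C _ _) hx, y * v * y⁻¹ * xg C (T.neg (T.simp' i)) (a / z),
    mul_mem (negRad_le_neg C _ (conj_mem_of_normalizer (levi_le_normalizer_negRad C K _
      (xg_mem_levi C (inRootSub_simple C hi (Set.mem_singleton i)) _)) hv))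
      (xg_mem_neg C (C.spec.neg_lt _ hp) (by have := K.simple_pos hi; rw [C.neg_eq hp]; omega) _),
    (t⁻¹ * xg C (T.simp' i) (r / z) * t) * (u * y⁻¹),
    mul_mem ?_ (mul_mem hu (inv_mem (xg_mem_pos C hp (K.simple_pos hi) _))), ?_⟩
  · have := conj_mem_of_normalizer (diag_le_normalizer C (inv_mem ht)) (xg_mem_pos C hp (K.simple_pos hi) (r / z))
    rwa [inv_inv] at this
  · rw [show y * x * g * (y * x)⁻¹ = y * (x * g * x⁻¹) * y⁻¹ by group, e,
      diag_mul_comm C ht (hg_mem C hp hz)]
    calc y * (v * xg C (T.neg (T.simp' i)) a * t * u) * y⁻¹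
        = y * v * y⁻¹ * (y * xg C (T.neg (T.simp' i)) a) * t * (u * y⁻¹) := by group
      _ = y * v * y⁻¹ * (xg C (T.neg (T.simp' i)) (a / z) * hg C (T.simp' i) z * xg C (T.simp' i) (r / z)) * t *
            (u * y⁻¹) := by
        rw [hy, xg_mul_yg C hp (b := r) (a := a) (by rw [hd]; exact hz), hd]
      _ = _ := by group

/-- Moving the torus component along a coroot when the component at `i` has an upper coefficient only. -/
theorem move_upper {g t v u : GL D.Idx F} {x : GL D.Idx F} (hx : x ∈ D.group F) (ht : t ∈ D.diagonalSubgroup F)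
    {i : ℕ} (hi : i < D.rank) {b : F} (hb : b ≠ 0) (hv : v ∈ negRad C F {i}) (hu : u ∈ D.unipotentRadical F {i})
    (e : x * g * x⁻¹ = v * t * (xg C (T.simp' i) b * u)) {z : F} (hz : z ≠ 0) :
    InCell g (t * hg C (T.simp' i) z) := by
  have hp := C.spec.simp_lt i hi
  set r := (1 - z) / b with hr
  have hd : 1 + b * -r = z := by rw [hr]; field_simp; ring
  set y := xg C (T.neg (T.simp' i)) r with hy
  have hyn := xg_mem_levi C (inRootSub_neg C (inRootSub_simple C hi (Set.mem_singleton i))) r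
  have hneg : 2 * T.neg (T.simp' i) < D.nroots := by have := K.simple_pos hi; rw [C.neg_eq hp]; omega
  refine ⟨y * x, mul_mem (xg_mem_group C _ _) hx,
    (y * v * y⁻¹ * y) * (t * xg C (T.neg (T.simp' i)) (-r / z) * t⁻¹),
    mul_mem (mul_mem (negRad_le_neg C _ (conj_mem_of_normalizer (levi_le_normalizer_negRad C K _ hyn) hv))
      (xg_mem_neg C (C.spec.neg_lt _ hp) hneg _)) (diag_conj_neg C ht (xg_mem_neg C (C.spec.neg_lt _ hp) hneg _)),
    xg C (T.simp' i) (b / z) * (y * u * y⁻¹),
    mul_mem (xg_mem_pos C hp (K.simple_pos hi) _)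
      (radical_le_pos C _ (conj_mem_of_normalizer (levi_le_normalizer C K _ hyn) hu)), ?_⟩
  rw [show y * x * g * (y * x)⁻¹ = y * (x * g * x⁻¹) * y⁻¹ by group, e]
  calc y * (v * t * (xg C (T.simp' i) b * u)) * y⁻¹
      = y * v * y⁻¹ * y * t * (xg C (T.simp' i) b * y⁻¹) * (y * u * y⁻¹) := by group
    _ = y * v * y⁻¹ * y * t * (xg C (T.neg (T.simp' i)) (-r / z) * hg C (T.simp' i) z * xg C (T.simp' i) (b / z)) *
          (y * u * y⁻¹) := by
      rw [hy, xg_inv, xg_mul_yg C hp (b := b) (a := -r) (by rw [hd]; exact hz), hd]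
    _ = _ := by group

/-- Moving the torus component along a coroot. -/
theorem move {g t v u : GL D.Idx F} {x : GL D.Idx F} (hx : x ∈ D.group F) (ht : t ∈ D.diagonalSubgroup F)
    {i : ℕ} (hi : i < D.rank) (hv : v ∈ D.negUnipotent F) (hu : u ∈ D.posUnipotent F) (e : x * g * x⁻¹ = v * t * u)
    (hlive : t * xg C (T.simp' i) (1 : F) ≠ xg C (T.simp' i) 1 * t ∨ v ∉ negRad C F {i} ∨
      u ∉ D.unipotentRadical F {i}) {z : F} (hz : z ≠ 0) :
    InCell g (t * hg C (T.simp' i) z) := by
  have hp := C.spec.simp_lt i hi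
  obtain ⟨a, v', hv', rfl⟩ := neg_split C K hi hv
  by_cases ha : a = 0
  swap
  · exact move_lower C K hx ht hi ha hv' hu e hz
  subst ha
  rw [xg_zero, mul_one] at e hlive
  obtain ⟨b, u', hu', rfl⟩ := pos_split C K hi hu
  by_cases hb : b = 0
  swap
  · exact move_upper C K hx ht hi hb hv' hu' e hz
  subst hb
  rw [xg_zero, one_mul] at e hlive
  rcases hlive with hlive | hlive | hlive
  rotate_left
  · exact absurd hv' hlive
  · exact absurd hu' hlive
  obtain ⟨χ, hχ⟩ := diag_conj_xg C ht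
  have hχ1 : χ (T.neg (T.simp' i)) ≠ 1 := by
    intro h1
    apply hlive
    have hc : ∀ s : F, t * xg C (T.neg (T.simp' i)) s = xg C (T.neg (T.simp' i)) s * t := fun s => by
      have := (hχ _ (C.spec.neg_lt _ hp)).2 s
      rw [h1, one_mul, mul_inv_eq_iff_eq_mul] at this
      exact this
    have h2 : t * nu C i = nu C i * t := by
      have h3 := xg_one_eq C (F := F) (C.spec.neg_lt _ hp)
      rw [C.spec.neg_neg _ hp] at h3
      obtain ⟨χ', hχ'⟩ := diag_conj_xg C ht
      have hd : nu C i * t * (nu C i)⁻¹ ∈ D.diagonalSubgroup F := (conj_mem_diag C (nu_mem C i hi) ht).1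
      rw [nu, ng, C.spec.shape.neg_eq _ hp]
      have hx1 : χ (T.simp' i) = 1 := by
        obtain ⟨c, hc', ec⟩ := coe_diagonal C ht
        have key : ∀ s < D.nroots, χ s = chr T D c s := by
          intro s hs
          have h4 := (hχ s hs).2 1
          rw [mul_inv_eq_iff_eq_mul] at h4
          have h5 := congrArg (fun m : GL D.Idx F => (m : Matrix D.Idx D.Idx F)) h4
          simp only [Units.val_mul, ec, coe_xg] at h5
          rw [scal_mul_x C.spec c hc' hs, ← ec] at h5
          have h6 := Units.ext (u := xg C s (chr T D c s * 1) * t) (v := xg C s (χ s * 1) * t)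
            (by simpa only [Units.val_mul, coe_xg] using h5)
          have h7 := mul_right_cancel h6
          have h8 : xg C s (chr T D c s * 1 + -(χ s * 1)) = 1 := by rw [← xg_add, ← xg_inv, h7, mul_inv_cancel]
          have := xg_eq_one C hs h8
          linear_combination -this
        rw [key _ (C.spec.neg_lt _ hp)] at h1
        rw [key _ hp]
        have : chr T D c (T.neg (T.simp' i)) = (chr T D c (T.simp' i))⁻¹ := by
          simp only [chr, ← Finset.prod_inv_distrib]
          refine Finset.prod_congr rfl fun k hk => ?_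
          rw [C.spec.cart_neg k (Finset.mem_range.1 hk) _ hp, zpow_neg]
        rw [this, inv_eq_one] at h1
        exact h1
      have hc' : ∀ s : F, Commute t (xg C (T.simp' i) s) := fun s => by
        have := (hχ _ hp).2 s
        rw [hx1, one_mul, mul_inv_eq_iff_eq_mul] at this
        exact this
      exact (((hc' 1).mul_right (hc _)).mul_right (hc' 1)).eq
    have h3 := nu_conj_xg C (F := F) hi (C.spec.neg_lt _ hp) ((T.eta' i (T.neg (T.simp' i)) : ℤ) : F)
    rw [C.spec.refl_neg i hi _ hp, C.spec.refl_simple i hi, C.spec.neg_neg _ hp, eta_sq] at h3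
    rw [← h3]
    exact ((Commute.mul_right (show Commute t (nu C i) from h2) (hc _)).mul_right
      (show Commute t (nu C i) from h2).inv_right).eq
  set y := xg C (T.neg (T.simp' i)) (1 : F) with hy
  have hyn := xg_mem_levi C (inRootSub_neg C (inRootSub_simple C hi (Set.mem_singleton i))) (1 : F)
  refine move_lower C K (x := y * x) (mul_mem (xg_mem_group C _ _) hx) ht hi (a := 1 - χ (T.neg (T.simp' i)))
    (sub_ne_zero.2 hχ1.symm) (conj_mem_of_normalizer (levi_le_normalizer_negRad C K _ hyn) hv')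
    (radical_le_pos C _ (conj_mem_of_normalizer (levi_le_normalizer C K _ hyn) hu')) ?_ hz
  have e3 := (hχ _ (C.spec.neg_lt _ hp)).2 (-1 : F)
  rw [show y * x * g * (y * x)⁻¹ = y * (x * g * x⁻¹) * y⁻¹ by group, e, sub_eq_add_neg, ← xg_add]
  rw [show -χ (T.neg (T.simp' i)) = χ (T.neg (T.simp' i)) * -1 by ring, ← e3, ← xg_inv, hy]
  group

end Cfsg.Lib.ClassSquare
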