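import Cfsg.Agent.Lib.Chev.Torus
import Cfsg.Agent.Lib.ClassSquare.ChevCell

/-!
# The big cell with trivial torus component

Every non-trivial element of a Chevalley group over a field with at least seven elements is conjugate to an
element of `V U`.
-/

set_option autoImplicit false

namespace Cfsg.Lib.ClassSquare

open Cfsg.Lie Cfsg.Lib.Chev
open scoped Matrix MatrixGroups

/-- The check of an order of removal of end nodes of the diagram, ending at `root`. -/
noncomputable def chkSteps (T : Tbl) : List (ℕ × ℕ) → ℕ → Bool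
  | [], root => Nat.blt root T.rank
  | (i, p) :: rest, root =>
    (Nat.blt i T.rank && Nat.blt p T.rank && !Nat.beq i p && !decide (T.cartan i (T.simp' p) = 0)) &&
      (allBelow (fun j => !(Nat.beq j root || rest.any fun q => Nat.beq j q.1) || Nat.beq j p ||
        decide (T.cartan i (T.simp' j) = 0)) T.rank && chkSteps T rest root)

/-- The nodes not yet removed. -/
def remaining (steps : List (ℕ × ℕ)) (root : ℕ) (j : ℕ) : Prop := j = root ∨ ∃ q ∈ steps, j = q.1

/-- The check of an order of removal. -/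
noncomputable def chkOrder (T : Tbl) (steps : List (ℕ × ℕ)) (root : ℕ) : Bool :=
  chkSteps T steps root && allBelow (fun j => Nat.beq j root || steps.any fun q => Nat.beq j q.1) T.rank &&
    allBelow (fun p => decide (((List.range T.rank).map fun j => (T.cartan p (T.simp' j)).natAbs).sum ≤ 5)) T.rank

/-- A value avoiding finitely many bounded power conditions. -/
theorem exists_avoid {F : Type*} [Field F] [Fintype F] {ι : Type*} (s : Finset ι) (e : ι → ℤ) (a : ι → Fˣ) {B : ℕ}
    (hB : ∑ j ∈ s, (e j).natAbs ≤ B) (hF : B + 1 < Fintype.card F) :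
    ∃ z : Fˣ, ∀ j ∈ s, e j ≠ 0 → a j * z ^ e j ≠ 1 := by
  classical
  let bad : ι → Finset F := fun j =>
    (Polynomial.nthRoots (e j).natAbs (if 0 ≤ e j then (((a j)⁻¹ : Fˣ) : F) else (a j : F))).toFinset
  have hcard : (s.biUnion bad).card < (Finset.univ.erase (0 : F)).card := by
    rw [Finset.card_erase_of_mem (Finset.mem_univ _), Finset.card_univ]
    refine lt_of_le_of_lt (Finset.card_biUnion_le.trans ((Finset.sum_le_sum fun j _ => ?_).trans hB)) (by omega)
    exact (Multiset.toFinset_card_le _).trans (Polynomial.card_nthRoots _ _)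
  obtain ⟨z, hz, hzb⟩ := Finset.exists_mem_notMem_of_card_lt_card hcard
  refine ⟨Units.mk0 z (Finset.ne_of_mem_erase hz), fun j hj hne h1 => hzb (Finset.mem_biUnion.2 ⟨j, hj, ?_⟩)⟩
  rw [Multiset.mem_toFinset, Polynomial.mem_nthRoots (Int.natAbs_pos.2 hne)]
  rcases le_or_gt 0 (e j) with h | h
  · rw [if_pos h]
    obtain ⟨m, hm⟩ := Int.eq_ofNat_of_zero_le h
    rw [hm] at h1 ⊢
    rw [Int.natAbs_natCast]
    rw [zpow_natCast, mul_eq_one_iff_inv_eq] at h1
    rw [h1]; simp
  · rw [if_neg (not_le.2 h)]
    obtain ⟨m, hm⟩ := Int.exists_eq_neg_ofNat h.le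
    rw [hm] at h1 ⊢
    rw [Int.natAbs_neg, Int.natAbs_natCast]
    rw [zpow_neg, zpow_natCast, mul_inv_eq_one] at h1
    rw [h1]; simp

variable {D : ChevalleyDatum} {T : Tbl} {F : Type*} [Field F]

/-- The values of the fundamental roots on a torus parameter. -/
abbrev sval (D : ChevalleyDatum) (T : Tbl) (c : Fin D.rank → Fˣ) (k : Fin D.rank) : Fˣ :=
  powHom (cartanMat D T) c k

theorem sval_single (c : Fin D.rank → Fˣ) (p j : Fin D.rank) (z : Fˣ) :
    sval D T (c * (Pi.mulSingle p z : Fin D.rank → Fˣ)) j = sval D T c j * z ^ T.cartan p (T.simp' j) := by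
  rw [sval, map_mul, Pi.mul_apply]
  congr 1
  show ∏ i, (Pi.mulSingle p z : Fin D.rank → Fˣ) i ^ cartanMat D T j i = _
  rw [Finset.prod_eq_single p (fun i _ hi => by simp [hi]) (by simp)]
  simp [cartanMat]

variable (C : Cert D T)
include C

theorem torusHom_mem (c : Fin D.rank → Fˣ) : torusHom D T F c ∈ D.diagonalSubgroup F :=
  torusHom_range C (F := F) ▸ ⟨c, rfl⟩

theorem torusHom_single (i : Fin D.rank) (z : Fˣ) :
    torusHom D T F (Pi.mulSingle i z) = hg C (T.simp' i) (z : F) := by
  refine Units.ext ?_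
  rw [coe_torusHom, coe_hg_eq C (C.spec.simp_lt i i.2) z.ne_zero, coDiag_simple C i.2, dModel_eq_scal i.2, scal, scal]
  congr 1
  funext j
  rcases j with a | s
  · rfl
  · simp only [Sum.elim_inr, chr]
    refine Finset.prod_congr rfl fun k hk => ?_
    rw [Finset.mem_range] at hk
    simp only [extend', dif_pos hk]
    by_cases h : k = (i : ℕ)
    · subst h; simp
    · rw [if_neg h, Pi.mulSingle_eq_of_ne (fun e => h (congrArg Fin.val e))]; simp

theorem torusHom_conj_xg (c : Fin D.rank → Fˣ) (k : Fin D.rank) (s : F) :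
    torusHom D T F c * xg C (T.simp' k) s * (torusHom D T F c)⁻¹ = xg C (T.simp' k) ((sval D T c k : F) * s) := by
  have hp := C.spec.simp_lt k k.2
  have hc : ∀ j < D.rank, extend' c j ≠ 0 := fun j _ => extend'_ne c j
  have hval : chr T D (extend' c) (T.simp' k) = ((sval D T c k : Fˣ) : F) := by
    show _ = ((∏ j, c j ^ cartanMat D T k j : Fˣ) : F)
    rw [Units.coe_prod, chr, ← Fin.prod_univ_eq_prod_range (fun j => extend' c j ^ T.cartan j (T.simp' k)) D.rank]
    exact Finset.prod_congr rfl fun j _ => by simp [extend', cartanMat, Units.val_zpow_eq_zpow_val]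
  rw [mul_inv_eq_iff_eq_mul]
  refine Units.ext ?_
  rw [Units.val_mul, Units.val_mul, coe_torusHom, coe_xg, coe_xg, scal_mul_x C.spec _ hc hp, hval]

variable (K : FullCert D T)
include K

/-- Moving along a coroot, in parameters. -/
theorem move_sval {g : GL D.Idx F} {c : Fin D.rank → Fˣ} {i : Fin D.rank} (hi : sval D T c i ≠ 1)
    (h : InCell g (torusHom D T F c)) (z : Fˣ) : InCell g (torusHom D T F (c * Pi.mulSingle i z)) := by
  obtain ⟨x, hx, v, hv, u, hu, e⟩ := h
  rw [map_mul, torusHom_single C]
  refine move C K hx (torusHom_mem C c) i.2 hv hu e (Or.inl fun hc => hi ?_) z.ne_zero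
  have h1 := torusHom_conj_xg C c i (1 : F)
  rw [hc, mul_inv_cancel_right] at h1
  have h2 : xg C (T.simp' i) ((sval D T c i : F) * 1 + -1) = 1 := by rw [← xg_add, ← h1, xg_add, add_neg_cancel, xg_zero]
  have := xg_eq_one C (C.spec.simp_lt i i.2) h2
  exact Units.ext (by rw [Units.val_one]; linear_combination this)

omit C K in
theorem remaining_lt {steps : List (ℕ × ℕ)} {root : ℕ} (hC : Cert D T) (h : chkSteps T steps root = true) {j : ℕ}
    (hj : remaining steps root j) : j < D.rank := by
  induction steps with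
  | nil =>
    rcases hj with rfl | ⟨q, hq, -⟩
    · rw [← hC.spec.shape.rank_eq]; simpa [chkSteps, Nat.blt_eq] using h
    · simp at hq
  | cons s steps ih =>
    obtain ⟨i, p⟩ := s
    simp only [chkSteps, Bool.and_eq_true, Nat.blt_eq] at h
    rcases hj with rfl | ⟨q, hq, rfl⟩
    · exact ih h.2.2 (Or.inl rfl)
    · rcases List.mem_cons.1 hq with rfl | hq
      · rw [← hC.spec.shape.rank_eq]; exact h.1.1.1.1
      · exact ih h.2.2 (Or.inr ⟨q, hq, rfl⟩)

variable [Fintype F] (hF : 7 ≤ Fintype.card F)
include hF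

/-- Removing the torus component node by node. -/
theorem kill_all {g : GL D.Idx F} {root : ℕ}
    (hB : ∀ p < D.rank, (((List.range D.rank).map fun j => (T.cartan p (T.simp' j)).natAbs).sum ≤ 5)) :
    ∀ (steps : List (ℕ × ℕ)), chkSteps T steps root = true → ∀ c : Fin D.rank → Fˣ,
      (∀ j : Fin D.rank, remaining steps root j → sval D T c j ≠ 1) →
      (∀ j : Fin D.rank, ¬ remaining steps root j → c j = 1) → InCell g (torusHom D T F c) → InCell g 1 := by
  intro steps
  induction steps with
  | nil =>
    intro hchk c hlive hone hcell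
    have hr : root < D.rank := remaining_lt C hchk (Or.inl rfl)
    have := move_sval C K (hlive ⟨root, hr⟩ (Or.inl rfl)) hcell (c ⟨root, hr⟩)⁻¹
    rwa [show c * Pi.mulSingle ⟨root, hr⟩ (c ⟨root, hr⟩)⁻¹ = 1 from funext fun j => by
      by_cases h : j = ⟨root, hr⟩
      · subst h; simp
      · rw [Pi.mul_apply, Pi.mulSingle_eq_of_ne h, mul_one, Pi.one_apply]
        exact hone j (by rintro (e | ⟨q, hq, -⟩); exacts [h (Fin.ext e), by simp at hq]), map_one] at this
  | cons s steps ih =>
    intro hchk c hlive hone hcell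
    obtain ⟨i, p⟩ := s
    have hchk' := hchk
    simp only [chkSteps, Bool.and_eq_true, Nat.blt_eq, C.spec.shape.rank_eq, Bool.not_eq_true',
      decide_eq_false_iff_not, allBelow_iff, Bool.or_eq_true, List.any_eq_true, Nat.beq_eq, decide_eq_true_eq] at hchk'
    obtain ⟨⟨⟨⟨hi, hp⟩, hne⟩, hA⟩, hN, hrest⟩ := hchk'
    have hne' : (⟨i, hi⟩ : Fin D.rank) ≠ ⟨p, hp⟩ := fun e => by
      have he : Nat.beq i p = true := by simp only [Nat.beq_eq]; exact congrArg Fin.val e
      rw [hne] at he; exact Bool.false_ne_true he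
    classical
    set w : Fˣ := (c ⟨i, hi⟩)⁻¹ with hw
    by_cases hiR : remaining steps root i
    · refine ih hrest c (fun j hj => hlive j ?_) (fun j hj => hone j ?_) hcell
      · exact hj.imp_right fun ⟨q, hq, e⟩ => ⟨q, List.mem_cons_of_mem _ hq, e⟩
      · rintro (e | ⟨q, hq, e⟩)
        · exact hj (Or.inl e)
        · rcases List.mem_cons.1 hq with rfl | hq
          · exact hj (by change remaining steps root j; rw [e]; exact hiR)
          · exact hj (Or.inr ⟨q, hq, e⟩)
    by_cases hpS : remaining steps root p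
    swap
    · -- the neighbour is already absent
      have h1 := move_sval C K (hlive ⟨i, hi⟩ (Or.inr ⟨_, List.mem_cons_self .., rfl⟩)) hcell w
      refine ih hrest _ (fun j hj => ?_) (fun j hj => ?_) h1
      · rw [sval_single]
        have hz : T.cartan i (T.simp' j) = 0 := by
          rcases hN j j.2 with (h | h) | h
          · exfalso; revert h
            rcases hj with e | ⟨q, hq, e⟩
            · simp [e]
            · intro h
              simp only [Bool.or_eq_false_iff, List.any_eq_false] at h
              exact h.2 q hq (by simp [e])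
          · exact absurd (h ▸ hj) hpS
          · exact h
        rw [show ((⟨i, hi⟩ : Fin D.rank) : ℕ) = i from rfl, hz, zpow_zero, mul_one]
        exact hlive j (hj.imp_right fun ⟨q, hq, e⟩ => ⟨q, List.mem_cons_of_mem _ hq, e⟩)
      · by_cases e : j = ⟨i, hi⟩
        · subst e; simp [hw]
        · rw [Pi.mul_apply, Pi.mulSingle_eq_of_ne e, mul_one]
          refine hone j fun h => ?_
          rcases h with h | ⟨q, hq, h⟩
          · exact hj (Or.inl h)
          · rcases List.mem_cons.1 hq with rfl | hq
            · exact e (Fin.ext h)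
            · exact hj (Or.inr ⟨q, hq, h⟩)
    let P : Fin D.rank := ⟨p, hp⟩
    let I : Fin D.rank := ⟨i, hi⟩
    obtain ⟨z, hz⟩ := exists_avoid (F := F) (Finset.univ : Finset (Fin D.rank))
      (fun j => T.cartan P (T.simp' j))
      (fun j => if j = I then sval D T c j else sval D T (c * Pi.mulSingle I w) j) (B := 5) (by
        refine le_of_eq_of_le ?_ (hB p hp)
        rw [Fin.sum_univ_eq_sum_range (fun j => (T.cartan p (T.simp' j)).natAbs) D.rank]
        rfl) (by omega)
    have hPlive : sval D T c P ≠ 1 := hlive P (hpS.imp_right fun ⟨q, hq, e⟩ => ⟨q, List.mem_cons_of_mem _ hq, e⟩)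
    have hIlive : sval D T c I ≠ 1 := hlive I (Or.inr ⟨_, List.mem_cons_self .., rfl⟩)
    have h1 := move_sval C K hPlive hcell z
    have h2 := move_sval C K (i := I) (by
      have := hz I (Finset.mem_univ _)
      rw [if_pos rfl] at this
      rw [sval_single]
      by_cases h0 : T.cartan P (T.simp' I) = 0
      · rw [h0, zpow_zero, mul_one]; exact hIlive
      · exact this h0) h1 w
    refine ih hrest _ (fun j hj => ?_) (fun j hj => ?_) h2
    · have hjI : j ≠ I := fun e => hiR (by simpa [e, I] using hj)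
      have h3 := hz j (Finset.mem_univ _)
      rw [if_neg hjI] at h3
      rw [mul_right_comm, sval_single]
      by_cases h0 : T.cartan P (T.simp' j) = 0
      swap
      · exact h3 h0
      rw [h0, zpow_zero, mul_one, sval_single]
      have hjP : (j : ℕ) ≠ p := fun e => by
        obtain rfl : j = P := Fin.ext e
        rw [C.spec.cart_simple P hp] at h0
        exact absurd h0 (by norm_num)
      have hz' : T.cartan i (T.simp' j) = 0 := by
        rcases hN j j.2 with (h | h) | h
        · exfalso; revert h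
          rcases hj with e | ⟨q, hq, e⟩
          · simp [e]
          · intro h
            simp only [Bool.or_eq_false_iff, List.any_eq_false] at h
            exact h.2 q hq (by simp [e])
        · exact absurd h hjP
        · exact h
      rw [show ((I : Fin D.rank) : ℕ) = i from rfl, hz', zpow_zero, mul_one]
      exact hlive j (hj.imp_right fun ⟨q, hq, e⟩ => ⟨q, List.mem_cons_of_mem _ hq, e⟩)
    · by_cases e : j = I
      · subst e
        simp [hw, I, P, Pi.mulSingle_eq_of_ne hne']
      · have eP : j ≠ P := fun h => hj (by simpa [h, P] using hpS)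
        rw [Pi.mul_apply, Pi.mul_apply, Pi.mulSingle_eq_of_ne e, Pi.mulSingle_eq_of_ne eP, mul_one, mul_one]
        refine hone j fun h => ?_
        rcases h with h | ⟨q, hq, h⟩
        · exact hj (Or.inl h)
        · rcases List.mem_cons.1 hq with rfl | hq
          · exact e (Fin.ext h)
          · exact hj (Or.inr ⟨q, hq, h⟩)

/-- From one live node to all. -/
theorem all_live {g : GL D.Idx F}
    (hB : ∀ p < D.rank, (((List.range D.rank).map fun j => (T.cartan p (T.simp' j)).natAbs).sum ≤ 5))
    (hconn : ∀ P : Fin D.rank → Prop,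
      (∀ a b : Fin D.rank, T.cartan a (T.simp' b) ≠ 0 → P a → P b) → ∀ a b, P a → P b)
    (c : Fin D.rank → Fˣ) (i : Fin D.rank) (hi : sval D T c i ≠ 1) (hcell : InCell g (torusHom D T F c)) :
    ∃ c', (∀ j, sval D T c' j ≠ 1) ∧ InCell g (torusHom D T F c') := by
  classical
  suffices key : ∀ (N : ℕ) (c : Fin D.rank → Fˣ), sval D T c i ≠ 1 → InCell g (torusHom D T F c) →
      (Finset.univ.filter fun j => sval D T c j = 1).card = N →
      ∃ c', (∀ j, sval D T c' j ≠ 1) ∧ InCell g (torusHom D T F c') from key _ c hi hcell rfl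
  intro N
  induction N using Nat.strong_induction_on with
  | _ N ih =>
    intro c hi hcell hN
    by_cases hall : ∀ j, sval D T c j ≠ 1
    · exact ⟨c, hall, hcell⟩
    push Not at hall
    obtain ⟨k0, hk0⟩ := hall
    obtain ⟨p, k, hA, hp, hk⟩ : ∃ a b : Fin D.rank, T.cartan a (T.simp' b) ≠ 0 ∧ sval D T c a ≠ 1 ∧
        sval D T c b = 1 := by
      by_contra h
      push Not at h
      exact hconn (fun a => sval D T c a ≠ 1) (fun a b hA ha => h a b hA ha) i k0 hi hk0
    obtain ⟨z, hz⟩ := exists_avoid (F := F) (Finset.univ : Finset (Fin D.rank))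
      (fun j => T.cartan p (T.simp' j)) (fun j => sval D T c j) (B := 5) (by
        refine le_of_eq_of_le ?_ (hB p p.2)
        rw [Fin.sum_univ_eq_sum_range (fun j => (T.cartan p (T.simp' j)).natAbs) D.rank]
        rfl) (by omega)
    have hkeep : ∀ j, sval D T c j ≠ 1 → sval D T (c * Pi.mulSingle p z) j ≠ 1 := fun j hj => by
      rw [sval_single]
      by_cases h0 : T.cartan p (T.simp' j) = 0
      · rw [h0, zpow_zero, mul_one]; exact hj
      · exact hz j (Finset.mem_univ _) h0
    refine ih _ ?_ _ (hkeep i hi) (move_sval C K hp hcell z) rfl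
    subst hN
    refine Finset.card_lt_card ⟨fun j hj => ?_, fun h => ?_⟩
    · simp only [Finset.mem_filter, Finset.mem_univ, true_and] at hj ⊢
      by_contra h
      exact hkeep j h hj
    · have := h (show k ∈ Finset.univ.filter fun j => sval D T c j = 1 by simp [hk])
      simp only [Finset.mem_filter, Finset.mem_univ, true_and] at this
      rw [sval_single] at this
      exact hz k (Finset.mem_univ _) hA this

omit hF in
/-- A torus element with all fundamental characters trivial is trivial. -/
theorem torusHom_eq_one {c : Fin D.rank → Fˣ} (h : ∀ j, sval D T c j = 1) : torusHom D T F c = 1 := by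
  rw [← MonoidHom.mem_ker, torusHom_ker C, MonoidHom.mem_ker]
  exact funext h

/-- A non-trivial element is conjugate into `V t U` with `t` non-trivial. -/
theorem exists_live {g : GL D.Idx F} (hg : g ∈ D.group F) (hne : g ≠ 1) :
    ∃ (c : Fin D.rank → Fˣ) (i : Fin D.rank), sval D T c i ≠ 1 ∧ InCell g (torusHom D T F c) := by
  classical
  obtain ⟨t, ht, hcell⟩ := exists_inCell C K hg
  rw [← torusHom_range C] at ht
  obtain ⟨c, rfl⟩ := ht
  by_cases hall : ∀ j, sval D T c j = 1
  swap
  · push Not at hall
    obtain ⟨i, hi⟩ := hall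
    exact ⟨c, i, hi, hcell⟩
  rw [torusHom_eq_one C K hall] at hcell
  obtain ⟨x, hx, v, hv, u, hu, e⟩ := hcell
  obtain ⟨w0, hw0, hmap⟩ := exists_opposition C K (F := F)
  have key : ∀ w, IsWord D w → (∃ (c : Fin D.rank → Fˣ) (i : Fin D.rank),
      sval D T c i ≠ 1 ∧ InCell g (torusHom D T F c)) ∨
      (wnu C F w * v * (wnu C F w)⁻¹ ∈ D.negUnipotent F ∧ wnu C F w * u * (wnu C F w)⁻¹ ∈ D.posUnipotent F) := by
    intro w hw
    induction w with
    | nil => exact Or.inr (by simpa [wnu] using And.intro hv hu)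
    | cons i w ih =>
      rcases ih hw.tail.2 with h | ⟨h1, h2⟩
      · exact Or.inl h
      have hi := hw.tail.1
      have hnu := nu_mem_levi C (F := F) hi (Set.mem_singleton i)
      by_cases hr : wnu C F w * v * (wnu C F w)⁻¹ ∈ negRad C F {i} ∧
          wnu C F w * u * (wnu C F w)⁻¹ ∈ D.unipotentRadical F {i}
      · refine Or.inr ?_
        rw [wnu_cons]
        constructor
        · rw [show nu C i * wnu C F w * v * (nu C i * wnu C F w)⁻¹ =
            nu C i * (wnu C F w * v * (wnu C F w)⁻¹) * (nu C i)⁻¹ by group]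
          exact negRad_le_neg C _ (conj_mem_of_normalizer (levi_le_normalizer_negRad C K _ hnu) hr.1)
        · rw [show nu C i * wnu C F w * u * (nu C i * wnu C F w)⁻¹ =
            nu C i * (wnu C F w * u * (wnu C F w)⁻¹) * (nu C i)⁻¹ by group]
          exact radical_le_pos C _ (conj_mem_of_normalizer (levi_le_normalizer C K _ hnu) hr.2)
      · refine Or.inl ?_
        obtain ⟨z, hz⟩ := exists_avoid (F := F) (Finset.univ : Finset Unit) (fun _ => (2 : ℤ)) (fun _ => 1) (B := 2)
          (by simp) (by omega)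
        have hz2 : z ^ (2 : ℤ) ≠ 1 := by simpa using hz () (Finset.mem_univ _) (by norm_num)
        refine ⟨Pi.mulSingle ⟨i, hi⟩ z, ⟨i, hi⟩, ?_, ?_⟩
        · rw [← one_mul (Pi.mulSingle _ _), sval_single, C.spec.cart_simple i hi, sval, map_one, Pi.one_apply, one_mul]
          exact hz2
        · have hm := move C K (g := g) (t := 1) (x := wnu C F w * x)
            (mul_mem (wnu_mem_group C hw.tail.2) hx) (one_mem _) hi h1 h2 (by
              rw [show wnu C F w * x * g * (wnu C F w * x)⁻¹ = wnu C F w * (x * g * x⁻¹) * (wnu C F w)⁻¹ by group, e]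
              group) (Or.inr (not_and_or.1 hr)) z.ne_zero
          rwa [one_mul, ← torusHom_single C ⟨i, hi⟩ z] at hm
  rcases key w0 hw0 with h | ⟨h1, h2⟩
  · exact h
  exfalso
  have hbot := (Subgroup.eq_bot_iff_forall _).1 (borel_inf_neg C (F := F))
  have hu1 : u = 1 := by
    have h3 : wnu C F w0 * u * (wnu C F w0)⁻¹ ∈ D.negUnipotent F := hmap ▸ Subgroup.mem_map_of_mem _ hu
    have := hbot _ ⟨Subgroup.mem_sup_left h2, h3⟩
    simpa using this
  have hv1 : v = 1 := by
    rw [← hmap] at h1
    obtain ⟨v', hv', e'⟩ := h1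
    have : v' = v := by simpa using e'
    exact hbot _ ⟨Subgroup.mem_sup_left (this ▸ hv'), hv⟩
  rw [hu1, hv1, mul_one, mul_one] at e
  exact hne (by simpa using e)

/-- A non-trivial element is conjugate to an element of `V U`. -/
theorem exists_vu {steps : List (ℕ × ℕ)} {root : ℕ} (hchk : chkOrder T steps root = true)
    (hconn : ∀ P : Fin D.rank → Prop,
      (∀ a b : Fin D.rank, T.cartan a (T.simp' b) ≠ 0 → P a → P b) → ∀ a b, P a → P b)
    {g : GL D.Idx F} (hg : g ∈ D.group F) (hne : g ≠ 1) :
    ∃ x ∈ D.group F, ∃ v ∈ D.negUnipotent F, ∃ u ∈ D.posUnipotent F, x * g * x⁻¹ = v * u := by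
  simp only [chkOrder, Bool.and_eq_true, allBelow_iff, decide_eq_true_eq, Bool.or_eq_true, Nat.beq_eq,
    List.any_eq_true, C.spec.shape.rank_eq] at hchk
  obtain ⟨⟨hsteps, hcover⟩, hB⟩ := hchk
  obtain ⟨c, i, hi, hcell⟩ := exists_live C K hF hg hne
  obtain ⟨c', hall, hcell'⟩ := all_live C K hF hB hconn c i hi hcell
  obtain ⟨x, hx, v, hv, u, hu, e⟩ := kill_all C K hF hB steps hsteps c' (fun j _ => hall j)
    (fun j hj => absurd (show remaining steps root j from (hcover j j.2).imp id fun ⟨q, hq, e⟩ => ⟨q, hq, e⟩) hj) hcell'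
  exact ⟨x, hx, v, hv, u, hu, by rw [e, mul_one]⟩

end Cfsg.Lib.ClassSquare
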