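import Cfsg.Agent.Lib.ClassSquare.ChevBlock
import Cfsg.Agent.Lib.ClassSquare.ChevGauss
import Cfsg.Agent.Lib.ClassSquare.Base

/-!
# A Chevalley group as the square of a conjugacy class

The class of `h x`, with `h` in the torus centralising a Levi subgroup with components of type `A` and `x`
regular unipotent in it.
-/

set_option autoImplicit false

namespace Cfsg.Lib.ClassSquare

open Cfsg.Lie Cfsg.Lib.Chev
open scoped Matrix MatrixGroups

/-- The components are disjoint. -/
def chkDisj : List Blk → Bool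
  | [] => true
  | b :: l => l.all (fun c => c.roots.all fun r => !b.roots.elem r) && chkDisj l

/-- The fundamental roots of all components. -/
def allSimples (bs : List Blk) : List ℕ := bs.flatMap Blk.simples

/-- The data for the class: the components, the exponents of the torus element and the word inverting it. -/
noncomputable def chkSys (T : Tbl) (J : List ℕ) (bs : List Blk) (m : List ℤ) (w : List ℕ) : Bool :=
  (bs.all (chkBlk T J) && chkDisj bs) &&
    ((List.range T.nroots).all (fun r =>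
        if inJb T J r then bs.any (fun b => b.roots.elem r) && decide (wtOf T m r = 0)
        else decide (1 ≤ (wtOf T m r).natAbs ∧ (wtOf T m r).natAbs ≤ 7)) &&
      (w.all (fun i => decide (i < T.rank)) &&
        ((List.range T.nroots).all (fun r => decide (wtOf T m (wperm T w r) = -wtOf T m r)) &&
          decide (((allSimples bs).map (wperm T w)).Perm (allSimples bs)))))

variable {D : ChevalleyDatum} {T : Tbl} {F : Type*} [Field F] (C : Cert D T)
include C

/-- The group of a list of components. -/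
def sysR (bs : List Blk) (F : Type*) [Field F] : Subgroup (GL D.Idx F) :=
  bs.foldr (fun b S => bR C b F ⊔ S) ⊥

/-- The lower part of a list of components. -/
def sysN (bs : List Blk) (F : Type*) [Field F] : Subgroup (GL D.Idx F) :=
  bs.foldr (fun b S => bN C b F ⊔ S) ⊥

/-- The upper part of a list of components. -/
def sysP (bs : List Blk) (F : Type*) [Field F] : Subgroup (GL D.Idx F) :=
  bs.foldr (fun b S => bP C b F ⊔ S) ⊥

/-- What is centralised by the conjugators of a list of components. -/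
def sysO (J : List ℕ) (bs : List Blk) (F : Type*) [Field F] : Subgroup (GL D.Idx F) :=
  bs.foldr (fun b S => bO C J b F ⊓ S) ⊤

theorem levi_le_group (J : Set ℕ) : D.leviSubgroup F J ≤ D.group F :=
  sup_le (diag_le_group C) ((Subgroup.closure_le _).2 fun g ⟨r, t, _, e⟩ => by
    rw [eq_xg C e]; exact xg_mem_group C r t)

theorem bN_le_bR (b : Blk) : bN C b F ≤ bR C b F :=
  Subgroup.closure_mono fun _ ⟨i, j, hi, hj, h, e⟩ => ⟨i, j, hi, hj, (ne_of_gt h), e⟩

theorem bP_le_bR (b : Blk) : bP C b F ≤ bR C b F :=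
  Subgroup.closure_mono fun _ ⟨i, j, hi, hj, h, e⟩ => ⟨i, j, hi, hj, (ne_of_lt h), e⟩

theorem sysN_le (bs : List Blk) : sysN C bs F ≤ sysR C bs F := by
  induction bs with
  | nil => exact le_rfl
  | cons b l ih => exact sup_le_sup (bN_le_bR C b) ih

theorem sysP_le (bs : List Blk) : sysP C bs F ≤ sysR C bs F := by
  induction bs with
  | nil => exact le_rfl
  | cons b l ih => exact sup_le_sup (bP_le_bR C b) ih

theorem bR_le_levi {J : List ℕ} {b : Blk} (h : chkBlk T J b = true) :
    bR C b F ≤ D.leviSubgroup F {j | j ∈ J} := by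
  refine (Subgroup.closure_le _).2 ?_
  rintro _ ⟨i, j, hi, hj, hij, t, rfl⟩
  exact xg_mem_levi C (blk_root C h hi hj hij).2.1 t

theorem sysR_le_levi {J : List ℕ} (bs : List Blk) (h : ∀ b ∈ bs, chkBlk T J b = true) :
    sysR C bs F ≤ D.leviSubgroup F {j | j ∈ J} := by
  induction bs with
  | nil => exact bot_le
  | cons b l ih =>
    exact sup_le (bR_le_levi C (h b (List.mem_cons_self ..))) (ih fun c hc => h c (List.mem_cons_of_mem _ hc))

theorem bR_le_bO {J : List ℕ} {b c : Blk} (hb : chkBlk T J b = true) (hd : ∀ r ∈ b.roots, r ∉ c.roots) :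
    bR C b F ≤ bO C J c F := by
  refine (Subgroup.closure_le _).2 ?_
  rintro _ ⟨i, j, hi, hj, hij, t, rfl⟩
  exact Subgroup.subset_closure ⟨_, (blk_root C hb hi hj hij).2.1, hd _ (mem_roots.2 ⟨i, j, hi, hj, hij, rfl⟩), t, rfl⟩

theorem sysR_le_bO {J : List ℕ} {b : Blk} (l : List Blk) (hl : ∀ c ∈ l, chkBlk T J c = true)
    (hd : ∀ c ∈ l, ∀ r ∈ c.roots, r ∉ b.roots) : sysR C l F ≤ bO C J b F := by
  induction l with
  | nil => exact bot_le
  | cons c l ih =>
    exact sup_le (bR_le_bO C (hl c (List.mem_cons_self ..)) (hd c (List.mem_cons_self ..)))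
      (ih (fun x hx => hl x (List.mem_cons_of_mem _ hx)) fun x hx => hd x (List.mem_cons_of_mem _ hx))

theorem bR_le_sysO {J : List ℕ} {b : Blk} (hb : chkBlk T J b = true) (l : List Blk)
    (hd : ∀ c ∈ l, ∀ r ∈ c.roots, r ∉ b.roots) : bR C b F ≤ sysO C J l F := by
  induction l with
  | nil => exact le_top
  | cons c l ih =>
    exact le_inf (bR_le_bO C hb fun r hr hrc => hd c (List.mem_cons_self ..) r hrc hr)
      (ih fun x hx => hd x (List.mem_cons_of_mem _ hx))

variable (K : FullCert D T)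
include K

theorem bR_commute_bO {J : List ℕ} {b : Blk} (h : chkBlk T J b = true) {g o : GL D.Idx F} (hg : g ∈ bR C b F)
    (ho : o ∈ bO C J b F) : Commute g o := by
  have hout := h
  simp only [chkBlk, chkBlkOut, Bool.and_eq_true, List.all_eq_true, Bool.or_eq_true, Bool.not_eq_true',
    decide_eq_true_eq, List.isEmpty_iff, List.elem_iff, C.spec.shape.nroots_eq] at hout
  obtain ⟨-, -, hout⟩ := hout
  have key : bR C b F ≤ Subgroup.centralizer (bO C J b F : Set (GL D.Idx F)) := by
    refine (Subgroup.closure_le _).2 ?_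
    rintro _ ⟨i, j, hi, hj, hij, u, rfl⟩
    refine Subgroup.mem_centralizer_iff.2 fun o ho => ?_
    induction ho using Subgroup.closure_induction with
    | mem o ho =>
      obtain ⟨r, hr, hrb, s, rfl⟩ := ho
      rcases hout r (List.mem_range.2 hr.1) with h1 | h1 | h1
      · rw [(inJb_iff C hr.1).2 hr] at h1; exact absurd h1 (by simp)
      · exact absurd h1 hrb
      · obtain ⟨h2, h3⟩ := h1.2 _ (mem_roots.2 ⟨i, j, hi, hj, hij, rfl⟩)
        exact (xg_commute C K hr.1 (blk_root C h hi hj hij).1 h2.1 h2.2 h3 s u).eq.symm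
    | one => simp
    | mul a c _ _ ha hc => rw [mul_assoc, hc, ← mul_assoc, ha, mul_assoc]
    | inv a _ ha => exact (Commute.inv_left (show Commute a _ from ha)).eq
  exact ((Subgroup.mem_centralizer_iff.1 (key hg)) o ho).symm

omit K in
theorem ConjIn.mul {J : List ℕ} {R₁ R₂ O₁ O₂ : Subgroup (GL D.Idx F)} {x₁ x₂ y₁ y₂ : GL D.Idx F}
    (h₁ : ConjIn D J R₁ O₁ y₁ x₁) (h₂ : ConjIn D J R₂ O₂ y₂ x₂) (hx₁ : x₁ ∈ R₁) (hR₁ : R₁ ≤ O₂) (hR₂ : R₂ ≤ O₁) :
    ConjIn D J (R₁ ⊔ R₂) (O₁ ⊓ O₂) (y₁ * y₂) (x₁ * x₂) := by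
  obtain ⟨hy₁, p, hp, hpc, rfl⟩ := h₁
  obtain ⟨hy₂, q, hq, hqc, rfl⟩ := h₂
  refine ⟨mul_mem (Subgroup.mem_sup_left hy₁) (Subgroup.mem_sup_right hy₂), p * q, mul_mem hp hq,
    fun o ho => (hpc o ho.1).mul_left (hqc o ho.2), ?_⟩
  have e1 : q * x₁ = x₁ * q := (hqc _ (hR₁ hx₁)).eq
  have e2 : p * (q * x₂ * q⁻¹) = q * x₂ * q⁻¹ * p := (hpc _ (hR₂ hy₂)).eq
  calc p * x₁ * p⁻¹ * (q * x₂ * q⁻¹) = p * x₁ * (p⁻¹ * (p * (q * x₂ * q⁻¹)) * p⁻¹) := by rw [e2]; group
    _ = p * (x₁ * q) * x₂ * (p * q)⁻¹ := by group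
    _ = _ := by rw [← e1]; group

omit K in
/-- Splitting a product of commuting root elements. -/
theorem prod_filter {S : ℕ → Bool} {R₁ R₂ : Subgroup (GL D.Idx F)} (hcomm : ∀ a ∈ R₁, ∀ b ∈ R₂, Commute a b) :
    ∀ L : List (ℕ × F), (∀ q ∈ L, S q.1 = true → xg C q.1 q.2 ∈ R₁) → (∀ q ∈ L, S q.1 = false → xg C q.1 q.2 ∈ R₂) →
      (L.map fun q => xg C q.1 q.2).prod = ((L.filter fun q => S q.1).map fun q => xg C q.1 q.2).prod *
        ((L.filter fun q => !S q.1).map fun q => xg C q.1 q.2).prod := by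
  intro L
  induction L with
  | nil => intro _ _; simp
  | cons q L ih =>
    intro h1 h2
    have ih' := ih (fun x hx => h1 x (List.mem_cons_of_mem _ hx)) fun x hx => h2 x (List.mem_cons_of_mem _ hx)
    rw [List.map_cons, List.prod_cons, ih']
    cases hS : S q.1
    · have hA : ((L.filter fun q => S q.1).map fun q => xg C q.1 q.2).prod ∈ R₁ := by
        refine list_prod_mem fun x hx => ?_
        obtain ⟨p, hp, rfl⟩ := List.mem_map.1 hx
        rw [List.mem_filter] at hp
        exact h1 p (List.mem_cons_of_mem _ hp.1) hp.2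
      simp [hS, ← mul_assoc, (hcomm _ hA _ (h2 q (List.mem_cons_self ..) hS)).eq]
    · simp [hS, mul_assoc]

variable [Fintype F]

/-- The regular unipotent element of the Levi subgroup. -/
theorem exists_sysData (hF : 4 ≤ Fintype.card F) {J : List ℕ} : ∀ bs : List Blk,
    (∀ b ∈ bs, chkBlk T J b = true) → chkDisj bs = true →
    ∃ x ∈ sysR C bs F, (∃ M : ℕ, x ^ (Fintype.card F ^ M) = 1) ∧ ConjIn D J (sysR C bs F) (sysO C J bs F) x⁻¹ x ∧
      (∀ L : List (ℕ × F), (L.map Prod.fst).Perm (allSimples bs) → (∀ q ∈ L, q.2 ≠ 0) →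
        ConjIn D J (sysR C bs F) (sysO C J bs F) (L.map fun q => xg C q.1 q.2).prod x) ∧
      ∀ v ∈ sysN C bs F, ∀ u ∈ sysP C bs F, ∃ y z, ConjIn D J (sysR C bs F) (sysO C J bs F) y x ∧
        ConjIn D J (sysR C bs F) (sysO C J bs F) z x ∧ v * u = y * z⁻¹ := by
  intro bs
  induction bs with
  | nil =>
    intro _ _
    have h1 : ConjIn D J (sysR C [] F) (sysO C J [] F) (1 : GL D.Idx F) 1 :=
      ⟨one_mem _, 1, one_mem _, fun o _ => Commute.one_left o, by simp⟩
    refine ⟨1, one_mem _, ⟨0, one_pow _⟩, by rw [inv_one]; exact h1, fun L hL _ => ?_, fun v hv u hu => ?_⟩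
    · have : L = [] := by simpa [allSimples] using hL
      subst this
      simpa using h1
    · rw [sysN, List.foldr_nil, Subgroup.mem_bot] at hv
      rw [sysP, List.foldr_nil, Subgroup.mem_bot] at hu
      exact ⟨1, 1, h1, h1, by simp [hv, hu]⟩
  | cons b l ih =>
    intro hchk hdisj
    simp only [chkDisj, Bool.and_eq_true, List.all_eq_true, Bool.not_eq_true', List.elem_iff] at hdisj
    obtain ⟨hd, hdl⟩ := hdisj
    have hd' : ∀ c ∈ l, ∀ r ∈ c.roots, r ∉ b.roots := fun c hc r hr hrb => by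
      have := hd c hc r hr
      rw [Bool.eq_false_iff] at this; exact this (List.elem_iff.2 hrb)
    have hb := hchk b (List.mem_cons_self ..)
    have hl : ∀ c ∈ l, chkBlk T J c = true := fun c hc => hchk c (List.mem_cons_of_mem _ hc)
    obtain ⟨x₁, hx₁, ⟨M₁, hM₁⟩, hi₁, hs₁, hp₁⟩ := exists_blkData C K hF hb
    obtain ⟨x₂, hx₂, ⟨M₂, hM₂⟩, hi₂, hs₂, hp₂⟩ := ih hl hdl
    have hR₂ : sysR C l F ≤ bO C J b F := sysR_le_bO C l hl hd'
    have hR₁ : bR C b F ≤ sysO C J l F := bR_le_sysO C hb l hd'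
    have hcomm : ∀ a ∈ bR C b F, ∀ c ∈ sysR C l F, Commute a c := fun a ha c hc => bR_commute_bO C K hb ha (hR₂ hc)
    refine ⟨x₁ * x₂, mul_mem (Subgroup.mem_sup_left hx₁) (Subgroup.mem_sup_right hx₂), ⟨M₁ + M₂, ?_⟩, ?_,
      fun L hL hL0 => ?_, fun v hv u hu => ?_⟩
    · rw [(hcomm _ hx₁ _ hx₂).mul_pow, pow_add, pow_mul, hM₁, one_pow, one_mul, mul_comm, pow_mul, hM₂, one_pow]
    · rw [_root_.mul_inv_rev, ← ((hcomm _ hx₁ _ hx₂).inv_inv).eq]
      exact ConjIn.mul C hi₁ hi₂ hx₁ hR₁ hR₂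
    · have hsr : ∀ r ∈ b.simples, r ∈ b.roots := by
        intro r hr
        obtain ⟨i, hi, rfl⟩ := List.mem_map.1 hr
        rw [List.mem_range] at hi
        exact mem_roots.2 ⟨i, i + 1, by omega, by omega, by omega, rfl⟩
      have hnr : ∀ r ∈ allSimples l, r ∉ b.roots := by
        intro r hr
        obtain ⟨c, hc, hr⟩ := List.mem_flatMap.1 hr
        obtain ⟨i, hi, rfl⟩ := List.mem_map.1 hr
        rw [List.mem_range] at hi
        exact hd' c hc _ (mem_roots.2 ⟨i, i + 1, by omega, by omega, by omega, rfl⟩)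
      have hmem : ∀ q ∈ L, q.1 ∈ b.simples ∨ q.1 ∈ allSimples l := fun q hq => by
        simpa [allSimples] using hL.subset (List.mem_map.2 ⟨q, hq, rfl⟩)
      have hmem2 : ∀ q ∈ L, q.1 ∈ allSimples l → xg C q.1 q.2 ∈ sysR C l F := by
        have : ∀ (l : List Blk) (r : ℕ), r ∈ allSimples l → ∀ t : F, xg C r t ∈ sysR C l F := by
          intro l
          induction l with
          | nil => intro r hr; simp [allSimples] at hr
          | cons c l ih =>
            intro r hr t
            simp only [allSimples, List.flatMap_cons, List.mem_append] at hr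
            rcases hr with hr | hr
            · obtain ⟨i, hi, rfl⟩ := List.mem_map.1 hr
              rw [List.mem_range] at hi
              exact Subgroup.mem_sup_left (Subgroup.subset_closure ⟨i, i + 1, by omega, by omega, by omega, t, rfl⟩)
            · exact Subgroup.mem_sup_right (ih r hr t)
        exact fun q _ hq => this l _ hq _
      rw [prod_filter C (S := fun r => b.roots.elem r) hcomm L
        (fun q hq hS => by
          obtain ⟨i, j, hi, hj, hij, e⟩ := mem_roots.1 (List.elem_iff.1 hS)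
          rw [e]; exact Subgroup.subset_closure ⟨i, j, hi, hj, hij, _, rfl⟩)
        (fun q hq hS => hmem2 q hq ((hmem q hq).resolve_left fun h => by
          rw [List.elem_iff.2 (hsr _ h)] at hS; exact absurd hS (by simp)))]
      have hfb : b.simples.filter (fun r => b.roots.elem r) = b.simples :=
        List.filter_eq_self.2 fun r hr => List.elem_iff.2 (hsr r hr)
      have hfl : (allSimples l).filter (fun r => b.roots.elem r) = [] :=
        List.filter_eq_nil_iff.2 fun r hr h => hnr r hr (List.elem_iff.1 h)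
      have hgb : b.simples.filter (fun r => !b.roots.elem r) = [] :=
        List.filter_eq_nil_iff.2 fun r hr h => by rw [List.elem_iff.2 (hsr r hr)] at h; exact absurd h (by simp)
      have hgl : (allSimples l).filter (fun r => !b.roots.elem r) = allSimples l :=
        List.filter_eq_self.2 fun r hr => by
          cases h : b.roots.elem r
          · rfl
          · exact absurd (List.elem_iff.1 h) (hnr r hr)
      have hP1 := hL.filter (fun r => b.roots.elem r)
      have hP2 := hL.filter (fun r => !b.roots.elem r)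
      rw [show allSimples (b :: l) = b.simples ++ allSimples l from List.flatMap_cons, List.filter_append,
        hfb, hfl, List.append_nil, List.filter_map] at hP1
      rw [show allSimples (b :: l) = b.simples ++ allSimples l from List.flatMap_cons, List.filter_append,
        hgb, hgl, List.nil_append, List.filter_map] at hP2
      exact ConjIn.mul C (hs₁ _ ⟨_, hP1, fun q hq => hL0 q (List.mem_of_mem_filter hq), rfl⟩)
        (hs₂ _ hP2 fun q hq => hL0 q (List.mem_of_mem_filter hq)) hx₁ hR₁ hR₂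
    · have hN : sysN C l F ≤ Subgroup.normalizer (bN C b F : Set (GL D.Idx F)) := fun a ha => by
        refine Subgroup.mem_normalizer_iff.2 fun z => ⟨fun hz => ?_, fun hz => ?_⟩
        · rwa [← (hcomm z (bN_le_bR C b hz) a (sysN_le C l ha)).eq, mul_inv_cancel_right]
        · have e := (hcomm _ (bN_le_bR C b hz) a (sysN_le C l ha)).eq
          have : z = a * z * a⁻¹ := by
            have h' : a * z = a * (a * z * a⁻¹) := by rw [← e]; group
            exact mul_left_cancel h'
          rw [this]; exact hz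
      have hP : sysP C l F ≤ Subgroup.normalizer (bP C b F : Set (GL D.Idx F)) := fun a ha => by
        refine Subgroup.mem_normalizer_iff.2 fun z => ⟨fun hz => ?_, fun hz => ?_⟩
        · rwa [← (hcomm z (bP_le_bR C b hz) a (sysP_le C l ha)).eq, mul_inv_cancel_right]
        · have e := (hcomm _ (bP_le_bR C b hz) a (sysP_le C l ha)).eq
          have : z = a * z * a⁻¹ := by
            have h' : a * z = a * (a * z * a⁻¹) := by rw [← e]; group
            exact mul_left_cancel h'
          rw [this]; exact hz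
      obtain ⟨v₁, hv₁, v₂, hv₂, rfl⟩ := sup_split hN hv
      obtain ⟨u₁, hu₁, u₂, hu₂, rfl⟩ := sup_split hP hu
      obtain ⟨y₁, z₁, hy₁, hz₁, e₁⟩ := hp₁ v₁ hv₁ u₁ hu₁
      obtain ⟨y₂, z₂, hy₂, hz₂, e₂⟩ := hp₂ v₂ hv₂ u₂ hu₂
      refine ⟨y₁ * y₂, z₁ * z₂, ConjIn.mul C hy₁ hy₂ hx₁ hR₁ hR₂, ConjIn.mul C hz₁ hz₂ hx₁ hR₁ hR₂, ?_⟩
      calc v₁ * v₂ * (u₁ * u₂) = v₁ * (v₂ * u₁) * u₂ := by group
        _ = (v₁ * u₁) * (v₂ * u₂) := by
          rw [← (hcomm u₁ (bP_le_bR C b hu₁) v₂ (sysN_le C l hv₂)).eq]; group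
        _ = y₁ * (z₁⁻¹ * y₂) * z₂⁻¹ := by rw [e₁, e₂]; group
        _ = y₁ * (y₂ * z₁⁻¹) * z₂⁻¹ := by rw [((hcomm z₁ hz₁.1 y₂ hy₂.1).inv_left).eq]
        _ = y₁ * y₂ * (z₁⁻¹ * z₂⁻¹) := by group
        _ = _ := by rw [((hcomm z₁ hz₁.1 z₂ hz₂.1).inv_inv).eq, _root_.mul_inv_rev]

omit [Fintype F] in
/-- An element of `upper k` fixed by a torus element is generated by fixed root elements. -/
theorem mem_fixed_upper {h : GL D.Idx F} (hh : h ∈ D.diagonalSubgroup F) (m : ℕ) : ∀ {k : ℕ}, D.nroots ≤ 2 * k →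
    k + m = D.nroots → ∀ {u : GL D.Idx F}, u ∈ upper C F k → Commute h u →
      u ∈ Subgroup.closure {g | ∃ r : ℕ, r < D.nroots ∧ ∃ t : F, g = xg C r t ∧ Commute h g} := by
  induction m with
  | zero =>
    intro k _ hkm u hu _
    rw [upper_top C (by omega), Subgroup.mem_bot] at hu
    rw [hu]; exact one_mem _
  | succ m ih =>
    intro k hk hkm u hu hc
    obtain ⟨t, b, hb, rfl⟩ := (upper_step C K.comm hk).1 hu
    obtain ⟨χ, hχ⟩ := diag_conj_xg C hh
    have hb' : h * b * h⁻¹ ∈ upper C F (k + 1) := conj_mem_of_normalizer (diag_le_normalizer_upper C _ hh) hb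
    have e : xg C k (χ k * t) * (h * b * h⁻¹) = xg C k t * b := by
      rw [← (hχ k (by omega)).2 t,
        show h * xg C k t * h⁻¹ * (h * b * h⁻¹) = h * (xg C k t * b) * h⁻¹ by group, hc.eq, mul_inv_cancel_right]
    obtain ⟨e1, e2⟩ := upper_unique C hk (by omega) hb' hb e
    have hcx : Commute h (xg C k t) := by
      have := (hχ k (by omega)).2 t
      rw [e1, mul_inv_eq_iff_eq_mul] at this
      exact this
    refine mul_mem (Subgroup.subset_closure ⟨k, by omega, t, rfl, hcx⟩) (ih (by omega) (by omega) hb ?_)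
    rw [mul_inv_eq_iff_eq_mul] at e2
    exact e2

omit [Fintype F] in
theorem mem_fixed_pos {h : GL D.Idx F} (hh : h ∈ D.diagonalSubgroup F) {u : GL D.Idx F}
    (hu : u ∈ D.posUnipotent F) (hc : Commute h u) :
    u ∈ Subgroup.closure {g | ∃ r : ℕ, r < D.nroots ∧ ∃ t : F, g = xg C r t ∧ Commute h g} := by
  have hev := nroots_even C
  rw [posUnipotent_eq C] at hu
  exact mem_fixed_upper C K hh (D.nroots / 2) (k := D.nroots / 2) (by omega) (by omega) hu hc

omit [Fintype F] in
theorem mem_fixed_neg {h : GL D.Idx F} (hh : h ∈ D.diagonalSubgroup F) {v : GL D.Idx F}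
    (hv : v ∈ D.negUnipotent F) (hc : Commute h v) :
    v ∈ Subgroup.closure {g | ∃ r : ℕ, r < D.nroots ∧ ∃ t : F, g = xg C r t ∧ Commute h g} := by
  obtain ⟨w, hw, hmap⟩ := exists_opposition C K (F := F)
  rw [← hmap] at hv
  obtain ⟨u, hu, rfl⟩ := hv
  set n := wnu C F w
  have hh' : n⁻¹ * h * n ∈ D.diagonalSubgroup F := (conj_mem_diag C (wnu_mem C hw) hh).2
  have hc' : Commute (n⁻¹ * h * n) u := by
    have h1 : h * (n * u * n⁻¹) = n * u * n⁻¹ * h := hc
    show n⁻¹ * h * n * u = u * (n⁻¹ * h * n)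
    calc n⁻¹ * h * n * u = n⁻¹ * (h * (n * u * n⁻¹)) * n := by group
      _ = _ := by rw [h1]; group
  have := Subgroup.mem_map_of_mem (MulAut.conj n).toMonoidHom (mem_fixed_pos C K hh' hu hc')
  rw [MonoidHom.map_closure] at this
  refine Subgroup.closure_mono ?_ this
  rintro _ ⟨g, ⟨r, hr, t, rfl, hg⟩, rfl⟩
  obtain ⟨c, -, hct⟩ := wnu_conj_xg C (F := F) hw hr
  refine ⟨_, wperm_lt C hw hr, c * t, hct t, ?_⟩
  show h * (n * xg C r t * n⁻¹) = n * xg C r t * n⁻¹ * h
  calc h * (n * xg C r t * n⁻¹) = n * (n⁻¹ * h * n * xg C r t) * n⁻¹ := by group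
    _ = _ := by rw [hg.eq]; group

/-- A Chevalley group is the square of a conjugacy class. -/
theorem chev_square (hF : 9 ≤ Fintype.card F) {J : List ℕ} {bs : List Blk} {m : List ℤ} {w : List ℕ}
    {steps : List (ℕ × ℕ)} {root : ℕ} (hsys : chkSys T J bs m w = true) (hord : chkOrder T steps root = true)
    (hconn : ∀ P : Fin D.rank → Prop,
      (∀ a b : Fin D.rank, T.cartan a (T.simp' b) ≠ 0 → P a → P b) → ∀ a b, P a → P b) :
    ∃ c : ↥(D.group F), ∀ g : ↥(D.group F), ∃ x y : ↥(D.group F), g = (x * c * x⁻¹) * (y * c * y⁻¹) := by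
  classical
  simp only [chkSys, Bool.and_eq_true, List.all_eq_true, decide_eq_true_eq, List.mem_range, C.spec.shape.rank_eq,
    C.spec.shape.nroots_eq] at hsys
  obtain ⟨⟨hchk, hdisj⟩, hwts, hword, hneg, hperm⟩ := hsys
  set JS : Set ℕ := {j | j ∈ J} with hJS
  obtain ⟨x, hx, ⟨M, hM⟩, hinv, hsimp, hpair⟩ := exists_sysData C K (F := F) (by omega) bs hchk hdisj
  obtain ⟨ω, hω⟩ := IsCyclic.exists_generator (α := Fˣ)
  have hωo : orderOf ω = Fintype.card F - 1 := by
    rw [orderOf_eq_card_of_forall_mem_zpowers hω, Nat.card_eq_fintype_card, Fintype.card_units]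
  set h : GL D.Idx F := tpow (D := D) (T := T) ω m with hh
  have hhd : h ∈ D.diagonalSubgroup F := tpow_mem C ω m
  have hroot : ∀ r < D.nroots, ∀ t : F, t ≠ 0 → Commute h (xg C r t) → D.InRootSub JS r := by
    intro r hr t ht hc
    have := hwts r hr
    split_ifs at this with hJ
    · exact (inJb_iff C hr).1 hJ
    rw [decide_eq_true_eq] at this
    exfalso
    have h1 := tpow_conj_xg C ω m hr t
    rw [← hh, hc.eq, mul_inv_cancel_right] at h1
    have h2 : xg C r ((ω : F) ^ wtOf T m r * t + -t) = 1 := by rw [← xg_add, ← h1, xg_add, add_neg_cancel, xg_zero]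
    have h3 := xg_eq_one C hr h2
    have h4 : (ω : F) ^ wtOf T m r = 1 := mul_right_cancel₀ ht (by linear_combination h3)
    have h5 : ω ^ wtOf T m r = 1 := Units.ext (by rw [Units.val_zpow_eq_zpow_val, h4, Units.val_one])
    rw [← orderOf_dvd_iff_zpow_eq_one, hωo, Int.natCast_dvd] at h5
    have := Nat.le_of_dvd (by omega) h5
    omega
  have hfix : Subgroup.closure {g | ∃ r : ℕ, r < D.nroots ∧ ∃ t : F, g = xg C r t ∧ Commute h g} ≤
      D.leviSubgroup F JS := by
    refine (Subgroup.closure_le _).2 ?_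
    rintro _ ⟨r, hr, t, rfl, hc⟩
    by_cases ht : t = 0
    · rw [ht, xg_zero]; exact one_mem _
    · exact xg_mem_levi C (hroot r hr t ht hc) t
  have hLh : ∀ g ∈ D.leviSubgroup F JS, Commute h g := by
    have : D.leviSubgroup F JS ≤ Subgroup.centralizer ({h} : Set (GL D.Idx F)) := by
      refine sup_le (fun g hg => Subgroup.mem_centralizer_singleton_iff.2 (diag_mul_comm C hg hhd))
        ((Subgroup.closure_le _).2 ?_)
      rintro g ⟨r, t, hr, e⟩
      rw [eq_xg C e]
      refine Subgroup.mem_centralizer_singleton_iff.2 ?_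
      have h0 := hwts r hr.1
      rw [if_pos ((inJb_iff C hr.1).2 hr), Bool.and_eq_true, decide_eq_true_eq] at h0
      have h1 := tpow_conj_xg C ω m hr.1 t
      rw [h0.2, zpow_zero, one_mul, mul_inv_eq_iff_eq_mul] at h1
      exact h1.symm
    intro g hg
    exact (Subgroup.mem_centralizer_singleton_iff.1 (this hg)).symm
  have hRlevi : sysR C bs F ≤ D.leviSubgroup F JS := sysR_le_levi C bs hchk
  have hxL := hRlevi hx
  have hhx : Commute h x := hLh x hxL
  set c : GL D.Idx F := h * x with hc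
  have hcL : c ∈ D.leviSubgroup F JS := mul_mem (Subgroup.mem_sup_left hhd) hxL
  have hhpow : h ^ (Fintype.card F ^ M) = h := by
    rw [hh, tpow, ← map_pow]
    congr 1
    funext j
    have : ∀ a : Fˣ, a ^ (Fintype.card F ^ M) = a := fun a => Units.ext (by
      rw [Units.val_pow_eq_pow_val, FiniteField.pow_card_pow])
    exact this _
  have hfree : ∀ n, Commute c n → Commute h n := fun n hn => by
    have := commute_pow_of_commute hhx hM hn
    rwa [hhpow] at this
  let G := ↥(D.group F)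
  let cG : G := ⟨c, levi_le_group C JS hcL⟩
  haveI : Finite G := inferInstance
  let U : Subgroup G := (D.unipotentRadical F JS).subgroupOf (D.group F)
  let V : Subgroup G := (negRad C F JS).subgroupOf (D.group F)
  have hNU : ∀ u ∈ U, cG * u * cG⁻¹ ∈ U := fun u hu => conj_mem_of_normalizer (levi_le_normalizer C K JS hcL) hu
  have hNV : ∀ u ∈ V, cG * u * cG⁻¹ ∈ V := fun u hu =>
    conj_mem_of_normalizer (levi_le_normalizer_negRad C K JS hcL) hu
  have hCU : ∀ n ∈ U, cG * n = n * cG → n = 1 := fun n hn e => Subtype.ext <| by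
    have h1 : Commute h (n : GL D.Idx F) := hfree _ (congrArg Subtype.val e)
    exact (Subgroup.eq_bot_iff_forall _).1 (radical_inf_levi C K JS) _
      ⟨hn, hfix (mem_fixed_pos C K hhd (radical_le_pos C JS hn) h1)⟩
  have hCV : ∀ n ∈ V, cG * n = n * cG → n = 1 := fun n hn e => Subtype.ext <| by
    have h1 : Commute h (n : GL D.Idx F) := hfree _ (congrArg Subtype.val e)
    exact (Subgroup.eq_bot_iff_forall _).1 (negRad_inf_levi C K JS) _
      ⟨hn, hfix (mem_fixed_neg C K hhd (negRad_le_neg C JS hn) h1)⟩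
  refine square_of_cover (MonoidHom.id G) Function.surjective_id (c := cG) ?_ fun g => ?_
  · -- the class is its own inverse
    obtain ⟨-, p, hp, -, hpx⟩ := hinv
    let L₀ : List (ℕ × F) := (allSimples bs).map fun r => (r, (1 : F))
    have hL₀ : (L₀.map Prod.fst).Perm (allSimples bs) := by
      simp [L₀, List.map_map, Function.comp_def]
    obtain ⟨hy₀, q, hq, -, hqx⟩ := hsimp L₀ hL₀ fun a ha => by
      obtain ⟨r, -, rfl⟩ := List.mem_map.1 ha; exact one_ne_zero
    set y₀ := (L₀.map fun a => xg C a.1 a.2).prod with hy₀d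
    have hW : IsWord D w := fun i hi => hword i hi
    set n := wnu C F w with hn
    have hsl : ∀ r ∈ allSimples bs, r < D.nroots := by
      intro r hr
      obtain ⟨b, hb, hr⟩ := List.mem_flatMap.1 hr
      obtain ⟨i, hi, rfl⟩ := List.mem_map.1 hr
      rw [List.mem_range] at hi
      exact (blk_root C (hchk b hb) (by omega) (by omega) (by omega)).1
    have hy₁ : ∃ L : List (ℕ × F), L.map Prod.fst = (allSimples bs).map (wperm T w) ∧ (∀ a ∈ L, a.2 ≠ 0) ∧
        n * y₀ * n⁻¹ = (L.map fun a => xg C a.1 a.2).prod := by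
      have : ∀ S : List ℕ, (∀ r ∈ S, r < D.nroots) → ∃ L : List (ℕ × F), L.map Prod.fst = S.map (wperm T w) ∧
          (∀ a ∈ L, a.2 ≠ 0) ∧
          n * ((S.map fun r => (r, (1 : F))).map fun a => xg C a.1 a.2).prod * n⁻¹ =
            (L.map fun a => xg C a.1 a.2).prod := by
        intro S
        induction S with
        | nil => intro _; exact ⟨[], by simp, by simp, by simp⟩
        | cons r S ih =>
          intro hS
          obtain ⟨L, h1, h2, h3⟩ := ih fun a ha => hS a (List.mem_cons_of_mem _ ha)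
          obtain ⟨e, he, het⟩ := wnu_conj_xg C (F := F) hW (hS r (List.mem_cons_self ..))
          refine ⟨(wperm T w r, e * 1) :: L, by simp [h1], ?_, ?_⟩
          · intro a ha
            rcases List.mem_cons.1 ha with rfl | ha
            · exact mul_ne_zero (left_ne_zero_of_mul (by rw [he]; exact one_ne_zero)) one_ne_zero
            · exact h2 a ha
          · simp only [List.map_cons, List.prod_cons]
            rw [← het, ← h3]
            simp only [hn]
            group
      exact this _ hsl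
    obtain ⟨L₁, h1, h2, h3⟩ := hy₁
    obtain ⟨-, q₁, hq₁, -, hq₁x⟩ := hsimp L₁ (h1 ▸ hperm) h2
    have hnh : n * h * n⁻¹ = h⁻¹ := by
      have hd : n * h * n⁻¹ * h ∈ D.diagonalSubgroup F :=
        mul_mem (conj_mem_diag C (wnu_mem C hW) hhd).1 hhd
      refine eq_inv_of_mul_eq_one_left (diag_eq_one_of_comm C hd fun r hr => ?_)
      have hs : wperm T w.reverse r < D.nroots := wperm_lt C hW.reverse hr
      obtain ⟨e, he, het⟩ := wnu_conj_xg C (F := F) hW hs
      have hwr : wperm T w (wperm T w.reverse r) = r := by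
        have := wperm_reverse C hW.reverse hr
        rwa [List.reverse_reverse] at this
      rw [hwr] at het
      have hd0 := hneg _ hs
      rw [hwr] at hd0
      rw [← mul_inv_eq_iff_eq_mul]
      have e1 : n⁻¹ * xg C r (((ω : F) ^ wtOf T m r) * 1) * n =
          xg C (wperm T w.reverse r) (e * ((ω : F) ^ wtOf T m r * 1)) := by
        have := het (e * ((ω : F) ^ wtOf T m r * 1))
        rw [← mul_assoc e e, he, one_mul] at this
        simp only [hn]
        rw [← this]; group
      calc n * h * n⁻¹ * h * xg C r 1 * (n * h * n⁻¹ * h)⁻¹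
          = n * (h * (n⁻¹ * (h * xg C r 1 * h⁻¹) * n) * h⁻¹) * n⁻¹ := by group
        _ = n * (h * xg C (wperm T w.reverse r) (e * ((ω : F) ^ wtOf T m r * 1)) * h⁻¹) * n⁻¹ := by
          rw [tpow_conj_xg C ω m hr, e1]
        _ = xg C r 1 := by
          rw [tpow_conj_xg C ω m hs, het]
          congr 1
          rw [hd0, zpow_neg]
          field_simp
          linear_combination he
    have hconjG : ∀ {a b z : GL D.Idx F} (ha : a ∈ D.group F) (hb : b ∈ D.group F), z ∈ D.group F →
        z * a * z⁻¹ = b → IsConj (⟨a, ha⟩ : G) ⟨b, hb⟩ := fun _ _ hz e =>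
      isConj_iff.2 ⟨⟨_, hz⟩, Subtype.ext e⟩
    rw [MonoidHom.id_apply]
    show IsConj cG cG⁻¹
    refine hconjG (levi_le_group C JS hcL) _
      (mul_mem (levi_le_group C JS hp) (mul_mem (inv_mem (levi_le_group C JS hq₁))
        (mul_mem (wnu_mem_group C hW) (levi_le_group C JS hq)))) ?_
    show p * (q₁⁻¹ * (n * q)) * (h * x) * (p * (q₁⁻¹ * (n * q)))⁻¹ = (h * x)⁻¹
    calc p * (q₁⁻¹ * (n * q)) * (h * x) * (p * (q₁⁻¹ * (n * q)))⁻¹
        = p * (q₁⁻¹ * (n * (q * h * q⁻¹ * (q * x * q⁻¹)) * n⁻¹) * q₁) * p⁻¹ := by group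
      _ = p * (q₁⁻¹ * (n * h * n⁻¹ * (n * y₀ * n⁻¹)) * q₁) * p⁻¹ := by
        rw [← (hLh q hq).eq, mul_inv_cancel_right, ← hqx]; group
      _ = p * (q₁⁻¹ * h⁻¹ * q₁ * (q₁⁻¹ * (q₁ * x * q₁⁻¹) * q₁)) * p⁻¹ := by
        rw [hnh, h3, hq₁x]; group
      _ = (p * h⁻¹ * p⁻¹) * (p * x * p⁻¹) := by
        rw [show q₁⁻¹ * h⁻¹ * q₁ = h⁻¹ by rw [mul_assoc, ((hLh q₁ hq₁).inv_left).eq, inv_mul_cancel_left]]
        group
      _ = h⁻¹ * x⁻¹ := by rw [← hpx, ← ((hLh p hp).inv_left).eq, mul_inv_cancel_right]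
      _ = (h * x)⁻¹ := by rw [hhx.eq, _root_.mul_inv_rev]
  · by_cases hg : g = 1
    · exact Or.inl hg
    refine Or.inr ⟨1, rfl, ?_⟩
    rw [one_mul]
    obtain ⟨z, hz, v, hv, u, hu, e⟩ := exists_vu C K (by omega) hord hconn g.2 (fun e => hg (Subtype.ext e))
    have hcov : ∀ r, D.InRootSub JS r → ∃ b ∈ bs, ∃ i j, i < b.k ∧ j < b.k ∧ i ≠ j ∧ r = b.ρ i j := by
      intro r hr
      have h0 := hwts r hr.1
      rw [if_pos ((inJb_iff C hr.1).2 hr), Bool.and_eq_true, List.any_eq_true] at h0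
      obtain ⟨⟨b, hb, h0⟩, -⟩ := h0
      exact ⟨b, hb, mem_roots.1 (List.elem_iff.1 h0)⟩
    have hmemN : ∀ (l : List Blk) (b : Blk), b ∈ l → ∀ i j, i < b.k → j < b.k → j < i → ∀ t : F,
        xg C (b.ρ i j) t ∈ sysN C l F := by
      intro l
      induction l with
      | nil => intro b hb; simp at hb
      | cons a l ih =>
        intro b hb i j hi hj hij t
        rcases List.mem_cons.1 hb with rfl | hb
        · exact Subgroup.mem_sup_left (Subgroup.subset_closure ⟨i, j, hi, hj, hij, t, rfl⟩)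
        · exact Subgroup.mem_sup_right (ih b hb i j hi hj hij t)
    have hmemP : ∀ (l : List Blk) (b : Blk), b ∈ l → ∀ i j, i < b.k → j < b.k → i < j → ∀ t : F,
        xg C (b.ρ i j) t ∈ sysP C l F := by
      intro l
      induction l with
      | nil => intro b hb; simp at hb
      | cons a l ih =>
        intro b hb i j hi hj hij t
        rcases List.mem_cons.1 hb with rfl | hb
        · exact Subgroup.mem_sup_left (Subgroup.subset_closure ⟨i, j, hi, hj, hij, t, rfl⟩)
        · exact Subgroup.mem_sup_right (ih b hb i j hi hj hij t)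
    have hV : D.negUnipotent F ≤ negRad C F JS ⊔ sysN C bs F := by
      refine (Subgroup.closure_le _).2 ?_
      rintro a ⟨r, t, hr, e'⟩
      rw [eq_xg C e']
      have hrn := (C.isNeg_iff hr.1).1 hr
      by_cases hJ : D.InRootSub JS r
      · obtain ⟨b, hb, i, j, hi, hj, hij, rfl⟩ := hcov r hJ
        have h0 := (blk_root C (hchk b hb) hi hj hij).2.2.2.1
        exact Subgroup.mem_sup_right (hmemN bs b hb i j hi hj (by
          rcases lt_or_gt_of_ne hij with h | h
          · have := h0.2 h; omega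
          · exact h) t)
      · exact Subgroup.mem_sup_left (xg_mem_negRad C hr.1 hrn hJ t)
    have hU : D.posUnipotent F ≤ D.unipotentRadical F JS ⊔ sysP C bs F := by
      refine (Subgroup.closure_le _).2 ?_
      rintro a ⟨r, t, hr, e'⟩
      rw [eq_xg C e']
      have hrp := (C.isPos_iff hr.1).1 hr
      by_cases hJ : D.InRootSub JS r
      · obtain ⟨b, hb, i, j, hi, hj, hij, rfl⟩ := hcov r hJ
        exact Subgroup.mem_sup_right (hmemP bs b hb i j hi hj ((blk_root C (hchk b hb) hi hj hij).2.2.2.1.1 hrp) t)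
      · exact Subgroup.mem_sup_left (xg_mem_radical C hr.1 hrp hJ t)
    obtain ⟨v', hv', vJ, hvJ, rfl⟩ :=
      sup_split (((sysN_le C bs).trans hRlevi).trans (levi_le_normalizer_negRad C K JS)) (hV hv)
    obtain ⟨uJ, huJ, u', hu', rfl⟩ :=
      sup_split' (((sysP_le C bs).trans hRlevi).trans (levi_le_normalizer C K JS)) (hU hu)
    obtain ⟨y₁, y₂, ⟨-, p₁, hp₁, -, rfl⟩, ⟨-, p₂, hp₂, -, rfl⟩, epair⟩ := hpair vJ hvJ uJ huJ
    let pG : G := ⟨p₁, levi_le_group C JS hp₁⟩
    let qG : G := ⟨p₂, levi_le_group C JS hp₂⟩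
    let vG : G := ⟨v', neg_le_group C (negRad_le_neg C JS hv')⟩
    let uG : G := ⟨u', pos_le_group C (radical_le_pos C JS hu')⟩
    have hxV : pG⁻¹ * vG * pG ∈ V := by
      have := conj_mem_of_normalizer (levi_le_normalizer_negRad C K JS (inv_mem hp₁)) hv'
      rw [inv_inv] at this
      exact this
    have hyU : qG⁻¹ * uG⁻¹ * qG ∈ U := by
      have := conj_mem_of_normalizer (levi_le_normalizer C K JS (inv_mem hp₂)) (inv_mem hu')
      rw [inv_inv] at this
      exact this
    obtain ⟨a, b, ha, hb, eab⟩ := prod_form hNU hCU hNV hCV hxV hyU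
    refine IsPair.of_isConj (h := vG * ((pG * cG * pG⁻¹) * (qG * cG * qG⁻¹)⁻¹) * uG) ?_ ⟨a, b, ha, hb, eab⟩
    refine isConj_iff.2 ⟨(⟨z, hz⟩ : G)⁻¹, Subtype.ext ?_⟩
    show z⁻¹ * (v' * (p₁ * (h * x) * p₁⁻¹ * (p₂ * (h * x) * p₂⁻¹)⁻¹) * u') * z⁻¹⁻¹ = (g : GL D.Idx F)
    have hab : p₁ * (h * x) * p₁⁻¹ * (p₂ * (h * x) * p₂⁻¹)⁻¹ = vJ * uJ := by
      rw [epair]
      have e1 : ∀ p ∈ D.leviSubgroup F JS, p * (h * x) * p⁻¹ = p * x * p⁻¹ * h := fun p hp => by
        calc p * (h * x) * p⁻¹ = p * (x * h) * p⁻¹ := by rw [hhx.eq]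
          _ = p * x * (h * p⁻¹) := by group
          _ = p * x * (p⁻¹ * h) := by rw [((hLh p hp).inv_right).eq]
          _ = _ := by group
      rw [e1 p₁ hp₁, e1 p₂ hp₂]
      group
    rw [hab, show v' * (vJ * uJ) * u' = v' * vJ * (uJ * u') by group, ← e]
    group

end Cfsg.Lib.ClassSquare
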