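import Cfsg.Agent.Lib.ClassSquare.ChevEngine
import Cfsg.Agent.Lib.Chev.FullAll

/-!
# The five exceptional split types
-/

set_option autoImplicit false
set_option maxRecDepth 4000

namespace Cfsg.Lib.ClassSquare

open Cfsg.Lie Cfsg.Lib.Chev

/-- The nodes are joined to the root along the steps. -/
noncomputable def chkConn (T : Tbl) : List (ℕ × ℕ) → ℕ → Bool
  | [], _ => true
  | (i, p) :: rest, root =>
    (decide (T.cartan i (T.simp' p) ≠ 0 ∧ T.cartan p (T.simp' i) ≠ 0 ∧ p < T.rank ∧ i < T.rank) &&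
      (Nat.beq p root || rest.any fun q => Nat.beq p q.1)) && chkConn T rest root

/-- Connectivity. -/
theorem conn_steps {T : Tbl} {n : ℕ} (hn : T.rank = n) {root : ℕ} (P : Fin n → Prop)
    (h : ∀ a b : Fin n, T.cartan a (T.simp' b) ≠ 0 → P a → P b) :
    ∀ steps : List (ℕ × ℕ), chkConn T steps root = true → ∀ (r : Fin n), (r : ℕ) = root →
      ∀ j : Fin n, remaining steps root j → (P j ↔ P r) := by
  intro steps
  induction steps with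
  | nil =>
    intro _ r hr j hj
    rcases hj with e | ⟨q, hq, -⟩
    · rw [show j = r from Fin.ext (e.trans hr.symm)]
    · simp at hq
  | cons s steps ih =>
    intro hc r hr j hj
    obtain ⟨i, p⟩ := s
    simp only [chkConn, Bool.and_eq_true, decide_eq_true_eq, Bool.or_eq_true, Nat.beq_eq, List.any_eq_true] at hc
    obtain ⟨⟨⟨h1, h2, hp, hi⟩, hrem⟩, hrest⟩ := hc
    have ih' := ih hrest r hr
    rcases hj with e | ⟨q, hq, e⟩
    · exact ih' j (Or.inl e)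
    · rcases List.mem_cons.1 hq with rfl | hq
      · have hpj : P j ↔ P ⟨p, hn ▸ hp⟩ :=
          ⟨h j ⟨p, hn ▸ hp⟩ (by rw [e]; exact h1), h ⟨p, hn ▸ hp⟩ j (by rw [e]; exact h2)⟩
        exact hpj.trans (ih' _ hrem)
      · exact ih' j (Or.inr ⟨q, hq, e⟩)

/-- The check of connectivity with coverage. -/
noncomputable def chkConn' (T : Tbl) (steps : List (ℕ × ℕ)) (root : ℕ) : Bool :=
  chkConn T steps root && (Nat.blt root T.rank && (List.range T.rank).all fun j => Nat.beq j root || steps.any fun q => Nat.beq j q.1)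

theorem conn_of_chk {D : ChevalleyDatum} {T : Tbl} (C : Cert D T) {steps : List (ℕ × ℕ)} {root : ℕ}
    (hc : chkConn' T steps root = true) : ∀ P : Fin D.rank → Prop,
      (∀ a b : Fin D.rank, T.cartan a (T.simp' b) ≠ 0 → P a → P b) → ∀ a b, P a → P b := by
  intro P h a b ha
  simp only [chkConn', Bool.and_eq_true, Nat.blt_eq, List.all_eq_true, List.mem_range, Bool.or_eq_true, Nat.beq_eq,
    List.any_eq_true, C.spec.shape.rank_eq] at hc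
  obtain ⟨hconn, hr, hcov⟩ := hc
  have key := conn_steps C.spec.shape.rank_eq P h steps hconn ⟨root, hr⟩ rfl
  exact (key b (hcov b b.2)).2 ((key a (hcov a a.2)).1 ha)

variable {F : Type*} [Field F] [Fintype F]

/-- The components for G2. -/
def blksG2 : List Blk :=
  []

theorem chkSys_G2 : chkSys tblG2 [] blksG2 [3, 5]
    [0, 1, 0, 1, 0, 1] = true := by
  decide +kernel

theorem chkOrder_G2 : chkOrder tblG2 [(1, 0)] 0 = true := by decide +kernel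

theorem chkConn_G2 : chkConn' tblG2 [(1, 0)] 0 = true := by decide +kernel

theorem square_G2 (hF : 9 ≤ Fintype.card F) :
    ∃ c : ↥(chevG2.group F), ∀ g : ↥(chevG2.group F), ∃ x y : ↥(chevG2.group F),
      g = (x * c * x⁻¹) * (y * c * y⁻¹) :=
  chev_square certG2 fullCertG2 hF chkSys_G2 chkOrder_G2 (conn_of_chk certG2 chkConn_G2)

/-- The components for F4. -/
def blksF4 : List Blk :=
  [⟨2, [0, 33, 14, 0], [1, 1, 1, 1], [2, 3, 4, 2]⟩,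
    ⟨2, [0, 24, 23, 0], [1, 1, 1, 1], [1, 2, 3, 2]⟩]

theorem chkSys_F4 : chkSys tblF4 [0, 3] blksF4 [5, 10, 14, 7]
    [0, 3, 0, 1, 0, 2, 1, 0, 2, 1, 2, 3, 2, 1, 0, 2, 1, 2, 3, 2, 1, 0, 2, 1, 2, 3] = true := by
  decide +kernel

theorem chkOrder_F4 : chkOrder tblF4 [(3, 2), (2, 1), (1, 0)] 0 = true := by decide +kernel

theorem chkConn_F4 : chkConn' tblF4 [(3, 2), (2, 1), (1, 0)] 0 = true := by decide +kernel

theorem square_F4 (hF : 9 ≤ Fintype.card F) :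
    ∃ c : ↥(chevF4.group F), ∀ g : ↥(chevF4.group F), ∃ x y : ↥(chevF4.group F),
      g = (x * c * x⁻¹) * (y * c * y⁻¹) :=
  chev_square certF4 fullCertF4 hF chkSys_F4 chkOrder_F4 (conn_of_chk certF4 chkConn_F4)

/-- The components for E6. -/
def blksE6 : List Blk :=
  [⟨2, [0, 46, 25, 0], [1, 1, 1, 1], [1, 2, 2, 3, 2, 1]⟩,
    ⟨2, [0, 42, 29, 0], [1, 1, 1, 1], [1, 1, 2, 2, 1, 0]⟩,
    ⟨2, [0, 37, 34, 0], [1, 1, 1, 1], [0, 1, 1, 2, 2, 1]⟩]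

theorem chkSys_E6 : chkSys tblE6 [1, 2, 4] blksE6 [6, 7, 10, 14, 10, 6]
    [1, 2, 4, 0, 1, 2, 0, 3, 1, 2, 0, 3, 2, 4, 3, 1, 2, 0, 3, 2, 4, 3, 1, 5, 4, 3, 1, 2, 0, 3, 2, 4, 3, 1, 5, 4, 3, 2, 0] = true := by
  decide +kernel

theorem chkOrder_E6 : chkOrder tblE6 [(5, 4), (4, 3), (1, 3), (3, 2), (2, 0)] 0 = true := by decide +kernel

theorem chkConn_E6 : chkConn' tblE6 [(5, 4), (4, 3), (1, 3), (3, 2), (2, 0)] 0 = true := by decide +kernel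

theorem square_E6 (hF : 9 ≤ Fintype.card F) :
    ∃ c : ↥(chevE6.group F), ∀ g : ↥(chevE6.group F), ∃ x y : ↥(chevE6.group F),
      g = (x * c * x⁻¹) * (y * c * y⁻¹) :=
  chev_square certE6 fullCertE6 hF chkSys_E6 chkOrder_E6 (conn_of_chk certE6 chkConn_E6)

/-- The components for E7. -/
def blksE7 : List Blk :=
  [⟨2, [0, 78, 47, 0], [1, 1, 1, 1], [1, 2, 2, 3, 2, 1, 0]⟩,
    ⟨3, [0, 93, 94, 32, 0, 73, 31, 52, 0], [1, 1, -1, 1, 1, 1, -1, 1, 1], [2, 2, 3, 4, 3, 2, 1]⟩,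
    ⟨3, [0, 66, 67, 59, 0, 64, 58, 61, 0], [1, 1, -1, 1, 1, 1, -1, 1, 1], [2, 3, 4, 6, 5, 3, 1]⟩]

theorem chkSys_E7 : chkSys tblE7 [0, 1, 2, 4, 5] blksE7 [6, 9, 12, 18, 14, 10, 6]
    [0, 1, 2, 0, 4, 5, 4, 0, 1, 2, 0, 3, 1, 2, 0, 3, 2, 4, 3, 1, 2, 0, 3, 2, 4, 3, 1, 5, 4, 3, 1, 2, 0, 3, 2, 4, 3, 1, 5, 4, 3, 2, 0, 6, 5, 4, 3, 1, 2, 0, 3, 2, 4, 3, 1, 5, 4, 3, 2, 0, 6, 5, 4, 3, 1, 2, 3, 4, 5, 6] = true := by
  decide +kernel

theorem chkOrder_E7 : chkOrder tblE7 [(6, 5), (5, 4), (4, 3), (1, 3), (3, 2), (2, 0)] 0 = true := by decide +kernel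

theorem chkConn_E7 : chkConn' tblE7 [(6, 5), (5, 4), (4, 3), (1, 3), (3, 2), (2, 0)] 0 = true := by decide +kernel

theorem square_E7 (hF : 9 ≤ Fintype.card F) :
    ∃ c : ↥(chevE7.group F), ∀ g : ↥(chevE7.group F), ∃ x y : ↥(chevE7.group F),
      g = (x * c * x⁻¹) * (y * c * y⁻¹) :=
  chev_square certE7 fullCertE7 hF chkSys_E7 chkOrder_E7 (conn_of_chk certE7 chkConn_E7)

/-- The components for E8. -/
def blksE8 : List Blk :=
  [⟨4, [0, 141, 142, 147, 98, 0, 130, 136, 97, 109, 0, 135, 92, 103, 104, 0], [1, 1, -1, 1, 1, 1, 1, 1, -1, 1, 1, 1, 1, 1, 1, 1], [5, 8, 10, 15, 12, 9, 6, 3]⟩,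
    ⟨4, [0, 123, 124, 125, 116, 0, 121, 122, 115, 118, 0, 120, 114, 117, 119, 0], [1, 1, -1, 1, 1, 1, 1, -1, -1, 1, 1, 1, 1, -1, 1, 1], [6, 9, 12, 18, 15, 12, 8, 4]⟩]

theorem chkSys_E8 : chkSys tblE8 [1, 2, 3, 5, 6, 7] blksE8 [12, 17, 23, 34, 28, 21, 14, 7]
    [1, 2, 3, 1, 2, 3, 5, 6, 5, 7, 6, 5, 0, 1, 2, 0, 3, 1, 2, 0, 3, 2, 4, 3, 1, 2, 0, 3, 2, 4, 3, 1, 5, 4, 3, 1, 2, 0, 3, 2, 4, 3, 1, 5, 4, 3, 2, 0, 6, 5, 4, 3, 1, 2, 0, 3, 2, 4, 3, 1, 5, 4, 3, 2, 0, 6, 5, 4, 3, 1, 2, 3, 4, 5, 6, 7, 6, 5, 4, 3, 1, 2, 0, 3, 2, 4, 3, 1, 5, 4, 3, 2, 0, 6, 5, 4, 3, 1, 2, 3, 4, 5, 6, 7, 6, 5, 4, 3, 1, 2, 0, 3, 2, 4, 3, 1, 5, 4, 3, 2, 0, 6, 5, 4, 3, 1, 2, 3, 4, 5, 6, 7] = true := by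
  decide +kernel

theorem chkOrder_E8 : chkOrder tblE8 [(7, 6), (6, 5), (5, 4), (4, 3), (1, 3), (3, 2), (2, 0)] 0 = true := by decide +kernel

theorem chkConn_E8 : chkConn' tblE8 [(7, 6), (6, 5), (5, 4), (4, 3), (1, 3), (3, 2), (2, 0)] 0 = true := by decide +kernel

theorem square_E8 (hF : 9 ≤ Fintype.card F) :
    ∃ c : ↥(chevE8.group F), ∀ g : ↥(chevE8.group F), ∃ x y : ↥(chevE8.group F),
      g = (x * c * x⁻¹) * (y * c * y⁻¹) :=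
  chev_square certE8 fullCertE8 hF chkSys_E8 chkOrder_E8 (conn_of_chk certE8 chkConn_E8)


end Cfsg.Lib.ClassSquare
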