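import Cfsg.Agent.Lib.ClassSquare.G2Mat
import Cfsg.Agent.Lib.ClassSquare.ChevEngine
import Cfsg.Agent.Lib.ClassSquare.ChevTypes
import Cfsg.Agent.Lib.Chev.Descent
import Cfsg.Agent.Lib.Chev.TwoGenTw
import Cfsg.Agent.Lib.Chev.TwG2Gen

/-!
# The Levi subgroup of the short fundamental root in G2
-/

set_option autoImplicit false

namespace Cfsg.Lib.ClassSquare.GTwo

open Cfsg.Lie Cfsg.Lib.Chev Cfsg.Lib.ClassSquare
open scoped Matrix MatrixGroups

variable {F : Type*} [Field F]

theorem rlt {r : ℕ} (h : r < 12 := by norm_num) : r < chevG2.nroots := h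

/-- A root element. -/
noncomputable abbrev xx (r : ℕ) (t : F) : GL chevG2.Idx F := xg certG2 r t

theorem simp_vals : tblG2.simp' 0 = 7 ∧ tblG2.simp' 1 = 6 ∧ tblG2.neg 7 = 4 ∧ tblG2.neg 6 = 5 := by decide +kernel

/-- The torus parameters. -/
def cvec (x y : Fˣ) : Fin chevG2.rank → Fˣ := fun i => if i.val = 0 then x else y

/-- A torus element. -/
noncomputable def torus (x y : Fˣ) : GL chevG2.Idx F := torusHom chevG2 tblG2 F (cvec x y)

theorem torus_mem (x y : Fˣ) : torus x y ∈ chevG2.diagonalSubgroup F :=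
  torusHom_range certG2 (F := F) ▸ ⟨_, rfl⟩

theorem torus_mul (x y x' y' : Fˣ) : torus x y * torus x' y' = torus (x * x') (y * y') := by
  rw [torus, torus, torus, ← map_mul]
  congr 1
  funext i
  simp only [cvec, Pi.mul_apply]
  split_ifs <;> rfl

theorem torus_one : torus (1 : Fˣ) 1 = 1 := by
  rw [torus, ← map_one (torusHom chevG2 tblG2 F)]
  congr 1
  funext i
  simp [cvec]

theorem torus_conj (x y : Fˣ) {r : ℕ} (hr : r < chevG2.nroots) (t : F) :
    torus x y * xx r t * (torus x y)⁻¹ =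
      xx r ((x : F) ^ tblG2.cartan 0 r * (y : F) ^ tblG2.cartan 1 r * t) := by
  rw [torus, Cfsg.Lib.Chev.torusHom_conj_xg certG2 _ hr]
  congr 2
  show ∏ j ∈ Finset.range 2, _ = _
  simp [Finset.prod_range_succ, extend', cvec, show chevG2.rank = 2 from rfl]

theorem hg_seven (x : Fˣ) : hg certG2 7 (x : F) = torus x 1 := by
  have := torusHom_single (F := F) certG2 ⟨0, by decide⟩ x
  rw [show tblG2.simp' ((⟨0, by decide⟩ : Fin chevG2.rank) : ℕ) = 7 from simp_vals.1] at this
  rw [← this, torus]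
  congr 1
  funext i
  by_cases h : i.val = 0
  · rw [show i = ⟨0, by decide⟩ from Fin.ext h, Pi.mulSingle_eq_same, cvec, if_pos rfl]
  · rw [Pi.mulSingle_eq_of_ne (fun e => h (by rw [e])), cvec, if_neg h]

theorem hg_six (y : Fˣ) : hg certG2 6 (y : F) = torus 1 y := by
  have := torusHom_single (F := F) certG2 ⟨1, by decide⟩ y
  rw [show tblG2.simp' ((⟨1, by decide⟩ : Fin chevG2.rank) : ℕ) = 6 from simp_vals.2.1] at this
  rw [← this, torus]
  congr 1
  funext i
  by_cases h : i.val = 0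
  · rw [Pi.mulSingle_eq_of_ne (fun e => by rw [e] at h; exact absurd h (by decide)), cvec, if_pos h]
  · have h1 : i.val = 1 := by
      have := i.2; simp only [show chevG2.rank = 2 from rfl] at this; omega
    rw [show i = ⟨1, by decide⟩ from Fin.ext h1, Pi.mulSingle_eq_same, cvec, if_neg (by simp)]

/-- The map of the derived group of the Levi subgroup. -/
noncomputable def phi : SL(2, F) →* GL chevG2.Idx F := (rootRel certG2 (F := F) (rlt (r := 7))).hom

theorem phi_upr (b : F) : phi (SLTwoRel.upr b) = xx 7 b := hom_upr certG2 rlt b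

theorem phi_lwr (b : F) : phi (SLTwoRel.lwr b) = xx 4 b := by
  rw [phi, hom_lwr certG2 rlt, simp_vals.2.2.1]

theorem lwr_val (b : F) : ((SLTwoRel.lwr b : SL(2, F)) : Matrix (Fin 2) (Fin 2) F) = !![1, 0; b, 1] := rfl

theorem sl_closure : Subgroup.closure (Set.range SLTwoRel.upr ∪ Set.range SLTwoRel.lwr : Set SL(2, F)) = ⊤ := by
  refine top_le_iff.1 ?_
  rw [← SLTwoRel.closure_eq_top, Subgroup.closure_le]
  rintro g (⟨b, rfl⟩ | rfl)
  · exact Subgroup.subset_closure (Or.inl ⟨b, rfl⟩)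
  · have e : (SLTwoRel.rot : SL(2, F)) = SLTwoRel.upr 1 * SLTwoRel.lwr (-1) * SLTwoRel.upr 1 := by
      refine Subtype.ext ?_
      ext i j
      fin_cases i <;> fin_cases j <;>
        simp [SLTwoRel.coe_rot, SLTwoRel.coe_upr, lwr_val, Matrix.SpecialLinearGroup.coe_mul, Matrix.mul_apply, Fin.sum_univ_two]
    rw [e]
    exact mul_mem (mul_mem (Subgroup.subset_closure (Or.inl ⟨_, rfl⟩)) (Subgroup.subset_closure (Or.inr ⟨_, rfl⟩)))
      (Subgroup.subset_closure (Or.inl ⟨_, rfl⟩))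

theorem sl_hom_ext {G : Type*} [Group G] {f g : SL(2, F) →* G}
    (h1 : ∀ b, f (SLTwoRel.upr b) = g (SLTwoRel.upr b)) (h2 : ∀ b, f (SLTwoRel.lwr b) = g (SLTwoRel.lwr b)) :
    f = g :=
  MonoidHom.eq_of_eqOn_dense sl_closure (by rintro _ (⟨b, rfl⟩ | ⟨b, rfl⟩); exacts [h1 b, h2 b])

/-- Conjugation by `diag(1, y)`. -/
noncomputable def conjD (y : Fˣ) : SL(2, F) →* SL(2, F) where
  toFun s := ⟨!![s 0 0, s 0 1 / (y : F); (y : F) * s 1 0, s 1 1], by
    have := s.2
    rw [Matrix.det_fin_two] at this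
    rw [Matrix.det_fin_two_of]; field_simp; linear_combination this⟩
  map_one' := Subtype.ext (by ext i j; fin_cases i <;> fin_cases j <;> simp)
  map_mul' s t := Subtype.ext (by
    refine Eq.trans ?_ (Matrix.SpecialLinearGroup.coe_mul _ _).symm
    show (!![_, _; _, _] : Matrix (Fin 2) (Fin 2) F) = !![_, _; _, _] * !![_, _; _, _]
    ext i j; fin_cases i <;> fin_cases j <;>
      simp [Matrix.SpecialLinearGroup.coe_mul, Matrix.mul_apply, Fin.sum_univ_two] <;> field_simp)

theorem conjD_val (y : Fˣ) (s : SL(2, F)) : ((conjD y s : SL(2, F)) : Matrix (Fin 2) (Fin 2) F) =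
    !![s 0 0, s 0 1 / (y : F); (y : F) * s 1 0, s 1 1] := rfl

theorem phi_conjD (y : Fˣ) (s : SL(2, F)) : torus 1 y * phi s * (torus 1 y)⁻¹ = phi (conjD y s) := by
  refine DFunLike.congr_fun (sl_hom_ext (f := (MulAut.conj (torus (1 : Fˣ) y)).toMonoidHom.comp phi)
    (g := phi.comp (conjD y)) (fun b => ?_) (fun b => ?_)) s
  · show torus 1 y * phi _ * (torus 1 y)⁻¹ = phi (conjD y _)
    have e : conjD y (SLTwoRel.upr b) = SLTwoRel.upr (b / (y : F)) := Subtype.ext (by
      ext i j; fin_cases i <;> fin_cases j <;> simp [conjD_val, SLTwoRel.coe_upr])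
    rw [e, phi_upr, phi_upr, torus_conj 1 y rlt, show tblG2.cartan 1 7 = -1 by decide +kernel]
    congr 1
    simp [div_eq_inv_mul]
  · show torus 1 y * phi _ * (torus 1 y)⁻¹ = phi (conjD y _)
    have e : conjD y (SLTwoRel.lwr b) = SLTwoRel.lwr ((y : F) * b) := Subtype.ext (by
      ext i j; fin_cases i <;> fin_cases j <;> simp [conjD_val, lwr_val])
    rw [e, phi_lwr, phi_lwr, torus_conj 1 y rlt, show tblG2.cartan 1 4 = 1 by decide +kernel]
    simp

/-- The unimodular part. -/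
noncomputable def slPart (g : GL (Fin 2) F) : SL(2, F) :=
  ⟨!![g.1 0 0, g.1 0 1 / g.1.det; g.1 1 0, g.1 1 1 / g.1.det], by
    have h := Matrix.GeneralLinearGroup.det_ne_zero g
    rw [Matrix.det_fin_two_of]
    field_simp
    rw [Matrix.det_fin_two]⟩

theorem slPart_val (g : GL (Fin 2) F) : ((slPart g : SL(2, F)) : Matrix (Fin 2) (Fin 2) F) =
    !![g.1 0 0, g.1 0 1 / g.1.det; g.1 1 0, g.1 1 1 / g.1.det] := rfl

/-- The determinant. -/
noncomputable def detU (g : GL (Fin 2) F) : Fˣ := Matrix.GeneralLinearGroup.det g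

theorem detU_val (g : GL (Fin 2) F) : ((detU g : Fˣ) : F) = g.1.det := rfl

/-- The isomorphism with the Levi subgroup. -/
noncomputable def psi : GL (Fin 2) F →* GL chevG2.Idx F where
  toFun g := phi (slPart g) * torus 1 (detU g)
  map_one' := by
    have : slPart (1 : GL (Fin 2) F) = 1 := Subtype.ext (by
      ext i j; fin_cases i <;> fin_cases j <;> simp [slPart])
    rw [this, map_one, one_mul, detU, map_one, torus_one]
  map_mul' g h := by
    have e : slPart (g * h) = slPart g * conjD (detU g) (slPart h) := Subtype.ext (by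
      have hg := Matrix.GeneralLinearGroup.det_ne_zero g
      have hh := Matrix.GeneralLinearGroup.det_ne_zero h
      ext i j
      fin_cases i <;> fin_cases j <;>
        simp [slPart_val, conjD_val, detU_val, Matrix.SpecialLinearGroup.coe_mul, Matrix.mul_apply, Fin.sum_univ_two, Matrix.det_mul] <;> field_simp)
    have e2 : torus (1 : Fˣ) (detU (g * h)) = torus 1 (detU g) * torus 1 (detU h) := by
      rw [torus_mul, one_mul]; congr 1; exact map_mul _ _ _
    rw [e, map_mul, e2, ← phi_conjD]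
    group

theorem psi_eq (g : GL (Fin 2) F) : psi g = phi (slPart g) * torus 1 (detU g) := rfl

/-- An element of the cell of the Levi subgroup. -/
noncomputable def cellM (α β : F) (x y : Fˣ) : GL (Fin 2) F :=
  Matrix.GeneralLinearGroup.mkOfDetNeZero !![(x : F), x * β; α * x, α * x * β + y / x] (by
    rw [Matrix.det_fin_two_of]
    have : (x : F) * (α * x * β + y / x) - x * β * (α * x) = y := by field_simp; ring
    rw [this]; exact y.ne_zero)

theorem cellM_val (α β : F) (x y : Fˣ) :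
    (cellM α β x y : Matrix (Fin 2) (Fin 2) F) = !![(x : F), x * β; α * x, α * x * β + y / x] := rfl

theorem cellM_det (α β : F) (x y : Fˣ) : (cellM α β x y : Matrix (Fin 2) (Fin 2) F).det = y := by
  rw [cellM_val, Matrix.det_fin_two_of]; field_simp; ring

theorem cellM_trace (α β : F) (x y : Fˣ) :
    (cellM α β x y : Matrix (Fin 2) (Fin 2) F).trace = x + (α * x * β + y / x) := by
  rw [cellM_val]; simp [Matrix.trace_fin_two]

/-- The cell of the Levi subgroup in root elements. -/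
theorem psi_cell (α β : F) (x y : Fˣ) : psi (cellM α β x y) = xx 4 α * torus x y * xx 7 β := by
  have e1 : slPart (cellM α β x y) =
      SLTwoRel.lwr α * SLTwoRel.tri (x : F) 0 x.ne_zero * conjD y (SLTwoRel.upr β) := Subtype.ext (by
    have hd := cellM_det α β x y
    ext i j
    fin_cases i <;> fin_cases j <;>
      simp [slPart_val, cellM_det, cellM_val, conjD_val, SLTwoRel.coe_upr, lwr_val, SLTwoRel.coe_tri,
        Matrix.SpecialLinearGroup.coe_mul, Matrix.mul_apply,
        Fin.sum_univ_two] <;> field_simp <;> ring)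
  have e2 : detU (cellM α β x y) = y := Units.ext (by rw [detU_val]; exact cellM_det α β x y)
  rw [psi_eq, e1, e2, map_mul, map_mul, phi_lwr, ← phi_conjD, phi_upr]
  rw [show phi (SLTwoRel.tri (x : F) 0 x.ne_zero) = torus x 1 from (hom_tri certG2 rlt x.ne_zero).trans (hg_seven x)]
  rw [show torus x y = torus x 1 * torus 1 y by rw [torus_mul, mul_one, one_mul]]
  group

theorem inSub_iff {r : ℕ} (hr : r < chevG2.nroots) : chevG2.InRootSub {0} r ↔ r = 4 ∨ r = 7 := by
  constructor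
  · intro h
    rcases le_or_gt chevG2.nroots (2 * r) with hp | hp
    · exact Or.inr ((inRootSub_singleton certG2 fullCertG2 (by decide) h hp).trans simp_vals.1)
    · have := inRootSub_singleton certG2 fullCertG2 (by decide) (inRootSub_neg certG2 h)
        ((fullCertG2.neg_pos_iff hr).2 hp)
      rw [simp_vals.1] at this
      refine Or.inl ?_
      rw [← certG2.spec.neg_neg r hr, this, simp_vals.2.2.1]
  · rintro (rfl | rfl)
    · rw [← simp_vals.2.2.1, ← simp_vals.1]
      exact inRootSub_neg certG2 (inRootSub_simple certG2 (by decide) (Set.mem_singleton 0))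
    · rw [← simp_vals.1]
      exact inRootSub_simple certG2 (by decide) (Set.mem_singleton 0)

theorem psi_mem_levi (g : GL (Fin 2) F) : psi g ∈ chevG2.leviSubgroup F {0} := by
  rw [psi_eq]
  refine mul_mem ?_ (Subgroup.mem_sup_left (torus_mem 1 _))
  have : (phi (F := F)).range ≤ chevG2.leviSubgroup F {0} := by
    rw [phi, SLTwoRel.hom_range, Subgroup.closure_le]
    rintro _ (⟨b, rfl⟩ | ⟨b, rfl⟩)
    · exact xg_mem_levi certG2 ((inSub_iff rlt).2 (Or.inr rfl)) b
    · show xg certG2 (tblG2.neg 7) b ∈ _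
      rw [simp_vals.2.2.1]
      exact xg_mem_levi certG2 ((inSub_iff rlt).2 (Or.inl rfl)) b
  exact this ⟨_, rfl⟩

theorem psi_mem (g : GL (Fin 2) F) : psi g ∈ chevG2.group F := levi_le_group certG2 _ (psi_mem_levi g)

theorem map_torus {E : Type*} [Field E] (f : F →+* E) (x y : Fˣ) :
    Matrix.GeneralLinearGroup.map f (torus x y) = torus (Units.map f.toMonoidHom x) (Units.map f.toMonoidHom y) := by
  rw [torus, map_torusHom certG2, torus]
  congr 1
  funext i
  simp only [cvec]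
  split_ifs <;> rfl

theorem map_psi {E : Type*} [Field E] (f : F →+* E) (g : GL (Fin 2) F) :
    Matrix.GeneralLinearGroup.map f (psi g) = psi (Matrix.GeneralLinearGroup.map f g) := by
  have h1 : (Matrix.GeneralLinearGroup.map (n := chevG2.Idx) f).comp (phi (F := F)) =
      (phi (F := E)).comp (Matrix.SpecialLinearGroup.map f) := by
    refine sl_hom_ext (fun b => ?_) (fun b => ?_)
    · have e : Matrix.SpecialLinearGroup.map f (SLTwoRel.upr b) = SLTwoRel.upr (f b) := Subtype.ext (by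
        ext i j; fin_cases i <;> fin_cases j <;> simp [Matrix.SpecialLinearGroup.map_apply_coe, SLTwoRel.coe_upr])
      rw [MonoidHom.comp_apply, MonoidHom.comp_apply, e, phi_upr, phi_upr, map_xg]
    · have e : Matrix.SpecialLinearGroup.map f (SLTwoRel.lwr b) = SLTwoRel.lwr (f b) := Subtype.ext (by
        ext i j; fin_cases i <;> fin_cases j <;> simp [Matrix.SpecialLinearGroup.map_apply_coe, lwr_val])
      rw [MonoidHom.comp_apply, MonoidHom.comp_apply, e, phi_lwr, phi_lwr, map_xg]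
  have hdet : (Matrix.GeneralLinearGroup.map f g : GL (Fin 2) E).1.det = f g.1.det := by
    simp [Matrix.det_fin_two]
  have e2 : Matrix.SpecialLinearGroup.map f (slPart g) = slPart (Matrix.GeneralLinearGroup.map f g) :=
    Subtype.ext (by
      ext i j; fin_cases i <;> fin_cases j <;> simp [Matrix.SpecialLinearGroup.map_apply_coe, slPart_val, Matrix.det_fin_two, map_div₀])
  have e3 : Units.map f.toMonoidHom (detU g) = detU (Matrix.GeneralLinearGroup.map f g) :=
    Units.ext (by rw [Units.coe_map, detU_val, detU_val, hdet]; rfl)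
  rw [psi_eq, map_mul, map_torus, map_one, e3, psi_eq, ← e2]
  exact congrArg (· * _) (DFunLike.congr_fun h1 _)

theorem xg_fix_eq {x y : Fˣ} {r : ℕ} (hr : r < chevG2.nroots) {t : F} (hc : Commute (torus x y) (xx r t))
    (hne : (x : F) ^ tblG2.cartan 0 r * (y : F) ^ tblG2.cartan 1 r ≠ 1) : xx r t = 1 := by
  by_cases ht : t = 0
  · rw [ht]; exact xg_zero certG2 r
  have h1 := torus_conj x y hr t
  rw [hc.eq, mul_inv_cancel_right] at h1
  have h2 := xg_injective certG2 hr h1
  exact absurd (mul_right_cancel₀ ht (h2.symm.trans (one_mul t).symm)) hne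

section Singer

variable {τ δ : F} (hirr : NoRoot τ δ) (hτ : τ ≠ 0) (hδ : δ ≠ 1)
include hirr hτ hδ

theorem char_ne {E : Type*} [Field E] (f : F →+* E) {lam mu : E} (h : lam + mu = f τ) (h' : lam * mu = f δ) :
    lam ≠ mu ∧ ∀ r < chevG2.nroots, lam ^ tblG2.cartan 0 r * (lam * mu) ^ tblG2.cartan 1 r ≠ 1 := by
  have hn : ∀ {a b : E}, a + b = f τ → a * b = f δ → ∀ z : F, a ≠ f z := fun {a b} h h' z e => by
    have h0 : a * a - f τ * a + f δ = 0 := by rw [← h, ← h']; ring
    rw [e, ← map_mul, ← map_mul, ← map_sub, ← map_add, map_eq_zero] at h0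
    exact hirr z h0
  have h_ : mu + lam = f τ := by rw [add_comm]; exact h
  have h'_ : mu * lam = f δ := by rw [mul_comm]; exact h'
  have hne : lam ≠ mu := fun e => by
    subst e
    by_cases h2 : (2 : F) = 0
    · have : f 2 = 0 := by rw [h2, map_zero]
      rw [map_ofNat] at this
      have : f τ = 0 := by linear_combination -h + lam * this
      exact hτ (by simpa using this)
    · have h2' : (2 : E) ≠ 0 := by rw [← map_ofNat f 2]; simpa using h2
      refine hn h h' (τ / 2) ?_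
      rw [map_div₀, map_ofNat, ← h]; field_simp; ring
  have hsq : ∀ {a b : E}, a + b = f τ → a * b = f δ → b * b ≠ a := fun {a b} h h' e => by
    by_cases h1 : τ + 1 = 0
    · refine hδ ?_
      have ht : τ = -1 := eq_neg_of_add_eq_zero_left h1
      have : f δ = f 1 := by
        rw [ht, map_neg, map_one] at h
        have e2 : b * b = -1 - b := by rw [e]; linear_combination h
        rw [map_one, ← h', ← e]
        linear_combination (b - 1) * e2
      exact f.injective this
    · refine hn (a := b) (b := a) (by rw [add_comm]; exact h) (by rw [mul_comm]; exact h') ((τ + δ) / (τ + 1)) ?_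
      have h1' : f τ + 1 ≠ 0 := fun e => h1 (f.injective (by rw [map_zero, map_add, map_one, e]))
      rw [map_div₀, map_add, map_add, map_one, eq_div_iff h1', ← h, ← h', ← e]
      ring
  have hl1 : lam ≠ 1 := by simpa using hn h h' 1
  have hm1 : mu ≠ 1 := by simpa using hn h_ h'_ 1
  have hd : lam * mu ≠ 1 := by rw [h', ← map_one f]; exact fun e => hδ (f.injective e)
  have hl0 : lam ≠ 0 := by simpa using hn h h' 0
  have hm0 : mu ≠ 0 := by simpa using hn h_ h'_ 0
  refine ⟨hne, fun r hr => ?_⟩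
  have hval : ∀ r < 12, ((tblG2.cartan 0 r, tblG2.cartan 1 r) : ℤ × ℤ) ∈
      ([(0, -1), (-3, 1), (-1, 0), (1, -1), (-2, 1), (3, -2), (-3, 2), (2, -1), (-1, 1), (1, 0), (3, -1), (0, 1)] :
        List (ℤ × ℤ)) := by decide +kernel
  have := hval r hr
  simp only [List.mem_cons, List.not_mem_nil, or_false, Prod.mk.injEq] at this
  have hs1 := hsq h h'
  have hs2 := hsq h_ h'_
  rcases this with ⟨a, b⟩ | ⟨a, b⟩ | ⟨a, b⟩ | ⟨a, b⟩ | ⟨a, b⟩ | ⟨a, b⟩ | ⟨a, b⟩ | ⟨a, b⟩ | ⟨a, b⟩ | ⟨a, b⟩ |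
    ⟨a, b⟩ | ⟨a, b⟩ <;> rw [a, b] <;>
    simp only [zpow_zero, zpow_one, zpow_neg, zpow_ofNat, one_mul, mul_one] <;> intro e <;> field_simp at e
  all_goals first
    | exact hl1 (by linear_combination e) | exact hl1 (by linear_combination -e)
    | exact hm1 (by linear_combination e) | exact hm1 (by linear_combination -e)
    | exact hne (by linear_combination e) | exact hne (by linear_combination -e)
    | exact hd (by linear_combination e) | exact hd (by linear_combination -e)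
    | exact hs1 (by linear_combination e) | exact hs1 (by linear_combination -e)
    | exact hs2 (by linear_combination e) | exact hs2 (by linear_combination -e)

/-- Over an algebraic closure the element becomes a regular element of the torus. -/
theorem exists_diag {A : GL (Fin 2) F} (hA : TrDet τ δ (A : Matrix (Fin 2) (Fin 2) F)) :
    ∃ (P : GL (Fin 2) (AlgebraicClosure F)) (x y : (AlgebraicClosure F)ˣ),
      psi P * Matrix.GeneralLinearGroup.map (algebraMap F (AlgebraicClosure F)) (psi A) * (psi P)⁻¹ = torus x y ∧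
      ∀ r < chevG2.nroots,
        (x : AlgebraicClosure F) ^ tblG2.cartan 0 r * (y : AlgebraicClosure F) ^ tblG2.cartan 1 r ≠ 1 := by
  set f := algebraMap F (AlgebraicClosure F)
  obtain ⟨lam, hlam⟩ : ∃ lam : AlgebraicClosure F, lam * lam - f τ * lam + f δ = 0 := by
    open Polynomial in
    obtain ⟨lam, h⟩ := IsAlgClosed.exists_root (C 1 * X ^ 2 + C (-f τ) * X + C (f δ))
      (by rw [degree_quadratic one_ne_zero]; norm_num)
    refine ⟨lam, ?_⟩
    simp only [IsRoot, eval_add, eval_mul, eval_C, eval_pow, eval_X] at h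
    linear_combination h
  set mu := f τ - lam
  have h : lam + mu = f τ := by ring
  have h' : lam * mu = f δ := by linear_combination -hlam
  obtain ⟨hne, hchar⟩ := char_ne hirr hτ hδ f h h'
  have hd0 : f δ ≠ 0 := by simpa using hirr.det_ne
  have hl0 : lam ≠ 0 := fun e => hd0 (by rw [← h', e, zero_mul])
  have hm0 : mu ≠ 0 := fun e => hd0 (by rw [← h', e, mul_zero])
  set x := Units.mk0 lam hl0
  set y := Units.mk0 (lam * mu) (mul_ne_zero hl0 hm0)
  obtain ⟨P, hP⟩ := exists_conj_gl (A := Matrix.GeneralLinearGroup.map f A) (B := cellM 0 0 x y)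
    (by
      have hns := hirr.nonScal hA
      rintro ⟨h1, h2, h3⟩
      exact hns ⟨f.injective (by simpa using h1), f.injective (by simpa using h2), f.injective (by simpa using h3)⟩)
    (by
      rintro ⟨-, -, h3⟩
      rw [cellM_val] at h3
      simp [x, y] at h3
      exact hne (by field_simp at h3; first | linear_combination h3 | linear_combination -h3))
    (by
      rw [cellM_trace]
      have : (Matrix.GeneralLinearGroup.map f A : GL (Fin 2) (AlgebraicClosure F)).1.trace = f A.1.trace := by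
        simp [Matrix.trace_fin_two]
      rw [this, hA.1, ← h]
      simp [x, y, hl0])
    (by
      rw [cellM_det]
      have : (Matrix.GeneralLinearGroup.map f A : GL (Fin 2) (AlgebraicClosure F)).1.det = f A.1.det := by
        simp [Matrix.det_fin_two]
      rw [this, hA.2, ← h']
      simp [y])
  refine ⟨P, x, y, ?_, fun r hr => by simpa [x, y] using hchar r hr⟩
  rw [map_psi, ← map_inv, ← map_mul, ← map_mul, hP, psi_cell]
  simp only [xx, xg_zero, one_mul, mul_one]

/-- No fixed points in the two radicals. -/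
theorem psi_fpf {A : GL (Fin 2) F} (hA : TrDet τ δ (A : Matrix (Fin 2) (Fin 2) F)) :
    (∀ n ∈ chevG2.unipotentRadical F {0}, Commute (psi A) n → n = 1) ∧
      ∀ n ∈ negRad certG2 F {0}, Commute (psi A) n → n = 1 := by
  obtain ⟨P, x, y, e, hchar⟩ := exists_diag hirr hτ hδ hA
  set K := AlgebraicClosure F
  set f := algebraMap F K
  set m := Matrix.GeneralLinearGroup.map (n := chevG2.Idx) f
  have hbot : Subgroup.closure {g : GL chevG2.Idx K | ∃ r : ℕ, r < chevG2.nroots ∧ ∃ t : K, g = xg certG2 r t ∧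
      Commute (torus x y) g} = ⊥ := by
    rw [eq_bot_iff, Subgroup.closure_le]
    rintro _ ⟨r, hr, t, rfl, hc⟩
    exact xg_fix_eq hr hc (hchar r hr)
  have hconj : ∀ n, Commute (psi A) n → Commute (torus x y) (psi P * m n * (psi P)⁻¹) := fun n hn => by
    rw [← e]
    exact (hn.map m).map (MulAut.conj (psi P)).toMonoidHom
  have hfin : ∀ n, psi P * m n * (psi P)⁻¹ = 1 → n = 1 := fun n hn => map_gl_injective f (by
    rw [map_one]
    exact mul_left_cancel (a := psi P) (by rw [mul_one]; exact mul_inv_eq_one.1 hn))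
  constructor
  · intro n hn hc
    have h1 : m n ∈ chevG2.unipotentRadical K {0} := by
      have : chevG2.unipotentRadical F {0} ≤ (chevG2.unipotentRadical K {0}).comap m := by
        refine (Subgroup.closure_le _).2 ?_
        rintro g ⟨r, t, hr, hJ, eg⟩
        rw [eq_xg certG2 eg]
        show Matrix.GeneralLinearGroup.map f (xg certG2 r t) ∈ chevG2.unipotentRadical K {0}
        rw [map_xg]
        exact xg_mem_radical certG2 hr.1 ((certG2.isPos_iff hr.1).1 hr) hJ _
      exact this hn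
    have h2 := mem_fixed_pos certG2 fullCertG2 (torus_mem x y)
      (radical_le_pos certG2 _ (conj_mem_of_normalizer
        (levi_le_normalizer certG2 fullCertG2 _ (psi_mem_levi P)) h1)) (hconj n hc)
    rw [hbot, Subgroup.mem_bot] at h2
    exact hfin n h2
  · intro n hn hc
    have h1 : m n ∈ negRad certG2 K {0} := by
      have : negRad certG2 F {0} ≤ (negRad certG2 K {0}).comap m := by
        refine (Subgroup.closure_le _).2 ?_
        rintro g ⟨r, t, hr, hneg, hJ, rfl⟩
        show Matrix.GeneralLinearGroup.map f (xg certG2 r t) ∈ negRad certG2 K {0}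
        rw [map_xg]
        exact xg_mem_negRad certG2 hr hneg hJ _
      exact this hn
    have h2 := mem_fixed_neg certG2 fullCertG2 (torus_mem x y)
      (negRad_le_neg certG2 _ (conj_mem_of_normalizer
        (levi_le_normalizer_negRad certG2 fullCertG2 _ (psi_mem_levi P)) h1)) (hconj n hc)
    rw [hbot, Subgroup.mem_bot] at h2
    exact hfin n h2

/-- The order is prime to the characteristic. -/
theorem psi_semisimple {A : GL (Fin 2) F} (hA : TrDet τ δ (A : Matrix (Fin 2) (Fin 2) F)) (p : ℕ) [Fact p.Prime]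
    [CharP F p] [Finite F] : ¬ p ∣ orderOf (psi A) := by
  rintro ⟨k, hk⟩
  obtain ⟨P, x, y, e, -⟩ := exists_diag hirr hτ hδ hA
  set K := AlgebraicClosure F
  set f := algebraMap F K
  set m := Matrix.GeneralLinearGroup.map (n := chevG2.Idx) f
  haveI : CharP K p := charP_of_injective_algebraMap f.injective p
  have hk0 : 0 < k := by
    rcases Nat.eq_zero_or_pos k with rfl | h
    · have := orderOf_pos (psi A); rw [hk, mul_zero] at this; exact absurd this (lt_irrefl 0)
    · exact h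
  let Φ : GL chevG2.Idx F →* GL chevG2.Idx K := (MulAut.conj (psi P)).toMonoidHom.comp m
  have hinj : Function.Injective Φ := (MulAut.conj (psi P)).injective.comp (map_gl_injective f)
  have hΦ : Φ (psi A) = torusHom chevG2 tblG2 K (cvec x y) := e
  have hord : orderOf (torusHom chevG2 tblG2 K (cvec x y)) = p * k := by rw [← hΦ, orderOf_injective Φ hinj, hk]
  have h1 : torusHom chevG2 tblG2 K (cvec x y) ^ (p * k) = 1 := by rw [← hord]; exact pow_orderOf_eq_one _
  rw [← map_pow, ← MonoidHom.mem_ker, torusHom_ker certG2, MonoidHom.mem_ker] at h1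
  have h2 : torusHom chevG2 tblG2 K (cvec x y) ^ k = 1 := by
    rw [← map_pow, ← MonoidHom.mem_ker, torusHom_ker certG2, MonoidHom.mem_ker]
    funext j
    have h3 := congrFun h1 j
    rw [map_pow, Pi.pow_apply, mul_comm, pow_mul] at h3
    rw [map_pow, Pi.pow_apply]
    refine Units.ext (frobenius_inj K p ?_)
    rw [frobenius_def, frobenius_def, ← Units.val_pow_eq_pow_val, ← Units.val_pow_eq_pow_val, h3]
    simp
  have := Nat.le_of_dvd hk0 (orderOf_dvd_of_pow_eq_one h2)
  rw [hord] at this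
  have := (Fact.out : p.Prime).two_le
  nlinarith

end Singer

end Cfsg.Lib.ClassSquare.GTwo

namespace Cfsg.Lib.ClassSquare.GTwo

open Cfsg.Lie Cfsg.Lib.Chev Cfsg.Lib.ClassSquare Cfsg.Lib.Chev.TwoGen
open scoped Matrix MatrixGroups

variable {F : Type*} [Field F]

/-- Conjugate by an element of the group. -/
def ConjG (g h : GL chevG2.Idx F) : Prop := ∃ z ∈ chevG2.group F, z * g * z⁻¹ = h

theorem ConjG.trans {g h k : GL chevG2.Idx F} (h1 : ConjG g h) (h2 : ConjG h k) : ConjG g k := by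
  obtain ⟨a, ha, rfl⟩ := h1
  obtain ⟨b, hb, rfl⟩ := h2
  exact ⟨b * a, mul_mem hb ha, by group⟩

theorem ConjG.symm {g h : GL chevG2.Idx F} (h1 : ConjG g h) : ConjG h g := by
  obtain ⟨a, ha, rfl⟩ := h1
  exact ⟨a⁻¹, inv_mem ha, by group⟩

theorem conjG_psi {A B : GL (Fin 2) F} {τ δ : F} (hirr : NoRoot τ δ)
    (hA : TrDet τ δ (A : Matrix (Fin 2) (Fin 2) F)) (hB : TrDet τ δ (B : Matrix (Fin 2) (Fin 2) F)) :
    ConjG (psi A) (psi B) := by
  obtain ⟨P, rfl⟩ := exists_conj_gl (hirr.nonScal hA) (hirr.nonScal hB) (hA.1.trans hB.1.symm)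
    (hA.2.trans hB.2.symm)
  exact ⟨psi P, psi_mem P, by simp [map_mul]⟩

/-- The longest word. -/
def w0 : List ℕ := [0, 1, 0, 1, 0, 1]

theorem chk_w0 : (∀ i ∈ w0, i < 2) ∧ (∀ r < 12, wperm tblG2 w0 r = tblG2.neg r) ∧
    tblG2.neg 4 = 7 ∧ sgnW tblG2 w0 4 * sgnW tblG2 w0 7 = 1 := by decide +kernel

theorem isWord_w0 : IsWord chevG2 w0 := fun i hi => chk_w0.1 i hi

theorem noRoot_flip {τ δ : F} (h : NoRoot τ δ) : NoRoot (τ / δ) (1 / δ) := fun z hz => by
  have hd := h.det_ne
  have hz0 : z ≠ 0 := fun e => by simp [e, hd] at hz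
  refine h z⁻¹ ?_
  field_simp at hz ⊢
  linear_combination hz

/-- The classes of an element and of its inverse are joined in the group. -/
theorem conjG_flip {A B : GL (Fin 2) F} {τ δ : F} (hirr : NoRoot τ δ)
    (hA : TrDet τ δ (A : Matrix (Fin 2) (Fin 2) F)) (hB : TrDet (τ / δ) (1 / δ) (B : Matrix (Fin 2) (Fin 2) F)) :
    ConjG (psi A) (psi B) := by
  set d : Fˣ := Units.mk0 δ hirr.det_ne with hd
  set β : F := τ - 1 - δ with hβ
  have hA0 : TrDet τ δ (cellM 1 β 1 d : Matrix (Fin 2) (Fin 2) F) :=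
    ⟨by rw [cellM_trace, hd, hβ]; simp, cellM_det _ _ _ _⟩
  set e4 : F := ((sgnW tblG2 w0 4 : ℤ) : F)
  set e7 : F := ((sgnW tblG2 w0 7 : ℤ) : F)
  have he : e4 * e7 = 1 := by
    show ((sgnW tblG2 w0 4 : ℤ) : F) * _ = 1
    rw [← Int.cast_mul, chk_w0.2.2.2, Int.cast_one]
  set A2 : GL (Fin 2) F := cellM 0 e4 1 1 * cellM 0 0 1 d⁻¹ * cellM (e7 * β) 0 1 1 with hA2
  have htd : TrDet (τ / δ) (1 / δ) (A2 : Matrix (Fin 2) (Fin 2) F) := by
    have hd0 := hirr.det_ne
    have e : (A2 : Matrix (Fin 2) (Fin 2) F) = !![1 + e4 * δ⁻¹ * (e7 * β), e4 * δ⁻¹; δ⁻¹ * (e7 * β), δ⁻¹] := by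
      rw [hA2, Units.val_mul, Units.val_mul, cellM_val, cellM_val, cellM_val]
      ext i j; fin_cases i <;> fin_cases j <;> simp [Matrix.mul_apply, Fin.sum_univ_two, hd]
    rw [e]
    refine ⟨?_, ?_⟩
    · rw [Matrix.trace_fin_two]
      simp only [Matrix.of_apply, Matrix.cons_val', Matrix.cons_val_zero, Matrix.cons_val_one, Matrix.empty_val',
        Matrix.cons_val_fin_one]
      rw [hβ]; field_simp
      linear_combination (τ - 1 - δ) * he
    · rw [Matrix.det_fin_two_of]; field_simp; ring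
  refine (conjG_psi hirr hA hA0).trans (ConjG.trans ?_ (conjG_psi (noRoot_flip hirr) htd hB))
  refine ⟨wnu certG2 F w0, wnu_mem_group certG2 isWord_w0, ?_⟩
  have hneg : ∀ r < chevG2.nroots, wperm tblG2 w0 r = tblG2.neg r := chk_w0.2.1
  have h4 : ∀ t : F, wnu certG2 F w0 * xx 4 t * (wnu certG2 F w0)⁻¹ = xx 7 (e4 * t) := fun t => by
    rw [wnu_conj_sgn certG2 isWord_w0 rlt, hneg 4 rlt, chk_w0.2.2.1]
  have h7 : ∀ t : F, wnu certG2 F w0 * xx 7 t * (wnu certG2 F w0)⁻¹ = xx 4 (e7 * t) := fun t => by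
    rw [wnu_conj_sgn certG2 isWord_w0 rlt, hneg 7 rlt, simp_vals.2.2.1]
  have ht := wnu_conj_diag_inv (F := F) certG2 isWord_w0 hneg (torus_mem 1 d)
  have hti : (torus (1 : Fˣ) d)⁻¹ = torus 1 d⁻¹ :=
    inv_eq_of_mul_eq_one_right (by rw [torus_mul, one_mul, mul_inv_cancel, torus_one])
  rw [hA2, map_mul, map_mul, psi_cell, psi_cell, psi_cell, psi_cell]
  simp only [xx, xg_zero, one_mul, mul_one, torus_one]
  rw [show wnu certG2 F w0 * (xg certG2 4 1 * torus 1 d * xg certG2 7 β) * (wnu certG2 F w0)⁻¹ =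
    (wnu certG2 F w0 * xg certG2 4 1 * (wnu certG2 F w0)⁻¹) * (wnu certG2 F w0 * torus 1 d * (wnu certG2 F w0)⁻¹) *
      (wnu certG2 F w0 * xg certG2 7 β * (wnu certG2 F w0)⁻¹) by group, h4, h7, ht, hti, mul_one]

/-- Conjugate to an element with middle part `M` in the Levi subgroup. -/
def HasForm (g : GL chevG2.Idx F) (M : GL (Fin 2) F) : Prop :=
  ∃ x ∈ chevG2.group F, ∃ v ∈ negRad certG2 F {0}, ∃ u ∈ chevG2.unipotentRadical F {0},
    x * g * x⁻¹ = v * psi M * u

theorem HasForm.conj {g : GL chevG2.Idx F} {M : GL (Fin 2) F} (h : HasForm g M) (P : GL (Fin 2) F) :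
    HasForm g (P * M * P⁻¹) := by
  obtain ⟨x, hx, v, hv, u, hu, e⟩ := h
  refine ⟨psi P * x, mul_mem (psi_mem P) hx, psi P * v * (psi P)⁻¹,
    conj_mem_of_normalizer (levi_le_normalizer_negRad certG2 fullCertG2 _ (psi_mem_levi P)) hv,
    psi P * u * (psi P)⁻¹, conj_mem_of_normalizer (levi_le_normalizer certG2 fullCertG2 _ (psi_mem_levi P)) hu, ?_⟩
  rw [show psi P * x * g * (psi P * x)⁻¹ = psi P * (x * g * x⁻¹) * (psi P)⁻¹ by group, e, map_mul, map_mul, map_inv]
  group

/-- An element of the cell gives a form. -/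
theorem hasForm_of_cell {g v u : GL chevG2.Idx F} {x : GL chevG2.Idx F} (hx : x ∈ chevG2.group F)
    {a b : Fˣ} {α β : F} (hv : v ∈ negRad certG2 F {0}) (hu : u ∈ chevG2.unipotentRadical F {0})
    (e : x * g * x⁻¹ = v * xx 4 α * torus a b * xx 7 β * u) : HasForm g (cellM α β a b) := by
  refine ⟨x, hx, v, hv, u, hu, ?_⟩
  rw [e, psi_cell]
  group

/-- Every element has a form. -/
theorem exists_hasForm {g : GL chevG2.Idx F} {c : Fin chevG2.rank → Fˣ}
    (h : InCell g (torusHom chevG2 tblG2 F c)) :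
    ∃ α β, HasForm g (cellM α β (c ⟨0, by decide⟩) (c ⟨1, by decide⟩)) := by
  obtain ⟨x, hx, v, hv, u, hu, e⟩ := h
  obtain ⟨α, v', hv', rfl⟩ := neg_split certG2 fullCertG2 (i := 0) (by decide) hv
  obtain ⟨β, u', hu', rfl⟩ := pos_split certG2 fullCertG2 (i := 0) (by decide) hu
  refine ⟨α, β, hasForm_of_cell hx hv' hu' ?_⟩
  have hc : torus (c ⟨0, by decide⟩) (c ⟨1, by decide⟩) = torusHom chevG2 tblG2 F c := by
    rw [torus]; congr 1; funext i
    have h2 := i.2
    simp only [show chevG2.rank = 2 from rfl] at h2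
    unfold cvec
    split_ifs with h
    · exact congrArg c (Fin.ext h.symm)
    · exact congrArg c (Fin.ext (show 1 = i.val by omega))
  rw [e, simp_vals.1, simp_vals.2.2.1, hc]
  group

/-- Absorption inside a subgroup. -/
theorem absorb_in {Γ : Type*} [Group Γ] [Finite Γ] {H V U : Subgroup Γ} {a b v u : Γ} (hVH : V ≤ H) (hUH : U ≤ H)
    (ha : a ∈ H) (hb : b ∈ H) (hNV : ∀ n ∈ V, a * n * a⁻¹ ∈ V) (hCV : ∀ n ∈ V, Commute a n → n = 1)
    (hNU : ∀ n ∈ U, b * n * b⁻¹ ∈ U) (hCU : ∀ n ∈ U, Commute b n → n = 1) (hv : v ∈ V) (hu : u ∈ U) :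
    (∃ z ∈ H, z * a * z⁻¹ = v * a) ∧ ∃ z ∈ H, z * b * z⁻¹ = b * u := by
  have h1 : IsConj (⟨a, ha⟩ : H) (⟨v, hVH hv⟩ * ⟨a, ha⟩) := absorb_left (c := (⟨a, ha⟩ : H)) (U := V.subgroupOf H)
    (fun n hn => hNV _ hn) (fun n hn h => Subtype.ext (hCV _ hn (congrArg Subtype.val h))) hv
  have h2 : IsConj (⟨b, hb⟩ : H) (⟨b, hb⟩ * ⟨u, hUH hu⟩) := absorb_right (c := (⟨b, hb⟩ : H)) (U := U.subgroupOf H)
    (fun n hn => hNU _ hn) (fun n hn h => Subtype.ext (hCU _ hn (congrArg Subtype.val h))) hu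
  obtain ⟨z₁, hz₁⟩ := isConj_iff.1 h1
  obtain ⟨z₂, hz₂⟩ := isConj_iff.1 h2
  exact ⟨⟨z₁, z₁.2, congrArg Subtype.val hz₁⟩, ⟨z₂, z₂.2, congrArg Subtype.val hz₂⟩⟩

/-- Absorption of the two radicals into the factors. -/
theorem cover [Fintype F] {τ δ : F} (hirr : NoRoot τ δ) (hτ : τ ≠ 0) (hδ : δ ≠ 1) {A : GL (Fin 2) F}
    (hA : TrDet τ δ (A : Matrix (Fin 2) (Fin 2) F)) {g : GL chevG2.Idx F} {M : GL (Fin 2) F}
    (hg : HasForm g M) (hM : PairM τ δ (τ / δ) (1 / δ) M) :
    ∃ a b, ConjG (psi A) a ∧ ConjG (psi A) b ∧ g = a * b := by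
  obtain ⟨x, hx, v, hv, u, hu, e⟩ := hg
  obtain ⟨P, Q, hP, hQ, rfl⟩ := hM
  have hd0 := hirr.det_ne
  have hτ' : τ / δ ≠ 0 := div_ne_zero hτ hd0
  have hδ' : 1 / δ ≠ 1 := fun h => hδ (by field_simp at h; exact h.symm)
  have hfpf : ∀ B : GL (Fin 2) F, (TrDet τ δ (B : Matrix (Fin 2) (Fin 2) F) ∨
      TrDet (τ / δ) (1 / δ) (B : Matrix (Fin 2) (Fin 2) F)) →
      ((∀ n ∈ chevG2.unipotentRadical F {0}, Commute (psi B) n → n = 1) ∧
        ∀ n ∈ negRad certG2 F {0}, Commute (psi B) n → n = 1) ∧ ConjG (psi A) (psi B) := fun B hB => by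
    rcases hB with hB | hB
    · exact ⟨psi_fpf hirr hτ hδ hB, conjG_psi hirr hA hB⟩
    · exact ⟨psi_fpf (noRoot_flip hirr) hτ' hδ' hB, conjG_flip hirr hA hB⟩
  obtain ⟨⟨-, hfP⟩, cP⟩ := hfpf P hP
  obtain ⟨⟨hfQ, -⟩, cQ⟩ := hfpf Q hQ
  obtain ⟨⟨z₁, hz₁, e₁⟩, ⟨z₂, hz₂, e₂⟩⟩ := absorb_in (H := chevG2.group F)
    (V := negRad certG2 F {0}) (U := chevG2.unipotentRadical F {0})
    ((negRad_le_neg certG2 _).trans (neg_le_group certG2)) ((radical_le_pos certG2 _).trans (pos_le_group certG2))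
    (psi_mem P) (psi_mem Q)
    (fun n hn => conj_mem_of_normalizer (levi_le_normalizer_negRad certG2 fullCertG2 _ (psi_mem_levi P)) hn) hfP
    (fun n hn => conj_mem_of_normalizer (levi_le_normalizer certG2 fullCertG2 _ (psi_mem_levi Q)) hn) hfQ hv hu
  refine ⟨x⁻¹ * (v * psi P) * x, x⁻¹ * (psi Q * u) * x,
    cP.trans (ConjG.trans ⟨z₁, hz₁, e₁⟩ ⟨x⁻¹, inv_mem hx, by group⟩),
    cQ.trans (ConjG.trans ⟨z₂, hz₂, e₂⟩ ⟨x⁻¹, inv_mem hx, by group⟩), ?_⟩
  calc g = x⁻¹ * (x * g * x⁻¹) * x := by group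
    _ = x⁻¹ * (v * (psi P * psi Q) * u) * x := by rw [e, map_mul]
    _ = _ := by group

/-- From pairs to the statement in the group. -/
theorem in_group [Fintype F] {c : GL chevG2.Idx F} (hc : c ∈ chevG2.group F)
    (h : ∀ g ∈ chevG2.group F, g ≠ 1 → ∃ a b, ConjG c a ∧ ConjG c b ∧ g = a * b) (p : ℕ)
    (hp : ¬ p ∣ orderOf c) :
    ∃ x : ↥(chevG2.group F), ¬ p ∣ orderOf x ∧
      ∀ g : ↥(chevG2.group F), g ≠ 1 → ∃ u v : ↥(chevG2.group F), g = (u * x * u⁻¹) * (v * x * v⁻¹) := by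
  refine ⟨⟨c, hc⟩, by rwa [← Subgroup.orderOf_coe], fun g hg => ?_⟩
  obtain ⟨a, b, ⟨z, hz, rfl⟩, ⟨w, hw, rfl⟩, e⟩ := h g g.2 fun e => hg (Subtype.ext e)
  exact ⟨⟨z, hz⟩, ⟨w, hw⟩, Subtype.ext e⟩

end Cfsg.Lib.ClassSquare.GTwo
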