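import Cfsg.Agent.Lib.ClassSquare.Base
import Cfsg.Agent.Lib.Linear.OrthLevi

/-!
# Block decompositions of matrices in a split form group
-/

set_option autoImplicit false

namespace Cfsg.Lib.ClassSquare

open Matrix Cfsg.Lib.Linear.Orth

variable {K : Type*} [Field K] {m : ℕ}

/-- The upper radical. -/
def upHom (m : ℕ) (K : Type*) [Field K] : Multiplicative (Matrix (Fin m) (Fin m) K) →* GL (Fin m ⊕ Fin m) K where
  toFun S :=
    { val := fromBlocks 1 (Multiplicative.toAdd S) 0 1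
      inv := fromBlocks 1 (-Multiplicative.toAdd S) 0 1
      val_inv := by simp [fromBlocks_multiply]
      inv_val := by simp [fromBlocks_multiply] }
  map_one' := Units.ext (by simp)
  map_mul' S T := Units.ext (by simp [fromBlocks_multiply, add_comm])

/-- The lower radical. -/
def loHom (m : ℕ) (K : Type*) [Field K] : Multiplicative (Matrix (Fin m) (Fin m) K) →* GL (Fin m ⊕ Fin m) K where
  toFun S :=
    { val := fromBlocks 1 0 (Multiplicative.toAdd S) 1
      inv := fromBlocks 1 0 (-Multiplicative.toAdd S) 1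
      val_inv := by simp [fromBlocks_multiply]
      inv_val := by simp [fromBlocks_multiply] }
  map_one' := Units.ext (by simp)
  map_mul' S T := Units.ext (by simp [fromBlocks_multiply])

/-- An element of the upper radical. -/
def upG (S : Matrix (Fin m) (Fin m) K) : GL (Fin m ⊕ Fin m) K := upHom m K (Multiplicative.ofAdd S)

/-- An element of the lower radical. -/
def loG (S : Matrix (Fin m) (Fin m) K) : GL (Fin m ⊕ Fin m) K := loHom m K (Multiplicative.ofAdd S)

theorem coe_upG (S : Matrix (Fin m) (Fin m) K) :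
    (upG S : Matrix (Fin m ⊕ Fin m) (Fin m ⊕ Fin m) K) = fromBlocks 1 S 0 1 := rfl

theorem coe_loG (S : Matrix (Fin m) (Fin m) K) :
    (loG S : Matrix (Fin m ⊕ Fin m) (Fin m ⊕ Fin m) K) = fromBlocks 1 0 S 1 := rfl

theorem coe_levGL (A : GL (Fin m) K) : (levGL m A : Matrix (Fin m ⊕ Fin m) (Fin m ⊕ Fin m) K)
    = fromBlocks (A : Matrix (Fin m) (Fin m) K) 0 0 ((A⁻¹ : GL (Fin m) K) : Matrix (Fin m) (Fin m) K)ᵀ := rfl

theorem upG_inv (S : Matrix (Fin m) (Fin m) K) : (upG S)⁻¹ = upG (-S) := by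
  rw [upG, upG, ofAdd_neg, map_inv]

theorem loG_inv (S : Matrix (Fin m) (Fin m) K) : (loG S)⁻¹ = loG (-S) := by
  rw [loG, loG, ofAdd_neg, map_inv]

theorem lev_up (A : GL (Fin m) K) (S : Matrix (Fin m) (Fin m) K) :
    levGL m A * upG S * (levGL m A)⁻¹ = upG ((A : Matrix (Fin m) (Fin m) K) * S * (A : Matrix (Fin m) (Fin m) K)ᵀ) := by
  refine mul_inv_eq_iff_eq_mul.2 (Units.ext ?_)
  simp [coe_levGL, coe_upG, fromBlocks_multiply, Matrix.mul_assoc, ← Matrix.transpose_mul, ← Units.val_mul]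

theorem lev_lo (A : GL (Fin m) K) (S : Matrix (Fin m) (Fin m) K) :
    levGL m A * loG S * (levGL m A)⁻¹
      = loG (((A⁻¹ : GL (Fin m) K) : Matrix (Fin m) (Fin m) K)ᵀ * S * ((A⁻¹ : GL (Fin m) K) : Matrix (Fin m) (Fin m) K)) := by
  refine mul_inv_eq_iff_eq_mul.2 (Units.ext ?_)
  simp [coe_levGL, coe_loG, fromBlocks_multiply, Matrix.mul_assoc, ← Units.val_mul]

theorem upG_injective : Function.Injective (upG : Matrix (Fin m) (Fin m) K → GL (Fin m ⊕ Fin m) K) := fun S T h => by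
  have := congrArg (fun g : GL (Fin m ⊕ Fin m) K => (g : Matrix (Fin m ⊕ Fin m) (Fin m ⊕ Fin m) K).toBlocks₁₂) h
  simpa [coe_upG] using this

theorem loG_injective : Function.Injective (loG : Matrix (Fin m) (Fin m) K → GL (Fin m ⊕ Fin m) K) := fun S T h => by
  have := congrArg (fun g : GL (Fin m ⊕ Fin m) K => (g : Matrix (Fin m ⊕ Fin m) (Fin m ⊕ Fin m) K).toBlocks₂₁) h
  simpa [coe_loG] using this

/-- An element with invertible corner and the expected factors is a pair of the class. -/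
theorem isPair_lev [Finite K] (H : Subgroup (GL (Fin m ⊕ Fin m) K)) {X : GL (Fin m) K} (hX : levGL m X ∈ H)
    (hCU : ∀ S, upG S ∈ H → (X : Matrix (Fin m) (Fin m) K) * S * (X : Matrix (Fin m) (Fin m) K)ᵀ = S → S = 0)
    (hCV : ∀ S, loG S ∈ H → (X : Matrix (Fin m) (Fin m) K)ᵀ * S * (X : Matrix (Fin m) (Fin m) K) = S → S = 0)
    {M : ↥H} {A x y : GL (Fin m) K} {P Q : Matrix (Fin m) (Fin m) K} (hP : loG P ∈ H) (hQ : upG Q ∈ H)
    (hx : levGL m x ∈ H) (hy : levGL m y ∈ H) (hA : A = (x * X * x⁻¹) * (y * X * y⁻¹)⁻¹)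
    (hM : (M : GL (Fin m ⊕ Fin m) K) = loG P * levGL m A * upG Q) : IsPair (⟨_, hX⟩ : ↥H) M := by
  classical
  haveI := Fintype.ofFinite K
  let c : ↥H := ⟨_, hX⟩
  have hU : ∀ {A : GL (Fin m) K} (hA : levGL m A ∈ H) {u : ↥H}, u ∈ (upHom m K).range.subgroupOf H →
      (⟨_, hA⟩ : ↥H) * u * (⟨_, hA⟩ : ↥H)⁻¹ ∈ (upHom m K).range.subgroupOf H := fun {A} hA {u} hu => by
    obtain ⟨S, hS⟩ := Subgroup.mem_subgroupOf.1 hu
    refine Subgroup.mem_subgroupOf.2 ⟨Multiplicative.ofAdd ((A : Matrix (Fin m) (Fin m) K) * Multiplicative.toAdd S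
      * (A : Matrix (Fin m) (Fin m) K)ᵀ), ?_⟩
    rw [Subgroup.coe_mul, Subgroup.coe_mul, InvMemClass.coe_inv, ← hS]
    exact (lev_up A (Multiplicative.toAdd S)).symm
  have hV : ∀ {A : GL (Fin m) K} (hA : levGL m A ∈ H) {u : ↥H}, u ∈ (loHom m K).range.subgroupOf H →
      (⟨_, hA⟩ : ↥H) * u * (⟨_, hA⟩ : ↥H)⁻¹ ∈ (loHom m K).range.subgroupOf H := fun {A} hA {u} hu => by
    obtain ⟨S, hS⟩ := Subgroup.mem_subgroupOf.1 hu
    refine Subgroup.mem_subgroupOf.2 ⟨Multiplicative.ofAdd (((A⁻¹ : GL (Fin m) K) : Matrix (Fin m) (Fin m) K)ᵀ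
      * Multiplicative.toAdd S * ((A⁻¹ : GL (Fin m) K) : Matrix (Fin m) (Fin m) K)), ?_⟩
    rw [Subgroup.coe_mul, Subgroup.coe_mul, InvMemClass.coe_inv, ← hS]
    exact (lev_lo A (Multiplicative.toAdd S)).symm
  have hcU : ∀ n ∈ (upHom m K).range.subgroupOf H, c * n = n * c → n = 1 := fun n hn h => by
    obtain ⟨S, hS⟩ := Subgroup.mem_subgroupOf.1 hn
    have h' := congrArg Subtype.val h
    rw [Subgroup.coe_mul, Subgroup.coe_mul, ← hS] at h'
    have h'' : levGL m X * upG (Multiplicative.toAdd S) * (levGL m X)⁻¹ = upG (Multiplicative.toAdd S) :=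
      mul_inv_eq_iff_eq_mul.2 h'
    rw [lev_up] at h''
    have h0 := hCU _ (by show upHom m K S ∈ H; rw [hS]; exact n.2) (upG_injective h'')
    refine Subtype.ext ?_
    rw [← hS, show S = 1 from h0, map_one]
    rfl
  have hcV : ∀ n ∈ (loHom m K).range.subgroupOf H, c * n = n * c → n = 1 := fun n hn h => by
    obtain ⟨S, hS⟩ := Subgroup.mem_subgroupOf.1 hn
    have h' := congrArg Subtype.val h
    rw [Subgroup.coe_mul, Subgroup.coe_mul, ← hS] at h'
    have h'' : levGL m X * loG (Multiplicative.toAdd S) * (levGL m X)⁻¹ = loG (Multiplicative.toAdd S) :=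
      mul_inv_eq_iff_eq_mul.2 h'
    rw [lev_lo] at h''
    have hi : ((X⁻¹ : GL (Fin m) K) : Matrix (Fin m) (Fin m) K) * (X : Matrix (Fin m) (Fin m) K) = 1 := X.inv_mul
    obtain ⟨T, hT⟩ : ∃ T : Matrix (Fin m) (Fin m) K, Multiplicative.toAdd S = T := ⟨_, rfl⟩
    have e := loG_injective h''
    rw [hT] at e
    have h0 := hCV _ (by show loHom m K S ∈ H; rw [hS]; exact n.2) (show (X : Matrix (Fin m) (Fin m) K)ᵀ
        * Multiplicative.toAdd S * (X : Matrix (Fin m) (Fin m) K) = Multiplicative.toAdd S by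
      rw [hT]
      conv_lhs => rw [← e]
      simp only [← Matrix.mul_assoc, ← Matrix.transpose_mul]
      rw [Matrix.mul_assoc, hi, Matrix.transpose_one, one_mul, mul_one])
    refine Subtype.ext ?_
    rw [← hS, show S = 1 from h0, map_one]
    rfl
  let v : ↥H := ⟨_, hP⟩
  let u : ↥H := ⟨_, hQ⟩
  let x' : ↥H := ⟨_, hx⟩
  let y' : ↥H := ⟨_, hy⟩
  have hv : x'⁻¹ * v * x' ∈ (loHom m K).range.subgroupOf H := by
    have := hV (A := x⁻¹) (by rw [map_inv]; exact inv_mem hx) (u := v)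
      (Subgroup.mem_subgroupOf.2 ⟨Multiplicative.ofAdd P, rfl⟩)
    convert this using 1
    exact Subtype.ext (by simp [x'])
  have hu : y'⁻¹ * u⁻¹ * y' ∈ (upHom m K).range.subgroupOf H := by
    have := hU (A := y⁻¹) (by rw [map_inv]; exact inv_mem hy) (u := u⁻¹)
      (inv_mem (Subgroup.mem_subgroupOf.2 ⟨Multiplicative.ofAdd Q, rfl⟩))
    convert this using 1
    exact Subtype.ext (by simp [y'])
  obtain ⟨a, b, ha, hb, e⟩ := prod_form (fun w hw => hU hX hw) hcU (fun w hw => hV hX hw) hcV hv hu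
  refine ⟨a, b, ha, hb, ?_⟩
  rw [← e]
  refine Subtype.ext ?_
  simp [hM, hA, v, u, x', y', c]

/-- A congruence fixed matrix vanishes where the diagonal products differ from one. -/
theorem cong_fixed_zero {X S : Matrix (Fin m) (Fin m) K} {N : ℕ} {d : Fin m → K} (hX : X ^ N = diagonal d)
    (h : X * S * Xᵀ = S) {i j : Fin m} (hd : d i * d j ≠ 1) : S i j = 0 := by
  have hp : ∀ n : ℕ, X ^ n * S * (X ^ n)ᵀ = S := fun n => by
    induction n with
    | zero => simp
    | succ n ih =>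
      rw [pow_succ, Matrix.transpose_mul, show X ^ n * X * S * (Xᵀ * (X ^ n)ᵀ) = X ^ n * (X * S * Xᵀ) * (X ^ n)ᵀ by
        simp only [Matrix.mul_assoc], h, ih]
  have h1 := congrFun (congrFun (hp N) i) j
  rw [hX, Matrix.diagonal_transpose, Matrix.mul_diagonal, Matrix.diagonal_mul] at h1
  by_contra h0
  exact hd (mul_right_cancel₀ h0 (by rw [one_mul]; linear_combination h1))

theorem cong_fixed_zero' {X S : Matrix (Fin m) (Fin m) K} {N : ℕ} {d : Fin m → K} (hX : X ^ N = diagonal d)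
    (h : Xᵀ * S * X = S) {i j : Fin m} (hd : d i * d j ≠ 1) : S i j = 0 :=
  cong_fixed_zero (N := N) (d := d) (by rw [← Matrix.transpose_pow, hX, Matrix.diagonal_transpose])
    (by rw [Matrix.transpose_transpose]; exact h) hd

/-- Adding a vector outside the image raises the rank. -/
theorem rank_lt_of_image {A A' : Matrix (Fin m) (Fin m) K} (h : ∀ y, A *ᵥ y ∈ LinearMap.range A'.mulVecLin)
    {v : Fin m → K} (hv : v ∈ LinearMap.range A'.mulVecLin) (hv' : v ∉ LinearMap.range A.mulVecLin) :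
    A.rank < A'.rank := by
  refine Submodule.finrank_lt_finrank_of_lt (lt_of_le_of_ne ?_ fun e => hv' (e ▸ hv))
  rintro _ ⟨y, rfl⟩
  exact h y

/-- The determinant of a plane perturbation of the identity. -/
theorem det_plane (u w p q : Fin m → K) :
    (1 + (vecMulVec u p + vecMulVec w q)).det = (1 + p ⬝ᵥ u) * (1 + q ⬝ᵥ w) - p ⬝ᵥ w * (q ⬝ᵥ u) := by
  have e : vecMulVec u p + vecMulVec w q
      = (Matrix.of fun i (a : Fin 2) => ![u i, w i] a) * Matrix.of fun (a : Fin 2) j => ![p j, q j] a := by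
    ext i j
    simp [Matrix.mul_apply, vecMulVec_apply, Fin.sum_univ_two]
  rw [e, Matrix.det_one_add_mul_comm, Matrix.det_fin_two]
  simp [Matrix.mul_apply, dotProduct, Matrix.one_apply]

end Cfsg.Lib.ClassSquare
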