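import Cfsg.Agent.Lib.Linear.RegUnip.Avoid

/-!
# Peeling off a prescribed diagonal entry without lowering small ranks
-/

set_option autoImplicit false

namespace Cfsg.Lib.ClassSquare

open Matrix Module
open Cfsg.Agent.RegUnip (exists_avoid exists_functional)

variable {K : Type*} [Field K] {n : ℕ}

/-- The Schur complement of the first entry. -/
def schur (N : Matrix (Fin (n + 1)) (Fin (n + 1)) K) : Matrix (Fin n) (Fin n) K :=
  Matrix.of fun i j => N i.succ j.succ - N i.succ 0 * N 0 j.succ / N 0 0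

/-- The lift of a vector to the kernel of the first row. -/
def liftVec (N : Matrix (Fin (n + 1)) (Fin (n + 1)) K) : (Fin n → K) →ₗ[K] (Fin (n + 1) → K) where
  toFun x := Fin.cons (-(∑ j, N 0 j.succ * x j) / N 0 0) x
  map_add' x y := by
    funext i
    refine Fin.cases ?_ ?_ i
    · simp [mul_add, Finset.sum_add_distrib, neg_add, add_div, add_comm]
    · intro i; simp
  map_smul' c x := by
    funext i
    refine Fin.cases ?_ ?_ i
    · simp [mul_left_comm _ c, ← Finset.mul_sum, mul_div_assoc, neg_div]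
    · intro i; simp

theorem liftVec_injective (N : Matrix (Fin (n + 1)) (Fin (n + 1)) K) : Function.Injective (liftVec N) :=
  fun _ _ h => funext fun i => by simpa [liftVec] using congrFun h i.succ

/-- On the lift, `N - ν` is the Schur complement minus `ν`, up to the first basis vector. -/
theorem sub_mulVec_lift {N : Matrix (Fin (n + 1)) (Fin (n + 1)) K} (h0 : N 0 0 ≠ 0) (ν : K) (x : Fin n → K) :
    (N - ν • 1) *ᵥ liftVec N x = Fin.cons (-(ν * liftVec N x 0)) ((schur N - ν • 1) *ᵥ x) := by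
  funext i
  rw [Matrix.sub_mulVec, Matrix.smul_mulVec, Matrix.one_mulVec]
  refine Fin.cases ?_ ?_ i
  · simp [Matrix.mulVec, dotProduct, Fin.sum_univ_succ, liftVec]
    field_simp
    ring
  · intro i
    simp [Matrix.mulVec, dotProduct, Fin.sum_univ_succ, liftVec, schur, Matrix.sub_mulVec, Matrix.smul_mulVec,
      Matrix.one_mulVec, sub_mul, Finset.sum_sub_distrib]
    have : ∑ j : Fin n, N i.succ 0 * N 0 j.succ / N 0 0 * x j
        = N i.succ 0 / N 0 0 * ∑ j : Fin n, N 0 j.succ * x j := by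
      rw [Finset.mul_sum]
      exact Finset.sum_congr rfl fun j _ => by field_simp
    rw [this]
    field_simp
    ring

theorem finrank_ker_add_rank (T : Matrix (Fin n) (Fin n) K) :
    finrank K (LinearMap.ker T.mulVecLin) + T.rank = n := by
  rw [Matrix.rank, add_comm, LinearMap.finrank_range_add_finrank_ker, Module.finrank_fin_fun]

theorem rank_schur_ge {N : Matrix (Fin (n + 1)) (Fin (n + 1)) K} (h0 : N 0 0 ≠ 0) (ν : K) :
    (N - ν • 1).rank ≤ (schur N - ν • 1).rank + 2 := by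
  set e0 : Fin (n + 1) → K := Pi.single 0 1
  let f := (LinearMap.ker (schur N - ν • 1).mulVecLin).subtype
  let U := Submodule.comap (N - ν • 1).mulVecLin (K ∙ e0)
  have hle : finrank K (LinearMap.ker (schur N - ν • 1).mulVecLin) ≤ finrank K U := by
    rw [← LinearMap.finrank_range_of_inj (f := (liftVec N).comp f)
      ((liftVec_injective N).comp Subtype.val_injective)]
    refine Submodule.finrank_mono ?_
    rintro _ ⟨⟨x, hx⟩, rfl⟩
    refine Submodule.mem_span_singleton.2 ⟨-(ν * liftVec N x 0), ?_⟩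
    show _ = (N - ν • 1) *ᵥ liftVec N x
    rw [sub_mulVec_lift h0, show (schur N - ν • 1) *ᵥ x = 0 from hx]
    funext i
    refine Fin.cases ?_ ?_ i <;> simp [e0]
  have hU : finrank K U ≤ finrank K (LinearMap.ker (N - ν • 1).mulVecLin) + 1 := by
    have h := LinearMap.finrank_range_add_finrank_ker ((N - ν • 1).mulVecLin.domRestrict U)
    have hr : finrank K (LinearMap.range ((N - ν • 1).mulVecLin.domRestrict U)) ≤ 1 := by
      refine (Submodule.finrank_mono (t := K ∙ e0) ?_).trans (finrank_span_le_card _) |>.trans (by simp)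
      rintro _ ⟨⟨x, hx⟩, rfl⟩
      exact hx
    have hk : finrank K (LinearMap.ker ((N - ν • 1).mulVecLin.domRestrict U))
        ≤ finrank K (LinearMap.ker (N - ν • 1).mulVecLin) := by
      rw [← LinearMap.finrank_range_of_inj (f := U.subtype.comp
        (LinearMap.ker ((N - ν • 1).mulVecLin.domRestrict U)).subtype)
        (Subtype.val_injective.comp Subtype.val_injective)]
      refine Submodule.finrank_mono ?_
      rintro _ ⟨⟨x, hx⟩, rfl⟩
      exact hx
    omega
  have h1 := finrank_ker_add_rank (schur N - ν • 1)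
  have h2 := finrank_ker_add_rank (N - ν • 1)
  omega

theorem rank_schur_of_not_mem {N : Matrix (Fin (n + 1)) (Fin (n + 1)) K} (h0 : N 0 0 ≠ 0) {ν : K} (hν : ν ≠ 0)
    (hout : (Pi.single 0 1 : Fin (n + 1) → K) ∉ LinearMap.range (N - ν • 1).mulVecLin) :
    (N - ν • 1).rank ≤ (schur N - ν • 1).rank + 1 ∧
    ((∃ z : Fin (n + 1) → K, z 0 ≠ 0 ∧ (N - ν • 1) *ᵥ z = 0) →
      (N - ν • 1).rank ≤ (schur N - ν • 1).rank) := by
  set k := LinearMap.ker (N - ν • 1).mulVecLin
  set ks := LinearMap.ker (schur N - ν • 1).mulVecLin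
  have key : ∀ x ∈ ks, liftVec N x ∈ k ∧ liftVec N x 0 = 0 := by
    intro x hx
    have h := sub_mulVec_lift h0 ν x
    rw [show (schur N - ν • 1) *ᵥ x = 0 from hx] at h
    have ha : liftVec N x 0 = 0 := by
      by_contra ha
      refine hout ⟨(-(ν * liftVec N x 0))⁻¹ • liftVec N x, ?_⟩
      rw [map_smul]
      show _ • ((N - ν • 1) *ᵥ liftVec N x) = _
      rw [h]
      funext i
      refine Fin.cases ?_ ?_ i
      · simp [hν, ha]
        field_simp
      · intro i; simp
    refine ⟨?_, ha⟩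
    show (N - ν • 1) *ᵥ liftVec N x = 0
    rw [h, ha]
    funext i
    refine Fin.cases ?_ ?_ i <;> simp
  have h1 := finrank_ker_add_rank (schur N - ν • 1)
  have h2 := finrank_ker_add_rank (N - ν • 1)
  have hr : finrank K ks = finrank K (Submodule.map (liftVec N) ks) :=
    (Submodule.equivMapOfInjective _ (liftVec_injective N) _).finrank_eq
  have hle : Submodule.map (liftVec N) ks ≤ k := Submodule.map_le_iff_le_comap.2 fun x hx => (key x hx).1
  have hk : finrank K k = finrank K (LinearMap.ker (N - ν • 1).mulVecLin) := rfl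
  have hks : finrank K ks = finrank K (LinearMap.ker (schur N - ν • 1).mulVecLin) := rfl
  refine ⟨?_, fun ⟨z, hz0, hz⟩ => ?_⟩
  · have := Submodule.finrank_mono hle
    omega
  · have hlt : Submodule.map (liftVec N) ks < k := by
      refine lt_of_le_of_ne hle fun e => ?_
      have hzk : z ∈ k := hz
      rw [← e] at hzk
      obtain ⟨x, hx, rfl⟩ := hzk
      exact hz0 (key x hx).2
    have := Submodule.finrank_lt_finrank_of_lt hlt
    have hk : finrank K k = finrank K (LinearMap.ker (N - ν • 1).mulVecLin) := rfl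
    have hks : finrank K ks = finrank K (LinearMap.ker (schur N - ν • 1).mulVecLin) := rfl
    omega

/-- The eigenvalues of large multiplicity are few. -/
theorem card_low_rank (T : Matrix (Fin (n + 1)) (Fin (n + 1)) K) {a b c : K} (hab : a ≠ b) (hac : a ≠ c)
    (hbc : b ≠ c) : 2 * (n + 1) ≤ (T - a • 1).rank + (T - b • 1).rank + (T - c • 1).rank := by
  let g := LinearMap.ker (T - a • 1).mulVecLin
  let h := LinearMap.ker (T - b • 1).mulVecLin
  let l := LinearMap.ker (T - c • 1).mulVecLin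
  have hm : ∀ {ν : K} {x : Fin (n + 1) → K}, x ∈ LinearMap.ker (T - ν • 1).mulVecLin → T *ᵥ x = ν • x :=
    fun {ν x} hx => by
      simpa [Matrix.sub_mulVec, Matrix.smul_mulVec, sub_eq_zero] using (show (T - ν • 1) *ᵥ x = 0 from hx)
  have h1 : g ⊓ h = ⊥ := by
    rw [eq_bot_iff]
    rintro x ⟨hx, hy⟩
    have e : a • x = b • x := (hm hx).symm.trans (hm hy)
    have : (a - b) • x = 0 := by rw [sub_smul, e, sub_self]
    exact (smul_eq_zero.1 this).resolve_left (sub_ne_zero.2 hab)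
  have h2 : (g ⊔ h) ⊓ l = ⊥ := by
    rw [eq_bot_iff]
    rintro x ⟨hx, hz⟩
    obtain ⟨u, hu, v, hv, rfl⟩ := Submodule.mem_sup.1 hx
    have e : T *ᵥ (u + v) = c • (u + v) := hm hz
    rw [Matrix.mulVec_add, hm hu, hm hv, smul_add] at e
    have e' : (a - c) • u = (c - b) • v := by linear_combination (norm := module) e
    have hu0 : u = 0 := by
      have h1' : (a - c) • u ∈ g ⊓ h := ⟨Submodule.smul_mem _ _ hu, by rw [e']; exact Submodule.smul_mem _ _ hv⟩
      rw [h1] at h1'
      exact (smul_eq_zero.1 h1').resolve_left (sub_ne_zero.2 hac)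
    rw [hu0, smul_zero] at e'
    simp [hu0, (smul_eq_zero.1 e'.symm).resolve_left (sub_ne_zero.2 (Ne.symm hbc))]
  have e1 := Submodule.finrank_sup_add_finrank_inf_eq g h
  have e2 := Submodule.finrank_sup_add_finrank_inf_eq (g ⊔ h) l
  rw [h1, finrank_bot] at e1
  rw [h2, finrank_bot] at e2
  have e3 := (g ⊔ h ⊔ l).finrank_le
  rw [Module.finrank_fin_fun] at e3
  have d1 : finrank K g + (T - a • 1).rank = n + 1 := finrank_ker_add_rank _
  have d2 : finrank K h + (T - b • 1).rank = n + 1 := finrank_ker_add_rank _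
  have d3 : finrank K l + (T - c • 1).rank = n + 1 := finrank_ker_add_rank _
  omega

section Vectors

variable {V : Type*} [AddCommGroup V] [Module K V] [FiniteDimensional K V]

/-- A vector outside two proper subspaces that is no eigenvector. -/
theorem exists_noneigen [Fintype K] (hK : 7 ≤ Fintype.card K) (f : V →ₗ[K] V)
    (hns : ∃ x, LinearIndependent K ![x, f x]) (L : List (Submodule K V)) (hL : L.length ≤ 2)
    (hp : ∀ A ∈ L, A ≠ ⊤) : ∃ v, (∀ A ∈ L, v ∉ A) ∧ LinearIndependent K ![v, f v] := by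
  classical
  have hK' : 4 ≤ Cardinal.mk K := by rw [Cardinal.mk_fintype]; exact_mod_cast (by omega : 4 ≤ Fintype.card K)
  obtain ⟨w, hw⟩ := exists_avoid hK' L (by omega) hp
  obtain ⟨x, hx⟩ := hns
  obtain ⟨φ, hφ⟩ := exists_functional hx ![(1 : K), 0]
  obtain ⟨ψ, hψ⟩ := exists_functional hx ![(0 : K), 1]
  have hφ0 : φ x = 1 := hφ 0
  have hφ1 : φ (f x) = 0 := hφ 1
  have hψ0 : ψ x = 0 := hψ 0
  have hψ1 : ψ (f x) = 1 := hψ 1
  let a : K := φ w * ψ (f w) - ψ w * φ (f w)
  let b : K := φ w + ψ (f w)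
  let P : Polynomial K := Polynomial.X ^ 2 + Polynomial.C b * Polynomial.X + Polynomial.C a
  have hP : P.natDegree = 2 := by simp only [P]; compute_degree!
  have hP0 : P ≠ 0 := fun h => by rw [h] at hP; simp at hP
  have hb : ∀ A : Submodule K V, ∃ s0 : K, w ∉ A → ∀ s : K, w + s • x ∈ A → s = s0 := fun A => by
    by_cases h : ∃ s0 : K, w + s0 • x ∈ A
    · obtain ⟨s0, hs0⟩ := h
      refine ⟨s0, fun hwA s hs => ?_⟩
      by_contra hne
      have h1 : (s - s0) • x ∈ A := by
        rw [show (s - s0) • x = (w + s • x) - (w + s0 • x) by module]; exact sub_mem hs hs0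
      have h2 := (Submodule.smul_mem_iff _ (sub_ne_zero.2 hne)).1 h1
      exact hwA (by simpa using sub_mem hs0 (A.smul_mem s0 h2))
    · exact ⟨0, fun _ s hs => absurd ⟨s, hs⟩ h⟩
  choose g hg using hb
  obtain ⟨s, -, hs⟩ := Finset.exists_mem_notMem_of_card_lt_card
    (s := P.roots.toFinset ∪ (L.map g).toFinset) (t := (Finset.univ : Finset K)) (by
      refine lt_of_le_of_lt (Finset.card_union_le _ _) ?_
      have h1 : P.roots.toFinset.card ≤ 2 :=
        (Multiset.toFinset_card_le _).trans ((Polynomial.card_roots' P).trans hP.le)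
      have h2 : (L.map g).toFinset.card ≤ 2 :=
        (List.toFinset_card_le _).trans (by rw [List.length_map]; exact hL)
      rw [Finset.card_univ]
      omega)
  simp only [Finset.mem_union, List.mem_toFinset, List.mem_map, Multiset.mem_toFinset,
    Polynomial.mem_roots hP0, Polynomial.IsRoot.def, not_or] at hs
  refine ⟨w + s • x, fun A hA hmem => hs.2 ⟨A, hA, (hg A (hw A hA) s hmem).symm⟩, ?_⟩
  rw [LinearIndependent.pair_iff]
  intro c d hcd
  have e1 := congrArg φ hcd
  have e2 := congrArg ψ hcd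
  simp only [map_add, map_smul, smul_eq_mul, hφ0, hφ1, hψ0, hψ1, map_zero, mul_zero, mul_one, add_zero, zero_add]
    at e1 e2
  have hne : P.eval s ≠ 0 := hs.1
  simp only [P, a, b, Polynomial.eval_add, Polynomial.eval_mul, Polynomial.eval_pow, Polynomial.eval_X,
    Polynomial.eval_C] at hne
  have hc : (s ^ 2 + (φ w + ψ (f w)) * s + (φ w * ψ (f w) - ψ w * φ (f w))) * c = 0 := by
    linear_combination (ψ (f w) + s) * e1 - φ (f w) * e2
  have hd : (s ^ 2 + (φ w + ψ (f w)) * s + (φ w * ψ (f w) - ψ w * φ (f w))) * d = 0 := by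
    linear_combination (φ w + s) * e2 - ψ w * e1
  exact ⟨(mul_eq_zero.1 hc).resolve_left hne, (mul_eq_zero.1 hd).resolve_left hne⟩

/-- A functional with prescribed values on a pair and nonzero on two further vectors. -/
theorem exists_phi_ne [Fintype K] (hK : 4 ≤ Fintype.card K) {v w : V} (hv : v ∉ K ∙ w) (L : List V)
    (hL : L.length ≤ 3) (hout : ∀ z ∈ L, z ∉ K ∙ w) :
    ∃ φ : V →ₗ[K] K, φ v = 1 ∧ φ w = 0 ∧ ∀ z ∈ L, φ z ≠ 0 := by
  classical
  have hK' : 4 ≤ Cardinal.mk K := by rw [Cardinal.mk_fintype]; exact_mod_cast hK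
  let D : Submodule K (V →ₗ[K] K) := (K ∙ w).dualAnnihilator
  let ev : V → Submodule K D := fun z => LinearMap.ker ((LinearMap.applyₗ (R := K) (M₂ := K) z).comp D.subtype)
  obtain ⟨φ, hφ⟩ := exists_avoid (K := K) (V := D) hK' ((v :: L).map ev) (by simp; omega) (by
    intro A hA
    obtain ⟨z, hz, rfl⟩ := List.mem_map.1 hA
    have hz' : z ∉ K ∙ w := by
      rcases List.mem_cons.1 hz with rfl | hz
      · exact hv
      · exact hout z hz
    obtain ⟨ψ, hψ1, hψ2⟩ := Submodule.exists_le_ker_of_notMem hz'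
    intro htop
    have hmem : (⟨ψ, (Submodule.mem_dualAnnihilator ψ).2 fun x hx => LinearMap.mem_ker.1 (hψ2 hx)⟩ : D) ∈ ev z :=
      (Submodule.eq_top_iff'.1 htop) _
    exact hψ1 hmem)
  have hne : ∀ z ∈ v :: L, (φ : V →ₗ[K] K) z ≠ 0 := fun z hz h => hφ _ (List.mem_map.2 ⟨z, hz, rfl⟩) h
  have hv0 := hne v List.mem_cons_self
  refine ⟨((φ : V →ₗ[K] K) v)⁻¹ • (φ : V →ₗ[K] K), by simp [hv0], ?_, fun z hz => by
    simp [hv0, hne z (List.mem_cons_of_mem _ hz)]⟩
  have : (φ : V →ₗ[K] K) w = 0 := (Submodule.mem_dualAnnihilator _).1 φ.2 w (Submodule.mem_span_singleton_self w)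
  simp [this]

end Vectors

/-- A conjugate with prescribed first entry whose Schur complement keeps the small ranks positive, or at least two on
a marked set. -/
theorem exists_peel [Fintype K] (hK : 7 ≤ Fintype.card K) (hn : 1 ≤ n)
    (M : Matrix (Fin (n + 1)) (Fin (n + 1)) K) (hns : ¬ ∃ c : K, M = c • 1) {t : K} (ht : t ≠ 0) (s T : Finset K)
    (hs0 : ∀ ν ∈ s, ν ≠ 0) (hs : n ≤ 2 → s.card ≤ 2) (hT : n = 3 → T.card ≤ 1) :
    ∃ P : GL (Fin (n + 1)) K, let N := (P : Matrix (Fin (n + 1)) (Fin (n + 1)) K) * M * (P⁻¹ : GL (Fin (n + 1)) K)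
      N 0 0 = t ∧ ∀ ν ∈ s, 2 ≤ (M - ν • 1).rank → 2 ≤ n → 1 ≤ (schur N - ν • 1).rank ∧
        (ν ∈ T → 3 ≤ n → 2 ≤ (schur N - ν • 1).rank) := by
  classical
  set f := M.mulVecLin with hf
  set s' := s.filter fun ν => (M - ν • 1).rank ≤ n ∧
    ((M - ν • 1).rank ≤ 2 ∨ (M - ν • 1).rank ≤ 3 ∧ ν ∈ T) with hs'
  have hs'c : s'.card ≤ 2 := by
    rcases le_or_gt n 2 with hn2 | hn2
    · exact (Finset.card_filter_le _ _).trans (hs hn2)
    by_contra hc
    obtain ⟨a, ha, b, hb, c, hc, hab, hac, hbc⟩ := Finset.two_lt_card.1 (by omega : 2 < s'.card)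
    have h := card_low_rank M hab hac hbc
    simp only [s', Finset.mem_filter] at ha hb hc
    obtain ⟨-, -, ha⟩ := ha
    obtain ⟨-, -, hb⟩ := hb
    obtain ⟨-, -, hc⟩ := hc
    rcases (by omega : n = 3 ∨ 4 ≤ n) with h3 | h4
    · have hu : ∀ {x y : K}, x ∈ T → y ∈ T → x = y := fun hx hy => Finset.card_le_one.1 (hT h3) _ hx _ hy
      rcases ha with ha | ⟨ha, ha'⟩ <;> rcases hb with hb | ⟨hb, hb'⟩ <;> rcases hc with hc | ⟨hc, hc'⟩ <;>
        first
          | omega
          | exact hab (hu ‹a ∈ T› ‹b ∈ T›)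
          | exact hac (hu ‹a ∈ T› ‹c ∈ T›)
          | exact hbc (hu ‹b ∈ T› ‹c ∈ T›)
    · rcases ha with ha | ⟨ha, -⟩ <;> rcases hb with hb | ⟨hb, -⟩ <;> rcases hc with hc | ⟨hc, -⟩ <;> omega
  have hprop : ∀ ν ∈ s', LinearMap.range (M - ν • 1).mulVecLin ≠ ⊤ := fun ν hν h => by
    have h' := (Finset.mem_filter.1 hν).2.1
    rw [Matrix.rank, h, finrank_top, Module.finrank_fin_fun] at h'
    omega
  have hnsx : ∃ x, LinearIndependent K ![x, f x] := by
    by_contra hcon
    push Not at hcon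
    refine hns ?_
    have key : ∀ x, ∃ c : K, f x = c • x := fun x => by
      by_contra hx
      push Not at hx
      rcases eq_or_ne x 0 with rfl | hx0
      · exact hx 0 (by simp)
      · exact hcon x ((LinearIndependent.pair_iff' hx0).2 fun c => (hx c).symm)
    obtain ⟨c, hc⟩ := f.exists_eq_smul_id_of_forall_notLinearIndependent (fun x => hcon x)
    refine ⟨c, Matrix.toLin'.injective (LinearMap.ext fun x => ?_)⟩
    rw [map_smul, Matrix.toLin'_one, Matrix.toLin'_apply']
    rw [← hf, hc]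
    rfl
  obtain ⟨e, he, heli⟩ := exists_noneigen hK f hnsx
    (s'.toList.map fun ν => LinearMap.range (M - ν • 1).mulVecLin) (by simp [hs'c]) (by
      intro A hA
      obtain ⟨ν, hν, rfl⟩ := List.mem_map.1 hA
      exact hprop ν (Finset.mem_toList.1 hν))
  set w := f e - t • e
  have hew : e ∉ K ∙ w := by
    intro h
    obtain ⟨c, hc⟩ := Submodule.mem_span_singleton.1 h
    have h2 := LinearIndependent.pair_iff.1 heli (-c * t - 1) c (by
      linear_combination (norm := module) hc)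
    rcases h2 with ⟨h1, rfl⟩
    simp at h1
  have hz : ∀ ν, ν ∈ s' ∧ (M - ν • 1).rank = 2 ∧ 3 ≤ n → ∃ z, (M - ν • 1) *ᵥ z = 0 ∧ z ∉ K ∙ w := by
    rintro ν ⟨-, hr, hn3⟩
    by_contra h
    push Not at h
    have h1 := finrank_ker_add_rank (M - ν • 1)
    have h2 := Submodule.finrank_mono (s := LinearMap.ker (M - ν • 1).mulVecLin) (t := K ∙ w) fun z hz => h z hz
    have h3 := (finrank_span_le_card ({w} : Set (Fin (n + 1) → K)) (R := K))
    simp only [Set.toFinset_singleton, Finset.card_singleton] at h3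
    omega
  let z := fun ν (h : ν ∈ s' ∧ (M - ν • 1).rank = 2 ∧ 3 ≤ n) => (hz ν h).choose
  have hz1 : ∀ ν h, (M - ν • 1) *ᵥ z ν h = 0 := fun ν h => (hz ν h).choose_spec.1
  have hz2 : ∀ ν h, z ν h ∉ K ∙ w := fun ν h => (hz ν h).choose_spec.2
  have hex : ∃ φ : (Fin (n + 1) → K) →ₗ[K] K, φ e = 1 ∧ φ w = 0 ∧
      ∀ ν (h : ν ∈ s' ∧ (M - ν • 1).rank = 2 ∧ 3 ≤ n), φ (z ν h) ≠ 0 := by
    let zl := (s'.filter fun ν => (M - ν • 1).rank = 2 ∧ 3 ≤ n).attach.toList.map
      fun ν => z ν.1 (Finset.mem_filter.1 ν.2)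
    have hlen : zl.length ≤ 3 := by
      simp only [zl, List.length_map, Finset.length_toList, Finset.card_attach]
      have := Finset.card_filter_le s' fun ν => (M - ν • 1).rank = 2 ∧ 3 ≤ n
      omega
    obtain ⟨φ, h1, h2, h3⟩ := exists_phi_ne (by omega) hew zl hlen (by
      intro u hu
      obtain ⟨ν, -, rfl⟩ := List.mem_map.1 hu
      exact hz2 ν.1 (Finset.mem_filter.1 ν.2))
    exact ⟨φ, h1, h2, fun ν h => h3 _ (List.mem_map.2
      ⟨⟨ν, Finset.mem_filter.2 h⟩, Finset.mem_toList.2 (Finset.mem_attach _ _), rfl⟩)⟩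
  obtain ⟨φ, hφe, hφw, hφz⟩ := hex
  have hker : finrank K (LinearMap.ker φ) = n := by
    have h := LinearMap.finrank_range_add_finrank_ker φ
    have hs : LinearMap.range φ = ⊤ := LinearMap.range_eq_top.2 fun c => ⟨c • e, by simp [hφe]⟩
    rw [hs, finrank_top, Module.finrank_self, Module.finrank_fin_fun] at h
    omega
  let b : Basis (Fin (n + 1)) K (Fin (n + 1) → K) :=
    Basis.mkFinCons e (Module.finBasisOfFinrankEq K _ hker) (fun c x hx h => by
      simpa [hφe, LinearMap.mem_ker.1 hx] using congrArg φ h)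
      (fun y => ⟨-φ y, by simp [hφe]⟩)
  have hb0 : b 0 = e := by simp [b]
  have hrepr : ∀ x, b.repr x 0 = φ x := by
    have : (Finsupp.lapply 0).comp b.repr.toLinearMap = φ := by
      refine b.ext fun i => ?_
      refine Fin.cases ?_ ?_ i
      · rw [hb0, hφe]
        conv_lhs => rw [← hb0]
        simp
      · intro i
        have : φ (b i.succ) = 0 := by simp [b]
        simp [this, Fin.succ_ne_zero]
    exact fun x => LinearMap.congr_fun this x
  set S := LinearMap.toMatrix b (Pi.basisFun K (Fin (n + 1))) LinearMap.id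
  set S' := LinearMap.toMatrix (Pi.basisFun K (Fin (n + 1))) b LinearMap.id
  have hSS : S' * S = 1 := by rw [← LinearMap.toMatrix_comp, LinearMap.id_comp, LinearMap.toMatrix_id]
  have hSS' : S * S' = 1 := by rw [← LinearMap.toMatrix_comp, LinearMap.id_comp, LinearMap.toMatrix_id]
  let P : GL (Fin (n + 1)) K := ⟨S', S, hSS, hSS'⟩
  refine ⟨P, ?_⟩
  obtain ⟨N, hNd⟩ : ∃ N, N = (P : Matrix (Fin (n + 1)) (Fin (n + 1)) K) * M * (P⁻¹ : GL (Fin (n + 1)) K) := ⟨_, rfl⟩
  simp only [← hNd]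
  have hN : N = LinearMap.toMatrix b b f := by
    rw [hNd]
    show S' * M * S = _
    have : M = LinearMap.toMatrix (Pi.basisFun K (Fin (n + 1))) (Pi.basisFun K (Fin (n + 1))) f := by
      rw [LinearMap.toMatrix_eq_toMatrix', hf, ← Matrix.toLin'_apply', LinearMap.toMatrix'_toLin']
    conv_lhs => rw [this]
    rw [← LinearMap.toMatrix_comp, ← LinearMap.toMatrix_comp, LinearMap.id_comp, LinearMap.comp_id]
  have hN00 : N 0 0 = t := by
    rw [hN, LinearMap.toMatrix_apply, hrepr, hb0]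
    have := hφw
    simp only [w, map_sub, map_smul, hφe, smul_eq_mul, mul_one, sub_eq_zero] at this
    exact this
  have hsub : ∀ (ν : K) (x : Fin (n + 1) → K), (N - ν • 1) *ᵥ (b.repr x : Fin (n + 1) → K) = b.repr ((M - ν • 1) *ᵥ x) := by
    intro ν x
    rw [Matrix.sub_mulVec, Matrix.smul_mulVec, Matrix.one_mulVec, hN, LinearMap.toMatrix_mulVec_repr,
      Matrix.sub_mulVec, Matrix.smul_mulVec, Matrix.one_mulVec]
    simp [hf]
  refine ⟨hN00, fun ν hν => ?_⟩
  have hreq : (N - ν • 1).rank = (M - ν • 1).rank := by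
    have : N - ν • 1 = S' * (M - ν • 1) * S := by
      rw [hNd, mul_sub, sub_mul, mul_smul_comm, smul_mul_assoc, mul_one, hSS]; rfl
    rw [this, Matrix.rank_mul_eq_left_of_isUnit_det _ _ (Matrix.isUnit_det_of_right_inverse hSS'),
      Matrix.rank_mul_eq_right_of_isUnit_det _ _ (Matrix.isUnit_det_of_right_inverse hSS)]
  intro hr2 hn2
  have h0 : N 0 0 ≠ 0 := hN00 ▸ ht
  have hge := rank_schur_ge h0 ν
  have hle := (M - ν • 1).rank_le_card_height
  rw [Fintype.card_fin] at hle
  by_cases hr : (M - ν • 1).rank ≤ n ∧ ((M - ν • 1).rank ≤ 2 ∨ (M - ν • 1).rank ≤ 3 ∧ ν ∈ T)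
  swap
  · have h4 : ν ∈ T → 3 ≤ n → 4 ≤ (M - ν • 1).rank := fun hνT hn3 => by
      by_contra h
      exact hr ⟨by omega, Or.inr ⟨by omega, hνT⟩⟩
    have h3 : 3 ≤ (M - ν • 1).rank := by
      by_contra h
      exact hr ⟨by omega, Or.inl (by omega)⟩
    exact ⟨by omega, fun h h' => by have := h4 h h'; omega⟩
  have hν' : ν ∈ s' := Finset.mem_filter.2 ⟨hν, hr⟩
  have hout : (Pi.single 0 1 : Fin (n + 1) → K) ∉ LinearMap.range (N - ν • 1).mulVecLin := by
    rintro ⟨y, hy⟩
    refine he _ (List.mem_map.2 ⟨ν, Finset.mem_toList.2 hν', rfl⟩) ⟨b.equivFun.symm y, ?_⟩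
    show (M - ν • 1) *ᵥ _ = e
    apply b.equivFun.injective
    rw [Basis.equivFun_apply, ← hsub, ← Basis.equivFun_apply, LinearEquiv.apply_symm_apply, ← hb0,
      Basis.equivFun_apply, Basis.repr_self, Finsupp.single_eq_pi_single]
    exact hy
  obtain ⟨h3, h4⟩ := rank_schur_of_not_mem h0 (hs0 ν hν) hout
  by_cases hr' : (M - ν • 1).rank = 2 ∧ 3 ≤ n
  · have := h4 ⟨b.repr (z ν ⟨hν', hr'⟩), by
      rw [hrepr]
      exact hφz ν ⟨hν', hr'⟩,
      by rw [hsub, hz1 ν ⟨hν', hr'⟩, map_zero]; rfl⟩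
    exact ⟨by omega, fun _ _ => by omega⟩
  · exact ⟨by omega, fun _ h3n => by
      have : (M - ν • 1).rank ≠ 2 := fun e => hr' ⟨e, h3n⟩
      omega⟩

end Cfsg.Lib.ClassSquare
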