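import Cfsg.Agent.Lib.ClassSquare.Base
import Cfsg.Agent.Lib.ClassSquare.Peel

/-!
# Bordering factorisations by one diagonal entry
-/

set_option autoImplicit false

namespace Cfsg.Lib.ClassSquare

open Matrix Cfsg.Agent.RegUnip

variable {K : Type*} [Field K] {n : ℕ}

/-- A bordered matrix. -/
def bmat (a : K) (r c : Fin n → K) (H : Matrix (Fin n) (Fin n) K) : Matrix (Fin (n + 1)) (Fin (n + 1)) K :=
  Matrix.of fun i j => (Fin.cases (Fin.cases a r) (fun i => Fin.cases (c i) (H i)) i : Fin (n + 1) → K) j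

@[simp] theorem bmat_00 (a : K) (r c : Fin n → K) (H : Matrix (Fin n) (Fin n) K) : bmat a r c H 0 0 = a := rfl

@[simp] theorem bmat_0s (a : K) (r c : Fin n → K) (H : Matrix (Fin n) (Fin n) K) (j : Fin n) :
    bmat a r c H 0 j.succ = r j := by simp [bmat]

@[simp] theorem bmat_s0 (a : K) (r c : Fin n → K) (H : Matrix (Fin n) (Fin n) K) (i : Fin n) :
    bmat a r c H i.succ 0 = c i := by simp [bmat]

@[simp] theorem bmat_ss (a : K) (r c : Fin n → K) (H : Matrix (Fin n) (Fin n) K) (i j : Fin n) :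
    bmat a r c H i.succ j.succ = H i j := by simp [bmat]

theorem bmat_ext {A B : Matrix (Fin (n + 1)) (Fin (n + 1)) K} (h00 : A 0 0 = B 0 0)
    (h0 : ∀ j : Fin n, A 0 j.succ = B 0 j.succ) (hc : ∀ i : Fin n, A i.succ 0 = B i.succ 0)
    (hs : ∀ i j : Fin n, A i.succ j.succ = B i.succ j.succ) : A = B := by
  refine Matrix.ext fun i j => ?_
  refine Fin.cases ?_ (fun i => ?_) i <;> refine Fin.cases ?_ (fun j => ?_) j
  exacts [h00, h0 _, hc _, hs _ _]

theorem bmat_eq (N : Matrix (Fin (n + 1)) (Fin (n + 1)) K) :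
    N = bmat (N 0 0) (fun j => N 0 j.succ) (fun i => N i.succ 0) (Matrix.of fun i j => N i.succ j.succ) :=
  bmat_ext (by simp) (by simp) (by simp) (by simp)

theorem bmat_mul (a a' : K) (r c r' c' : Fin n → K) (H H' : Matrix (Fin n) (Fin n) K) :
    bmat a r c H * bmat a' r' c' H' =
      bmat (a * a' + r ⬝ᵥ c') (a • r' + r ᵥ* H') (a' • c + H *ᵥ c') (vecMulVec c r' + H * H') := by
  refine bmat_ext ?_ (fun j => ?_) (fun i => ?_) fun i j => ?_ <;>
    simp [Matrix.mul_apply, Fin.sum_univ_succ, dotProduct, Matrix.vecMul, Matrix.mulVec, vecMulVec_apply, mul_comm]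

theorem bmat_one : bmat (1 : K) 0 0 (1 : Matrix (Fin n) (Fin n) K) = 1 := by
  refine bmat_ext ?_ (fun j => ?_) (fun i => ?_) fun i j => ?_
  · simp
  · simp [(Fin.succ_ne_zero j).symm]
  · simp
  · simp [Matrix.one_apply]

theorem det_bmat_low (a : K) (c : Fin n → K) (H : Matrix (Fin n) (Fin n) K) : (bmat a 0 c H).det = a * H.det := by
  rw [Matrix.det_succ_row_zero, Finset.sum_eq_single 0]
  · have hsub : (bmat a 0 c H).submatrix Fin.succ Fin.succ = H := by ext i j; simp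
    simp [hsub]
  · intro j _ hj
    obtain ⟨j, rfl⟩ := Fin.exists_succ_eq.2 hj
    simp
  · simp

theorem det_bmat_upp (a : K) (r : Fin n → K) (H : Matrix (Fin n) (Fin n) K) : (bmat a r 0 H).det = a * H.det := by
  have e : (bmat a r 0 H)ᵀ = bmat a 0 r Hᵀ := bmat_ext (by simp) (by simp) (by simp) (by simp)
  rw [← Matrix.det_transpose, e, det_bmat_low, Matrix.det_transpose]

/-- The diagonal bordering. -/
noncomputable def bordHom : Kˣ × GL (Fin n) K →* GL (Fin (n + 1)) K where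
  toFun p :=
    { val := bmat p.1 0 0 p.2
      inv := bmat (p.1⁻¹ : Kˣ) 0 0 (p.2⁻¹ : GL (Fin n) K)
      val_inv := by rw [bmat_mul]; simp [bmat_one]
      inv_val := by rw [bmat_mul]; simp [bmat_one] }
  map_one' := Units.ext (by simp [bmat_one])
  map_mul' p q := Units.ext (by
    show bmat ((p.1 * q.1 : Kˣ) : K) 0 0 ((p.2 * q.2 : GL (Fin n) K) : Matrix (Fin n) (Fin n) K) = bmat (p.1 : K) 0 0 (p.2 : Matrix (Fin n) (Fin n) K) * bmat (q.1 : K) 0 0 (q.2 : Matrix (Fin n) (Fin n) K)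
    rw [bmat_mul]
    simp)

/-- The diagonal bordering of a single element. -/
noncomputable def bord (α : Kˣ) (A : GL (Fin n) K) : GL (Fin (n + 1)) K := bordHom (α, A)

theorem coe_bord (α : Kˣ) (A : GL (Fin n) K) :
    (bord α A : Matrix (Fin (n + 1)) (Fin (n + 1)) K) = bmat (α : K) 0 0 (A : Matrix (Fin n) (Fin n) K) := rfl

/-- The lower bordering element. -/
noncomputable def lowb (x : Fin n → K) : GL (Fin (n + 1)) K where
  val := bmat 1 0 x 1
  inv := bmat 1 0 (-x) 1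
  val_inv := by rw [bmat_mul]; simp [bmat_one]
  inv_val := by rw [bmat_mul]; simp [bmat_one]

/-- The upper bordering element. -/
noncomputable def uppb (y : Fin n → K) : GL (Fin (n + 1)) K where
  val := bmat 1 y 0 1
  inv := bmat 1 (-y) 0 1
  val_inv := by rw [bmat_mul]; simp [bmat_one]
  inv_val := by rw [bmat_mul]; simp [bmat_one]

theorem coe_lowb (x : Fin n → K) : (lowb x : Matrix (Fin (n + 1)) (Fin (n + 1)) K) = bmat 1 0 x 1 := rfl

theorem coe_uppb (y : Fin n → K) : (uppb y : Matrix (Fin (n + 1)) (Fin (n + 1)) K) = bmat 1 y 0 1 := rfl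

theorem isUnit_sub_of_isConj {A c : GL (Fin n) K} (hA : IsConj c A) {α : K}
    (hu : IsUnit ((c : Matrix (Fin n) (Fin n) K) - α • 1).det) :
    IsUnit ((A : Matrix (Fin n) (Fin n) K) - α • 1).det := by
  obtain ⟨g, rfl⟩ := isConj_iff.1 hA
  have e : ((g * c * g⁻¹ : GL (Fin n) K) : Matrix (Fin n) (Fin n) K) - α • 1
      = (g : Matrix (Fin n) (Fin n) K) * ((c : Matrix (Fin n) (Fin n) K) - α • 1) * (g⁻¹ : GL (Fin n) K) := by
    rw [Units.val_mul, Units.val_mul, mul_sub, sub_mul, mul_smul_comm, smul_mul_assoc, mul_one, Units.mul_inv]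
  rw [e, Matrix.det_mul, Matrix.det_mul]
  exact ((Matrix.isUnit_iff_isUnit_det _).1 g.isUnit |>.mul hu).mul
    ((Matrix.isUnit_iff_isUnit_det _).1 (g⁻¹).isUnit)

/-- Changing the first column keeps the class, away from the eigenvalue. -/
theorem low_conj_bord {α : Kˣ} {A : GL (Fin n) K} (hu : IsUnit ((A : Matrix (Fin n) (Fin n) K) - (α : K) • 1).det)
    (x : Fin n → K) : IsConj (bord α A) (lowb x * bord α A) := by
  set D := (A : Matrix (Fin n) (Fin n) K) - (α : K) • 1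
  obtain ⟨z, hd⟩ : ∃ z, D *ᵥ z = (α : K) • x := ⟨D⁻¹ *ᵥ ((α : K) • x), by
    rw [Matrix.mulVec_mulVec, Matrix.mul_nonsing_inv _ hu, Matrix.one_mulVec]⟩
  refine isConj_iff.2 ⟨lowb (-z), ?_⟩
  rw [mul_inv_eq_iff_eq_mul]
  refine Units.ext ?_
  simp only [D, Matrix.sub_mulVec, Matrix.smul_mulVec, Matrix.one_mulVec] at hd
  simp only [Units.val_mul, coe_bord, coe_lowb, bmat_mul]
  refine bmat_ext ?_ (fun j => ?_) (fun i => ?_) fun i j => ?_
  · simp
  · simp
  · have h := congrFun hd i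
    simp only [Pi.sub_apply, Pi.smul_apply, smul_eq_mul] at h
    simp [Matrix.mulVec_neg, Matrix.one_mulVec, D]
    linear_combination h
  · simp

/-- Changing the first row keeps the class, away from the eigenvalue. -/
theorem upp_conj_bord {α : Kˣ} {A : GL (Fin n) K} (hu : IsUnit ((A : Matrix (Fin n) (Fin n) K) - (α : K) • 1).det)
    (y : Fin n → K) : IsConj (bord α A) (uppb y * bord α A) := by
  set D := (A : Matrix (Fin n) (Fin n) K) - (α : K) • 1
  obtain ⟨z, hd⟩ : ∃ z, z ᵥ* D = y ᵥ* (A : Matrix (Fin n) (Fin n) K) :=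
    ⟨(y ᵥ* (A : Matrix (Fin n) (Fin n) K)) ᵥ* D⁻¹, by
    rw [Matrix.vecMul_vecMul, Matrix.nonsing_inv_mul _ hu, Matrix.vecMul_one]⟩
  refine isConj_iff.2 ⟨uppb z, ?_⟩
  rw [mul_inv_eq_iff_eq_mul]
  refine Units.ext ?_
  simp only [D, Matrix.vecMul_sub, Matrix.vecMul_smul, Matrix.vecMul_one] at hd
  simp only [Units.val_mul, coe_bord, coe_uppb, bmat_mul]
  refine bmat_ext ?_ (fun j => ?_) (fun i => ?_) fun i j => ?_
  · simp
  · have h := congrFun hd j
    simp only [Pi.sub_apply, Pi.smul_apply, smul_eq_mul] at h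
    simp [D]
    linear_combination h
  · simp
  · simp

/-- The Schur complement as a unit. -/
noncomputable def schurGL (N : Matrix (Fin (n + 1)) (Fin (n + 1)) K) (h : IsUnit (schur N).det) : GL (Fin n) K :=
  Matrix.nonsingInvUnit (schur N) h

theorem coe_schurGL (N : Matrix (Fin (n + 1)) (Fin (n + 1)) K) (h : IsUnit (schur N).det) :
    (schurGL N h : Matrix (Fin n) (Fin n) K) = schur N := rfl

theorem decomp_schur (N : Matrix (Fin (n + 1)) (Fin (n + 1)) K) (h1 : N 0 0 = 1) :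
    N = bmat 1 0 (fun i => N i.succ 0) 1 * bmat 1 0 0 (schur N) * bmat 1 (fun j => N 0 j.succ) 0 1 := by
  rw [bmat_mul, bmat_mul]
  refine bmat_ext ?_ (fun j => ?_) (fun i => ?_) fun i j => ?_ <;> simp [schur, h1, vecMulVec_apply]

theorem det_schur (N : Matrix (Fin (n + 1)) (Fin (n + 1)) K) (h1 : N 0 0 = 1) : (schur N).det = N.det := by
  conv_rhs => rw [decomp_schur N h1, Matrix.det_mul, Matrix.det_mul, det_bmat_low, det_bmat_low, det_bmat_upp]
  simp

/-- A pair for the Schur complement borders to a pair. -/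
theorem isPair_bord {α : Kˣ} {c : GL (Fin n) K} (hu : IsUnit ((c : Matrix (Fin n) (Fin n) K) - (α : K) • 1).det)
    {N : GL (Fin (n + 1)) K} (h1 : (N : Matrix (Fin (n + 1)) (Fin (n + 1)) K) 0 0 = 1) {S : GL (Fin n) K}
    (hS : (S : Matrix (Fin n) (Fin n) K) = schur (N : Matrix (Fin (n + 1)) (Fin (n + 1)) K)) (hp : IsPair c S) :
    IsPair (bord α c) N := by
  obtain ⟨a, b, ha, hb, rfl⟩ := hp
  obtain ⟨x, hx⟩ : ∃ x, x = fun i : Fin n => (N : Matrix (Fin (n + 1)) (Fin (n + 1)) K) i.succ 0 := ⟨_, rfl⟩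
  obtain ⟨y, hy⟩ : ∃ y, y = fun j : Fin n => (N : Matrix (Fin (n + 1)) (Fin (n + 1)) K) 0 j.succ := ⟨_, rfl⟩
  have hN : N = lowb x * (bord α a * (bord α b)⁻¹) * uppb y := by
    refine Units.ext ?_
    have e : bord α a * (bord α b)⁻¹ = bord 1 (a * b⁻¹) := by
      simp only [bord, ← map_inv, ← map_mul, Prod.inv_mk, Prod.mk_mul_mk, mul_inv_cancel]
    rw [e, Units.val_mul, Units.val_mul, coe_lowb, coe_uppb, coe_bord, hS, hx, hy, Units.val_one]
    exact decomp_schur _ h1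
  have hconj : ∀ {a : GL (Fin n) K}, IsConj c a → IsConj (bord α c) (bord α a) := fun {a} h => by
    obtain ⟨g, rfl⟩ := isConj_iff.1 h
    exact isConj_iff.2 ⟨bord 1 g, by
      simp only [bord, ← map_inv, ← map_mul, Prod.inv_mk, Prod.mk_mul_mk, inv_one, one_mul, mul_one]⟩
  refine ⟨lowb x * bord α a, (uppb y)⁻¹ * bord α b, ?_, ?_, by rw [hN]; group⟩
  · exact (hconj ha).trans (low_conj_bord (isUnit_sub_of_isConj ha hu) x)
  · have e : (uppb y)⁻¹ = uppb (-y) := Units.ext rfl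
    rw [e]
    exact (hconj hb).trans (upp_conj_bord (isUnit_sub_of_isConj hb hu) _)

end Cfsg.Lib.ClassSquare
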