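import Cfsg.Agent.Lib.Chev.Torus
import Cfsg.Agent.Lib.Chev.Perfect
import Cfsg.Agent.Lib.ClassSquare.Base
import Cfsg.Agent.Lib.ClassSquare.ChevCell
import Cfsg.Agent.Lib.Concrete.SteinbergHigher
import Cfsg.Agent.Lib.Recog.SingleBond.Pair
import Cfsg.Agent.Lib.Recog.SingleBond.SLEmb

/-!
# Components of type `A` in a Levi subgroup

The homomorphism from `SL(k)` onto a component, and products of regular unipotent elements in it.
-/

set_option autoImplicit false

namespace Cfsg.Lib.ClassSquare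

open Cfsg.Lie Cfsg.Lib.Chev Cfsg.Agent.RegUnip
open Cfsg.Lib.Recog.SingleBond (tS coe_tS tS_apply tS_inv closure_tS_eq_top conjSL coe_conjSL)
open scoped Matrix MatrixGroups

/-- A component: degree, the roots and signs of the elementary matrices, exponents of a torus element. -/
structure Blk where
  k : ℕ
  rho : List ℕ
  sgn : List ℤ
  dex : List ℤ

/-- The root of an elementary matrix. -/
def Blk.ρ (b : Blk) (i j : ℕ) : ℕ := b.rho.getD (i * b.k + j) 0

/-- The sign of an elementary matrix. -/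
def Blk.σ (b : Blk) (i j : ℕ) : ℤ := b.sgn.getD (i * b.k + j) 1

/-- The value of a list of exponents at a root. -/
def wtOf (T : Tbl) (m : List ℤ) (r : ℕ) : ℤ :=
  ((List.range T.rank).map fun j => m.getD j 0 * T.cartan j r).sum

/-- Membership in a root subsystem, as a test. -/
def inJb (T : Tbl) (J : List ℕ) (r : ℕ) : Bool :=
  (List.range T.rank).all fun k => J.elem k || decide (T.coroot r k = 0)

/-- The roots of a component. -/
def Blk.roots (b : Blk) : List ℕ :=
  (List.range b.k).flatMap fun i => ((List.range b.k).filter fun j => decide (i ≠ j)).map fun j => b.ρ i j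

/-- The fundamental roots of a component. -/
def Blk.simples (b : Blk) : List ℕ := (List.range (b.k - 1)).map fun i => b.ρ i (i + 1)

/-- The check of the position of a component. -/
def chkBlkRoots (T : Tbl) (J : List ℕ) (b : Blk) : Bool :=
  decide (2 ≤ b.k) && (List.range b.k).all fun i => (List.range b.k).all fun j => decide (i = j) ||
    (decide (b.ρ i j < T.nroots) && (inJb T J (b.ρ i j) && ((b.σ i j == 1 || b.σ i j == -1) &&
      ((decide (T.nroots ≤ 2 * b.ρ i j) == decide (i < j)) &&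
        decide (wtOf T b.dex (b.ρ i j) = (if i = 0 then 1 else 0) - (if j = 0 then 1 else 0))))))

/-- The check of the relations of a component. -/
def chkBlkRels (T : Tbl) (b : Blk) : Bool :=
  if b.k = 2 then decide (b.ρ 1 0 = T.neg (b.ρ 0 1) ∧ b.σ 0 1 = 1 ∧ b.σ 1 0 = 1) else
  (List.range b.k).all fun i => (List.range b.k).all fun j => (List.range b.k).all fun a => (List.range b.k).all fun c =>
    decide (i = j) || (decide (a = c) ||
      (if i = c then true else
        if j = a then decide (b.ρ a c ≠ b.ρ i j ∧ b.ρ i j ≠ T.neg (b.ρ a c)) &&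
          (match tTerms T (b.ρ a c) (b.ρ i j) with
          | [(k, κ, 1, 1)] => decide (k = b.ρ i c ∧ -κ * b.σ i j * b.σ a c = b.σ i c)
          | _ => false)
        else decide (b.ρ a c = b.ρ i j) ||
          (decide (b.ρ i j ≠ T.neg (b.ρ a c)) && (tTerms T (b.ρ a c) (b.ρ i j)).isEmpty)))

/-- The check of the relations of a component with the rest of the subsystem. -/
def chkBlkOut (T : Tbl) (J : List ℕ) (b : Blk) : Bool :=
  (List.range T.nroots).all fun r => !inJb T J r || (b.roots.elem r ||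
    (decide (wtOf T b.dex r = 0) && b.roots.all fun s =>
      decide (s ≠ r ∧ s ≠ T.neg r) && (tTerms T r s).isEmpty))

/-- All checks for a component. -/
def chkBlk (T : Tbl) (J : List ℕ) (b : Blk) : Bool :=
  (decide b.simples.Nodup && chkBlkRoots T J b) && (chkBlkRels T b && chkBlkOut T J b)

variable {D : ChevalleyDatum} {T : Tbl} {F : Type*} [Field F] (C : Cert D T)
include C

theorem inJb_iff {J : List ℕ} {r : ℕ} (hr : r < D.nroots) :
    inJb T J r = true ↔ D.InRootSub {j | j ∈ J} r := by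
  rw [inRootSub_iff C, inJb, List.all_eq_true, C.spec.shape.rank_eq]
  constructor
  · intro h
    refine ⟨hr, fun k hk hkJ => ?_⟩
    have := h k (List.mem_range.2 hk)
    simp only [Bool.or_eq_true, List.elem_iff, decide_eq_true_eq] at this
    exact this.resolve_left hkJ
  · intro h k hk
    simp only [Bool.or_eq_true, List.elem_iff, decide_eq_true_eq]
    by_cases hkJ : k ∈ J
    · exact Or.inl hkJ
    · exact Or.inr (h.2 k (List.mem_range.1 hk) hkJ)

/-- The torus element with prescribed exponents. -/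
noncomputable def tpow (d : Fˣ) (m : List ℤ) : GL D.Idx F := torusHom D T F fun j => d ^ m.getD j 0

theorem tpow_mem (d : Fˣ) (m : List ℤ) : tpow (D := D) (T := T) d m ∈ D.diagonalSubgroup F :=
  torusHom_range C (F := F) ▸ ⟨_, rfl⟩

theorem tpow_conj_xg (d : Fˣ) (m : List ℤ) {r : ℕ} (hr : r < D.nroots) (s : F) :
    tpow (D := D) (T := T) d m * xg C r s * (tpow (D := D) (T := T) d m)⁻¹ = xg C r ((d : F) ^ wtOf T m r * s) := by
  rw [mul_inv_eq_iff_eq_mul]
  refine Units.ext ?_
  rw [Units.val_mul, Units.val_mul, tpow, coe_torusHom, coe_xg, coe_xg,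
    scal_mul_x C.spec _ (fun j _ => extend'_ne _ j) hr]
  congr 2
  congr 1
  rw [chr, wtOf, C.spec.shape.rank_eq]
  have key : ∀ n, n ≤ D.rank → (∏ j ∈ Finset.range n, extend' (fun j : Fin D.rank => d ^ m.getD j 0) j ^ T.cartan j r) =
      (d : F) ^ ((List.range n).map fun j => m.getD j 0 * T.cartan j r).sum := by
    intro n hn
    induction n with
    | zero => simp
    | succ n ih =>
      rw [Finset.prod_range_succ, ih (by omega), List.range_succ, List.map_append, List.sum_append]
      simp only [List.map_cons, List.map_nil, List.sum_cons, List.sum_nil, add_zero]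
      rw [zpow_add₀ d.ne_zero]
      congr 1
      simp [extend', show n < D.rank by omega, zpow_mul]
  exact key _ le_rfl

/-- The group of a component. -/
def bR (b : Blk) (F : Type*) [Field F] : Subgroup (GL D.Idx F) :=
  Subgroup.closure {g | ∃ i j : ℕ, i < b.k ∧ j < b.k ∧ i ≠ j ∧ ∃ t : F, g = xg C (b.ρ i j) t}

/-- The upper unitriangular group of a component. -/
def bP (b : Blk) (F : Type*) [Field F] : Subgroup (GL D.Idx F) :=
  Subgroup.closure {g | ∃ i j : ℕ, i < b.k ∧ j < b.k ∧ i < j ∧ ∃ t : F, g = xg C (b.ρ i j) t}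

/-- The lower unitriangular group of a component. -/
def bN (b : Blk) (F : Type*) [Field F] : Subgroup (GL D.Idx F) :=
  Subgroup.closure {g | ∃ i j : ℕ, i < b.k ∧ j < b.k ∧ j < i ∧ ∃ t : F, g = xg C (b.ρ i j) t}

/-- The root elements of the subsystem outside a component. -/
def bO (J : List ℕ) (b : Blk) (F : Type*) [Field F] : Subgroup (GL D.Idx F) :=
  Subgroup.closure {g | ∃ r : ℕ, D.InRootSub {j | j ∈ J} r ∧ r ∉ b.roots ∧ ∃ t : F, g = xg C r t}

theorem blk_root {J : List ℕ} {b : Blk} (h : chkBlk T J b = true) {i j : ℕ} (hi : i < b.k) (hj : j < b.k)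
    (hij : i ≠ j) : b.ρ i j < D.nroots ∧ D.InRootSub {j | j ∈ J} (b.ρ i j) ∧ (b.σ i j = 1 ∨ b.σ i j = -1) ∧
      (D.nroots ≤ 2 * b.ρ i j ↔ i < j) ∧
      wtOf T b.dex (b.ρ i j) = (if i = 0 then 1 else 0) - (if j = 0 then 1 else 0) := by
  simp only [chkBlk, chkBlkRoots, Bool.and_eq_true, List.all_eq_true, Bool.or_eq_true, decide_eq_true_eq,
    beq_iff_eq, decide_eq_decide, C.spec.shape.nroots_eq] at h
  obtain ⟨h1, h2, h3, h4, h5⟩ := (h.1.2.2 i (List.mem_range.2 hi) j (List.mem_range.2 hj)).resolve_left hij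
  exact ⟨h1, (inJb_iff C h1).1 h2, h3, h4, h5⟩

omit C in
theorem blk_two_le {J : List ℕ} {b : Blk} (h : chkBlk T J b = true) : 2 ≤ b.k := by
  simp only [chkBlk, chkBlkRoots, Bool.and_eq_true, decide_eq_true_eq] at h
  exact h.1.2.1

omit C in
theorem simples_nodup {J : List ℕ} {b : Blk} (h : chkBlk T J b = true) : b.simples.Nodup := by
  simp only [chkBlk, Bool.and_eq_true, decide_eq_true_eq] at h
  exact h.1.1

omit C in
/-- The fundamental roots of a component are distinct. -/
theorem simples_inj {J : List ℕ} {b : Blk} (h : chkBlk T J b = true) {i c : ℕ} (hi : i + 1 < b.k) (hc : c + 1 < b.k)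
    (he : b.ρ i (i + 1) = b.ρ c (c + 1)) : i = c :=
  List.inj_on_of_nodup_map (simples_nodup h) (List.mem_range.2 (by omega)) (List.mem_range.2 (by omega)) he

omit C in
theorem mem_roots {b : Blk} {r : ℕ} : r ∈ b.roots ↔ ∃ i j, i < b.k ∧ j < b.k ∧ i ≠ j ∧ r = b.ρ i j := by
  simp only [Blk.roots, List.mem_flatMap, List.mem_map, List.mem_filter, List.mem_range, decide_eq_true_eq]
  exact ⟨fun ⟨i, hi, j, ⟨hj, hij⟩, e⟩ => ⟨i, j, hi, hj, hij, e.symm⟩,
    fun ⟨i, j, hi, hj, hij, e⟩ => ⟨i, hi, j, ⟨hj, hij⟩, e.symm⟩⟩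

variable (K : FullCert D T)
include K

theorem xg_commute {r s : ℕ} (hr : r < D.nroots) (hs : s < D.nroots) (h1 : s ≠ r) (h2 : s ≠ T.neg r)
    (h3 : tTerms T r s = []) (t u : F) : Commute (xg C s u) (xg C r t) := by
  have h := comm_xg_prod C K.comm hr hs h1 h2 t u
  rw [h3, List.map_nil, List.prod_nil, commutatorElement_def, inv_inv, inv_inv] at h
  show xg C s u * xg C r t = xg C r t * xg C s u
  calc xg C s u * xg C r t =
      xg C r t * xg C s u * ((xg C s u)⁻¹ * (xg C r t)⁻¹ * xg C s u * xg C r t) := by group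
    _ = _ := by rw [h, mul_one]

theorem xg_mul_of_term {r s k : ℕ} {κ : ℤ} (hr : r < D.nroots) (hs : s < D.nroots) (h1 : s ≠ r) (h2 : s ≠ T.neg r)
    (h3 : tTerms T r s = [(k, κ, 1, 1)]) (t u : F) :
    xg C s u * xg C r t = xg C r t * xg C s u * xg C k (-(κ : F) * t * u) := by
  have h := comm_xg_prod C K.comm hr hs h1 h2 t u
  rw [h3, List.map_cons, List.map_nil, List.prod_cons, List.prod_nil, mul_one, commutatorElement_def, inv_inv,
    inv_inv] at h
  rw [show -(κ : F) * t * u = (κ : F) * (-t) ^ 1 * u ^ 1 by ring, ← h]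
  group

/-- The homomorphism onto a component. -/
theorem exists_blkHom [Finite F] {J : List ℕ} {b : Blk} (h : chkBlk T J b = true) :
    ∃ Ψ : Matrix.SpecialLinearGroup (Fin b.k) F →* GL D.Idx F,
      ∀ i j : Fin b.k, i ≠ j → ∀ t : F, Ψ (tS i j t) = xg C (b.ρ i j) ((b.σ i j : F) * t) := by
  classical
  have hrel := h
  simp only [chkBlk, chkBlkRels, Bool.and_eq_true] at hrel
  obtain ⟨-, hrel, -⟩ := hrel
  have hk := blk_two_le h
  have hval : ∀ {i j : Fin b.k}, i ≠ j → (i : ℕ) ≠ j := fun h e => h (Fin.ext e)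
  rcases eq_or_lt_of_le hk with hk2 | hk3
  · rw [if_pos hk2.symm, decide_eq_true_eq] at hrel
    obtain ⟨hneg, hσ1, hσ2⟩ := hrel
    obtain ⟨k, rho, sgn, dex⟩ := b
    simp only at hk2
    subst hk2
    have hr := (blk_root C h (i := 0) (j := 1) (by norm_num) (by norm_num) (by norm_num)).1
    refine ⟨(rootRel C (F := F) hr).hom, fun i j hij t => ?_⟩
    have e1 : tS (0 : Fin 2) 1 t = SLTwoRel.upr t := Subtype.ext (by
      rw [coe_tS (by norm_num), SLTwoRel.coe_upr]
      ext a c; fin_cases a <;> fin_cases c <;> simp [Matrix.single_apply])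
    have e2 : tS (1 : Fin 2) 0 t = SLTwoRel.lwr t := Subtype.ext (by
      rw [coe_tS (by norm_num)]
      show _ = !![1, 0; t, 1]
      ext a c; fin_cases a <;> fin_cases c <;> simp [Matrix.single_apply])
    fin_cases i <;> fin_cases j
    · exact absurd rfl hij
    · show (rootRel C (F := F) hr).hom (tS (0 : Fin 2) 1 t) = _
      rw [e1, hom_upr C hr]
      show _ = xg C (Blk.ρ _ 0 1) ((Blk.σ _ 0 1 : F) * t)
      rw [hσ1, Int.cast_one, one_mul]
    · show (rootRel C (F := F) hr).hom (tS (1 : Fin 2) 0 t) = _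
      rw [e2, hom_lwr C hr]
      show _ = xg C (Blk.ρ _ 1 0) ((Blk.σ _ 1 0 : F) * t)
      rw [hσ2, Int.cast_one, one_mul, hneg]
    · exact absurd rfl hij
  rw [if_neg (by omega)] at hrel
  simp only [List.all_eq_true, Bool.or_eq_true, decide_eq_true_eq] at hrel
  have hR : ∀ i j a c : Fin b.k, i ≠ j → a ≠ c → i ≠ c →
      (j = a → b.ρ a c ≠ b.ρ i j ∧ b.ρ i j ≠ T.neg (b.ρ a c) ∧ ∃ κ : ℤ,
        tTerms T (b.ρ a c) (b.ρ i j) = [(b.ρ i c, κ, 1, 1)] ∧ -κ * b.σ i j * b.σ a c = b.σ i c) ∧
      (j ≠ a → ∀ t u : F, Commute (xg C (b.ρ i j) t) (xg C (b.ρ a c) u)) := by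
    intro i j a c hij hac hic
    have h0 := ((hrel i (List.mem_range.2 i.2) j (List.mem_range.2 j.2) a (List.mem_range.2 a.2) c
      (List.mem_range.2 c.2)).resolve_left (hval hij)).resolve_left (hval hac)
    rw [if_neg (hval hic)] at h0
    constructor
    · rintro rfl
      rw [if_pos rfl, Bool.and_eq_true, decide_eq_true_eq] at h0
      obtain ⟨⟨h1, h2⟩, h3⟩ := h0
      split at h3
      · rename_i k κ heq
        rw [decide_eq_true_eq] at h3
        exact ⟨h1, h2, κ, by rw [heq, h3.1], h3.2⟩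
      · exact absurd h3 Bool.false_ne_true
    · intro hja t u
      rw [if_neg (hval hja)] at h0
      simp only [Bool.or_eq_true, decide_eq_true_eq, Bool.and_eq_true, List.isEmpty_iff] at h0
      rcases h0 with e | ⟨h2, h3⟩
      · rw [e]
        show xg C _ t * xg C _ u = xg C _ u * xg C _ t
        rw [xg_add, xg_add, add_comm]
      · by_cases e : b.ρ a c = b.ρ i j
        · rw [e]
          show xg C _ t * xg C _ u = xg C _ u * xg C _ t
          rw [xg_add, xg_add, add_comm]
        · exact xg_commute C K (blk_root C h a.2 c.2 (hval hac)).1 (blk_root C h i.2 j.2 (hval hij)).1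
            (Ne.symm e) h2 h3 u t
  obtain ⟨e, he⟩ := Cfsg.Lib.Concrete.StHigh.presentation F b.k (by omega)
  let f : {ij : Fin b.k × Fin b.k // ij.1 ≠ ij.2} × F → GL D.Idx F :=
    fun p => xg C (b.ρ p.1.1.1 p.1.1.2) ((b.σ p.1.1.1 p.1.1.2 : F) * p.2)
  refine ⟨(PresentedGroup.toGroup (f := f) ?_).comp e.symm.toMonoidHom, fun i j hij t => ?_⟩
  · intro g hg
    rcases hg with (⟨a, t, u, rfl⟩ | ⟨⟨⟨i, j⟩, hij⟩, ⟨⟨a, c⟩, hac⟩, t, u, h1, h2, rfl⟩) |
      ⟨⟨⟨i, j⟩, hij⟩, ⟨⟨a, c⟩, hac⟩, h1, t, u, h2, rfl⟩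
    · simp only [map_mul, map_inv, FreeGroup.lift_apply_of, f]
      rw [xg_add, ← mul_add, mul_inv_cancel]
    · simp only [map_mul, map_inv, FreeGroup.lift_apply_of, f]
      rw [((hR i j a c hij hac h1).2 h2 _ _).eq]
      group
    · simp only at h2
      subst h2
      simp only [map_mul, map_inv, FreeGroup.lift_apply_of, f]
      obtain ⟨d1, d2, κ, d3, d4⟩ := (hR i j j c hij hac h1).1 rfl
      have hX := xg_mul_of_term C K (F := F) (blk_root C h j.2 c.2 (hval hac)).1 (blk_root C h i.2 j.2 (hval hij)).1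
        d1.symm d2 d3 ((b.σ j c : F) * u) ((b.σ i j : F) * t)
      have hcast : (b.σ i c : F) * (t * u) = -(κ : F) * ((b.σ j c : F) * u) * ((b.σ i j : F) * t) := by
        rw [← d4]; push_cast; ring
      rw [hcast]
      set A := xg C (b.ρ i j) ((b.σ i j : F) * t)
      set B := xg C (b.ρ j c) ((b.σ j c : F) * u)
      set X := xg C (b.ρ i c) (-(κ : F) * ((b.σ j c : F) * u) * ((b.σ i j : F) * t))
      have cA : Commute A X := (hR i j i c hij h1 h1).2 (Ne.symm hij) _ _
      have cB : Commute X B := (hR i c j c h1 hac h1).2 (Ne.symm hac) _ _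
      calc A * B * A⁻¹ * B⁻¹ * X⁻¹ = (A * B) * A⁻¹ * B⁻¹ * X⁻¹ := rfl
        _ = (B * (A * X)) * A⁻¹ * B⁻¹ * X⁻¹ := by rw [hX]; group
        _ = (B * X) * B⁻¹ * X⁻¹ := by rw [cA.eq]; group
        _ = 1 := by rw [← cB.eq]; group
  · have e1 : e (PresentedGroup.of (⟨(i, j), hij⟩, t)) = tS i j t := Subtype.ext (by
      rw [he, coe_tS hij]; rfl)
    rw [MonoidHom.comp_apply, ← e1]
    show PresentedGroup.toGroup _ (e.symm (e _)) = _
    rw [e.symm_apply_apply, PresentedGroup.toGroup.of]

/-- Conjugate inside the Levi subgroup by an element centralising `O`. -/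
def ConjIn (D : ChevalleyDatum) {F : Type*} [Field F] (J : List ℕ) (R O : Subgroup (GL D.Idx F))
    (y x : GL D.Idx F) : Prop :=
  y ∈ R ∧ ∃ p ∈ D.leviSubgroup F {j | j ∈ J}, (∀ o ∈ O, Commute p o) ∧ y = p * x * p⁻¹

/-- The products of the fundamental root elements of a component. -/
def IsSimpleProd (b : Blk) (F : Type*) [Field F] (y : GL D.Idx F) : Prop :=
  ∃ L : List (ℕ × F), (L.map Prod.fst).Perm b.simples ∧ (∀ q ∈ L, q.2 ≠ 0) ∧
    y = (L.map fun q => xg C q.1 q.2).prod

omit C K in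
theorem transpose_upperUni_of_lower {k : ℕ} {M : Matrix (Fin k) (Fin k) F} (h1 : ∀ i, M i i = 1)
    (h2 : ∀ i j : Fin k, i < j → M i j = 0) : UpperUni Mᵀ :=
  ⟨fun i => h1 i, fun i j hij => h2 j i hij⟩

/-- The data of a component: a distinguished element and its properties. -/
theorem exists_blkData [Fintype F] (hF : 4 ≤ Fintype.card F) {J : List ℕ} {b : Blk} (h : chkBlk T J b = true) :
    ∃ x ∈ bR C b F, (∃ M : ℕ, x ^ (Fintype.card F ^ M) = 1) ∧ ConjIn D J (bR C b F) (bO C J b F) x⁻¹ x ∧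
      (∀ y, IsSimpleProd C b F y → ConjIn D J (bR C b F) (bO C J b F) y x) ∧
      ∀ v ∈ bN C b F, ∀ u ∈ bP C b F, ∃ y z, ConjIn D J (bR C b F) (bO C J b F) y x ∧
        ConjIn D J (bR C b F) (bO C J b F) z x ∧ v * u = y * z⁻¹ := by
  classical
  obtain ⟨Ψ, hΨ⟩ := exists_blkHom C K (F := F) h
  have hk := blk_two_le h
  have hval : ∀ {i j : Fin b.k}, i ≠ j → (i : ℕ) ≠ j := fun h e => h (Fin.ext e)
  have hσ : ∀ {i j : ℕ}, i < b.k → j < b.k → i ≠ j → (b.σ i j : F) * (b.σ i j : F) = 1 := fun hi hj hij => by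
    rcases (blk_root C h hi hj hij).2.2.1 with e | e <;> rw [e] <;> simp
  have hsurj : ∀ (S : Fin b.k → Fin b.k → Prop), ∀ i j : Fin b.k, i ≠ j → S i j → ∀ t : F,
      xg C (b.ρ i j) t ∈ (Subgroup.closure {g | ∃ i j t, i ≠ j ∧ S i j ∧ g = tS i j t}).map Ψ := by
    intro S i j hij hS t
    refine ⟨tS i j ((b.σ i j : F) * t), Subgroup.subset_closure ⟨i, j, _, hij, hS, rfl⟩, ?_⟩
    rw [hΨ i j hij, ← mul_assoc, hσ i.2 j.2 (hval hij), one_mul]
  have hrange : Ψ.range ≤ bR C b F := by
    rw [MonoidHom.range_eq_map, ← closure_tS_eq_top, MonoidHom.map_closure, Subgroup.closure_le]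
    rintro _ ⟨_, ⟨i, j, t, hij, rfl⟩, rfl⟩
    rw [hΨ i j hij]
    exact Subgroup.subset_closure ⟨i, j, i.2, j.2, hval hij, _, rfl⟩
  have hlevi : bR C b F ≤ D.leviSubgroup F {j | j ∈ J} := by
    refine (Subgroup.closure_le _).2 ?_
    rintro _ ⟨i, j, hi, hj, hij, t, rfl⟩
    exact xg_mem_levi C (blk_root C h hi hj hij).2.1 t
  have hout := h
  simp only [chkBlk, chkBlkOut, Bool.and_eq_true, List.all_eq_true, Bool.or_eq_true, Bool.not_eq_true',
    decide_eq_true_eq, List.isEmpty_iff, List.elem_iff, C.spec.shape.nroots_eq] at hout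
  obtain ⟨-, -, hout⟩ := hout
  have hout' : ∀ r, D.InRootSub {j | j ∈ J} r → r ∉ b.roots → wtOf T b.dex r = 0 ∧
      ∀ s ∈ b.roots, (s ≠ r ∧ s ≠ T.neg r) ∧ tTerms T r s = [] := by
    intro r hr hrb
    rcases hout r (List.mem_range.2 hr.1) with h1 | h1 | h1
    · rw [(inJb_iff C hr.1).2 hr] at h1; exact absurd h1 (by simp)
    · exact absurd h1 hrb
    · exact ⟨h1.1, fun s hs => ⟨(h1.2 s hs).1, (h1.2 s hs).2⟩⟩
  -- conjugation by `GL`
  have hconj : ∀ P : GL (Fin b.k) F, ∃ p ∈ D.leviSubgroup F {j | j ∈ J}, (∀ o ∈ bO C J b F, Commute p o) ∧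
      ∀ A, Ψ (conjSL P A) = p * Ψ A * p⁻¹ := by
    intro P
    let d : Fˣ := Matrix.GeneralLinearGroup.det P
    let δ : Fin b.k → F := fun i => if (i : ℕ) = 0 then (d : F) else 1
    have hδ : ∀ i, δ i ≠ 0 := fun i => by simp only [δ]; split_ifs <;> simp
    let dg : GL (Fin b.k) F := Matrix.nonsingInvUnit (Matrix.diagonal δ) (by
      rw [Matrix.det_diagonal]; exact isUnit_iff_ne_zero.2 (Finset.prod_ne_zero_iff.2 fun i _ => hδ i))
    have hdet : ((P * dg⁻¹ : GL (Fin b.k) F) : Matrix (Fin b.k) (Fin b.k) F).det = 1 := by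
      have h1 : (dg : Matrix (Fin b.k) (Fin b.k) F).det = (d : F) := by
        show (Matrix.diagonal δ).det = _
        rw [Matrix.det_diagonal, Finset.prod_eq_single (⟨0, by omega⟩ : Fin b.k)]
        · simp [δ]
        · intro i _ hi
          simp only [δ]
          rw [if_neg fun e => hi (Fin.ext e)]
        · simp
      have h2 := congrArg Matrix.det (show ((P * dg⁻¹ : GL (Fin b.k) F) : Matrix (Fin b.k) (Fin b.k) F) *
        (dg : Matrix (Fin b.k) (Fin b.k) F) = (P : Matrix (Fin b.k) (Fin b.k) F) by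
          rw [← Units.val_mul, inv_mul_cancel_right])
      rw [Matrix.det_mul, h1] at h2
      exact mul_right_cancel₀ d.ne_zero (h2.trans (one_mul (d : F)).symm)
    let S : Matrix.SpecialLinearGroup (Fin b.k) F := ⟨_, hdet⟩
    set t := tpow (D := D) (T := T) d b.dex with ht
    have hcomp : Ψ.comp (conjSL dg) = (MulAut.conj t).toMonoidHom.comp Ψ := by
      refine MonoidHom.eq_of_eqOn_dense closure_tS_eq_top ?_
      rintro _ ⟨i, j, s, hij, rfl⟩
      have e : conjSL dg (tS i j s) = tS i j (δ i * s * (δ j)⁻¹) := by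
        refine Subtype.ext ?_
        rw [coe_conjSL]
        have e' : (dg : Matrix (Fin b.k) (Fin b.k) F) * (tS i j s).1 =
            (tS i j (δ i * s * (δ j)⁻¹)).1 * (dg : Matrix (Fin b.k) (Fin b.k) F) := by
          show Matrix.diagonal δ * _ = _ * Matrix.diagonal δ
          ext a c
          rw [Matrix.diagonal_mul, Matrix.mul_diagonal, tS_apply hij, tS_apply hij]
          by_cases h1 : a = c
          · subst h1
            rw [if_pos rfl, if_neg (fun e => hij (e.1.trans e.2.symm)), if_neg (fun e => hij (e.1.trans e.2.symm))]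
            ring
          · rw [if_neg h1]
            split_ifs with h2
            · obtain ⟨rfl, rfl⟩ := h2
              rw [zero_add, zero_add, mul_assoc (δ i * s), inv_mul_cancel₀ (hδ j), mul_one]
            · ring
        rw [e', mul_assoc, Units.mul_inv, mul_one]
      simp only [MonoidHom.comp_apply, MulEquiv.coe_toMonoidHom, MulAut.conj_apply, e, hΨ i j hij]
      obtain ⟨h1, -, -, -, h5⟩ := blk_root C h i.2 j.2 (hval hij)
      rw [ht, tpow_conj_xg C d b.dex h1, h5]
      congr 1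
      simp only [δ]
      split_ifs <;> simp [zpow_neg_one, mul_comm, mul_left_comm, mul_assoc]
    refine ⟨Ψ S * t, mul_mem (hlevi (hrange ⟨S, rfl⟩)) (Subgroup.mem_sup_left (tpow_mem C d _)), ?_, fun A => ?_⟩
    · intro o ho
      induction ho using Subgroup.closure_induction with
      | mem o ho =>
        obtain ⟨r, hr, hrb, s, rfl⟩ := ho
        obtain ⟨hw, hterm⟩ := hout' r hr hrb
        refine Commute.mul_left ?_ ?_
        · have : bR C b F ≤ Subgroup.centralizer ({xg C r s} : Set (GL D.Idx F)) := by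
            refine (Subgroup.closure_le _).2 ?_
            rintro _ ⟨i, j, hi, hj, hij, u, rfl⟩
            obtain ⟨⟨h1, h2⟩, h3⟩ := hterm _ (mem_roots.2 ⟨i, j, hi, hj, hij, rfl⟩)
            exact Subgroup.mem_centralizer_singleton_iff.2
              (xg_commute C K hr.1 (blk_root C h hi hj hij).1 h1 h2 h3 s u).eq
          exact Subgroup.mem_centralizer_singleton_iff.1 (this (hrange ⟨S, rfl⟩))
        · have := tpow_conj_xg C d b.dex hr.1 s
          rw [hw, zpow_zero, one_mul, mul_inv_eq_iff_eq_mul] at this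
          exact this
      | one => exact Commute.one_right _
      | mul a c _ _ ha hc => exact ha.mul_right hc
      | inv a _ ha => exact ha.inv_right
    · have e1 := DFunLike.congr_fun hcomp A
      simp only [MonoidHom.comp_apply, MulEquiv.coe_toMonoidHom, MulAut.conj_apply] at e1
      have e2 : conjSL P A = S * conjSL dg A * S⁻¹ := by
        refine eq_mul_inv_iff_mul_eq.2 (Subtype.ext ?_)
        show ((P : Matrix (Fin b.k) (Fin b.k) F) * A.1 * ((P⁻¹ : GL (Fin b.k) F) : Matrix (Fin b.k) (Fin b.k) F)) *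
          ((P * dg⁻¹ : GL (Fin b.k) F) : Matrix (Fin b.k) (Fin b.k) F) =
          ((P * dg⁻¹ : GL (Fin b.k) F) : Matrix (Fin b.k) (Fin b.k) F) *
            ((dg : Matrix (Fin b.k) (Fin b.k) F) * A.1 * ((dg⁻¹ : GL (Fin b.k) F) : Matrix (Fin b.k) (Fin b.k) F))
        simp only [Units.val_mul, Matrix.mul_assoc, Units.inv_mul_cancel_left]
      rw [e2, map_mul, map_mul, map_inv, e1]
      group
  let jS : Matrix.SpecialLinearGroup (Fin b.k) F := ⟨jmat b.k F, det_jmat⟩
  have hmk : ∀ {A : Matrix.SpecialLinearGroup (Fin b.k) F} {P : GL (Fin b.k) F},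
      (A : Matrix (Fin b.k) (Fin b.k) F) = ((P * jGL b.k F * P⁻¹ : GL (Fin b.k) F) : Matrix (Fin b.k) (Fin b.k) F) →
      ConjIn D J (bR C b F) (bO C J b F) (Ψ A) (Ψ jS) := by
    intro A P e
    obtain ⟨p, hp, hpc, hpA⟩ := hconj P
    refine ⟨hrange ⟨A, rfl⟩, p, hp, hpc, ?_⟩
    rw [← hpA]
    congr 1
    exact Subtype.ext (by rw [e, coe_conjSL, Units.val_mul, Units.val_mul]; rfl)
  refine ⟨Ψ jS, hrange ⟨_, rfl⟩, ?_, ?_, ?_, ?_⟩
  · obtain ⟨p, hp⟩ := CharP.exists F
    haveI : Fact p.Prime := ⟨CharP.char_is_prime F p⟩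
    obtain ⟨n, -, hn⟩ := FiniteField.card F p
    obtain ⟨N, hN⟩ := jGL_pow (K := F) (n := b.k) p
    refine ⟨N, ?_⟩
    rw [← map_pow, show jS ^ (Fintype.card F ^ N) = 1 from ?_, map_one]
    refine Subtype.ext ?_
    have e : jGL b.k F ^ (Fintype.card F ^ N) = 1 := by
      obtain ⟨m, hm⟩ : ∃ m, (n : ℕ) = m + 1 := ⟨(n : ℕ) - 1, by have := n.pos; omega⟩
      rw [hn, ← pow_mul, hm, add_mul, one_mul, pow_add, mul_comm, pow_mul, hN, one_pow]
    have := congrArg (fun g : GL (Fin b.k) F => (g : Matrix (Fin b.k) (Fin b.k) F)) e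
    simp only [Units.val_pow_eq_pow_val, coe_jGL, Units.val_one] at this
    rw [Matrix.SpecialLinearGroup.coe_pow, Matrix.SpecialLinearGroup.coe_one]
    exact this
  · obtain ⟨P, hP⟩ := exists_jGL_conj_inv (K := F) (n := b.k)
    rw [← map_inv]
    refine hmk (P := P) ?_
    rw [← hP, Matrix.SpecialLinearGroup.coe_inv, Matrix.coe_units_inv, coe_jGL, Matrix.inv_def, det_jmat,
      Ring.inverse_one, one_smul]
  · rintro y ⟨L, hL, hL0, rfl⟩
    have key : ∀ L : List (ℕ × F), (∀ q ∈ L, q.1 ∈ b.simples) → (∀ q ∈ L, q.2 ≠ 0) →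
        ∃ A : Matrix.SpecialLinearGroup (Fin b.k) F, Ψ A = (L.map fun q => xg C q.1 q.2).prod ∧ UpperUni (A : Matrix (Fin b.k) (Fin b.k) F) ∧
          ∀ i j : Fin b.k, (j : ℕ) = i + 1 →
            (b.ρ i j ∉ L.map Prod.fst → (A : Matrix (Fin b.k) (Fin b.k) F) i j = 0) ∧
            ((L.map Prod.fst).Nodup → b.ρ i j ∈ L.map Prod.fst → (A : Matrix (Fin b.k) (Fin b.k) F) i j ≠ 0) := by
      intro L
      induction L with
      | nil =>
        intro _ _
        refine ⟨1, by simp, ⟨fun i => by simp, fun i j hij => by simp [Matrix.one_apply_ne (ne_of_gt hij)]⟩,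
          fun i j hij => ⟨fun _ => ?_, fun _ hm => by simp at hm⟩⟩
        simp [Matrix.one_apply_ne (show i ≠ j from fun e => by subst e; omega)]
      | cons q L ih =>
        intro hm h0
        obtain ⟨A, hA, hAu, hAs⟩ := ih (fun q hq => hm q (List.mem_cons_of_mem _ hq))
          fun q hq => h0 q (List.mem_cons_of_mem _ hq)
        obtain ⟨a, ha, hq⟩ := List.mem_map.1 (hm q (List.mem_cons_self ..))
        rw [List.mem_range] at ha
        let I : Fin b.k := ⟨a, by omega⟩
        let I' : Fin b.k := ⟨a + 1, by omega⟩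
        have hII : I ≠ I' := fun e => by simpa [I, I'] using congrArg Fin.val e
        let s : F := (b.σ a (a + 1) : F) * q.2
        have hs : Ψ (tS I I' s) = xg C q.1 q.2 := by
          rw [hΨ I I' hII]
          show xg C (b.ρ a (a + 1)) ((b.σ a (a + 1) : F) * s) = _
          rw [hq, show s = (b.σ a (a + 1) : F) * q.2 from rfl, ← mul_assoc, hσ (by omega) (by omega) (by omega), one_mul]
        have hTu : UpperUni (tS I I' s : Matrix (Fin b.k) (Fin b.k) F) := by
          refine ⟨fun i => ?_, fun i j hij => ?_⟩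
          · rw [tS_apply hII, if_pos rfl, if_neg, add_zero]; rintro ⟨rfl, e⟩; exact hII e.symm
          · rw [tS_apply hII, if_neg (ne_of_gt hij), if_neg, add_zero]
            rintro ⟨rfl, rfl⟩
            have : a + 1 < a := hij
            omega
        refine ⟨tS I I' s * A, by rw [map_mul, hs, hA, List.map_cons, List.prod_cons], ?_, fun i j hij => ?_⟩
        · rw [Matrix.SpecialLinearGroup.coe_mul]; exact (upperUni_mul hTu hAu).1
        rw [Matrix.SpecialLinearGroup.coe_mul, (upperUni_mul hTu hAu).2 i j hij, tS_apply hII,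
          if_neg (show i ≠ j from fun e => by subst e; omega), zero_add]
        have hs0 : s ≠ 0 := mul_ne_zero (left_ne_zero_of_mul (by
          rw [hσ (by omega) (by omega) (by omega)]; exact one_ne_zero)) (h0 q (List.mem_cons_self ..))
        have hat : I = i ∧ I' = j → q.1 = b.ρ i j := by rintro ⟨rfl, rfl⟩; exact hq.symm
        constructor
        · intro hn
          rw [List.map_cons, List.mem_cons, not_or] at hn
          rw [if_neg (fun e => hn.1 (hat e).symm), (hAs i j hij).1 hn.2, add_zero]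
        · intro hnd hmem
          rw [List.map_cons, List.nodup_cons] at hnd
          by_cases e : I = i ∧ I' = j
          · rw [if_pos e, (hAs i j hij).1 (hat e ▸ hnd.1), add_zero]; exact hs0
          · rw [if_neg e, zero_add]
            rw [List.map_cons, List.mem_cons] at hmem
            rcases hmem with e' | hmem
            · by_cases hmem' : b.ρ i j ∈ L.map Prod.fst
              · exact (hAs i j hij).2 hnd.2 hmem'
              exfalso
              refine e ?_
              have hk2 : ∀ {c : ℕ}, c + 1 < b.k → b.ρ i j = b.ρ c (c + 1) → (i : ℕ) = c := fun {c} hc he =>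
                simples_inj h (by omega) hc (by rw [← hij]; exact he)
              obtain rfl : (i : ℕ) = a := hk2 (by omega) (by rw [e', hq])
              exact ⟨Fin.ext rfl, Fin.ext hij.symm⟩
            · exact (hAs i j hij).2 hnd.2 hmem
    have hnd : b.simples.Nodup := simples_nodup h
    obtain ⟨A, hA, hAu, hAs⟩ := key L (fun q hq => hL.subset (List.mem_map.2 ⟨q, hq, rfl⟩)) hL0
    obtain ⟨P, hP, hAP⟩ := regUpper_isConjJ (U := (A : Matrix (Fin b.k) (Fin b.k) F)) ⟨hAu, fun i j hij =>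
      (hAs i j hij).2 (hL.nodup_iff.2 hnd) (hL.symm.subset (List.mem_map.2 ⟨i, List.mem_range.2 (by omega), by rw [hij]⟩))⟩
    rw [← hA]
    refine hmk (P := Matrix.nonsingInvUnit P hP) ?_
    rw [Units.val_mul, Units.val_mul, Matrix.coe_units_inv, coe_jGL]
    show (A : Matrix (Fin b.k) (Fin b.k) F) = P * jmat b.k F * P⁻¹
    have hAP' : (A : Matrix (Fin b.k) (Fin b.k) F) * P = P * jmat b.k F := hAP
    rw [← hAP', Matrix.mul_assoc, Matrix.mul_nonsing_inv _ hP, Matrix.mul_one]
  · intro v hv u hu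
    have hN : bN C b F ≤ (Subgroup.closure {g | ∃ (i j : Fin b.k) (t : F), i ≠ j ∧ j < i ∧ g = tS i j t}).map Ψ := by
      refine (Subgroup.closure_le _).2 ?_
      rintro _ ⟨i, j, hi, hj, hji, t, rfl⟩
      exact hsurj (fun i j => j < i) ⟨i, hi⟩ ⟨j, hj⟩ (fun e => by simp at e; omega) hji t
    have hP : bP C b F ≤ (Subgroup.closure {g | ∃ (i j : Fin b.k) (t : F), i ≠ j ∧ i < j ∧ g = tS i j t}).map Ψ := by
      refine (Subgroup.closure_le _).2 ?_
      rintro _ ⟨i, j, hi, hj, hij, t, rfl⟩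
      exact hsurj (fun i j => i < j) ⟨i, hi⟩ ⟨j, hj⟩ (fun e => by simp at e; omega) hij t
    obtain ⟨L, hL, rfl⟩ := hN hv
    obtain ⟨U, hU, rfl⟩ := hP hu
    clear hu hv
    have hUu : UpperUni (U : Matrix (Fin b.k) (Fin b.k) F) := by
      induction hU using Subgroup.closure_induction with
      | mem g hg =>
        obtain ⟨i, j, t, hij, hlt, rfl⟩ := hg
        refine ⟨fun a => ?_, fun a c hac => ?_⟩
        · rw [tS_apply hij, if_pos rfl, if_neg, add_zero]; rintro ⟨rfl, e⟩; exact hij e.symm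
        · rw [tS_apply hij, if_neg (ne_of_gt hac), if_neg, add_zero]
          rintro ⟨rfl, rfl⟩; exact lt_asymm hac hlt
      | one => exact ⟨fun i => by simp, fun i j hij => by simp [Matrix.one_apply_ne (ne_of_gt hij)]⟩
      | mul a c _ _ ha hc => rw [Matrix.SpecialLinearGroup.coe_mul]; exact (upperUni_mul ha hc).1
      | inv a _ ha =>
        have := upperUni_inv ha
        rwa [Matrix.inv_def, a.2, Ring.inverse_one, one_smul, ← Matrix.SpecialLinearGroup.coe_inv] at this
    have hLl : UpperUni (L : Matrix (Fin b.k) (Fin b.k) F)ᵀ := by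
      induction hL using Subgroup.closure_induction with
      | mem g hg =>
        obtain ⟨i, j, t, hij, hlt, rfl⟩ := hg
        refine ⟨fun a => ?_, fun a c hac => ?_⟩
        · rw [Matrix.transpose_apply, tS_apply hij, if_pos rfl, if_neg, add_zero]; rintro ⟨rfl, e⟩; exact hij e.symm
        · rw [Matrix.transpose_apply, tS_apply hij, if_neg (ne_of_lt hac), if_neg, add_zero]
          rintro ⟨rfl, rfl⟩; exact lt_asymm hac hlt
      | one => exact ⟨fun i => by simp, fun i j hij => by simp [Matrix.one_apply_ne (ne_of_lt hij)]⟩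
      | mul a c _ _ ha hc =>
        rw [Matrix.SpecialLinearGroup.coe_mul, Matrix.transpose_mul]; exact (upperUni_mul hc ha).1
      | inv a _ ha =>
        have := upperUni_inv ha
        rwa [← Matrix.transpose_nonsing_inv, Matrix.inv_def, a.2, Ring.inverse_one, one_smul,
          ← Matrix.SpecialLinearGroup.coe_inv] at this
    let g : GL (Fin b.k) F := Matrix.nonsingInvUnit ((L * U : Matrix.SpecialLinearGroup (Fin b.k) F) : Matrix (Fin b.k) (Fin b.k) F)
      (by rw [(L * U).2]; exact isUnit_one)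
    have hg : (¬ ∃ c : F, (g : Matrix (Fin b.k) (Fin b.k) F) = c • (1 : Matrix (Fin b.k) (Fin b.k) F)) ∨ g = 1 := by
      by_cases hs : ∃ c : F, (g : Matrix (Fin b.k) (Fin b.k) F) = c • (1 : Matrix (Fin b.k) (Fin b.k) F)
      swap
      · exact Or.inl hs
      right
      obtain ⟨c, hc⟩ := hs
      have hc' : (L : Matrix (Fin b.k) (Fin b.k) F) * U = c • 1 := hc
      have e : (L : Matrix (Fin b.k) (Fin b.k) F) = c • (U⁻¹ : Matrix.SpecialLinearGroup (Fin b.k) F).1 := by
        have := congrArg (fun M => M * (U⁻¹ : Matrix.SpecialLinearGroup (Fin b.k) F).1) hc'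
        rw [Matrix.mul_assoc, ← Matrix.SpecialLinearGroup.coe_mul U U⁻¹, mul_inv_cancel,
          Matrix.SpecialLinearGroup.coe_one, Matrix.mul_one, Matrix.smul_mul, Matrix.one_mul] at this
        exact this
      have hUi : UpperUni (U⁻¹ : Matrix.SpecialLinearGroup (Fin b.k) F).1 := by
        have := upperUni_inv hUu
        rwa [Matrix.inv_def, U.2, Ring.inverse_one, one_smul, ← Matrix.SpecialLinearGroup.coe_inv] at this
      have hc1 : c = 1 := by
        have := congrFun (congrFun e ⟨0, by omega⟩) ⟨0, by omega⟩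
        rw [Matrix.smul_apply, hUi.1, smul_eq_mul, mul_one] at this
        rw [← this]; exact hLl.1 _
      subst hc1
      refine Units.ext ?_
      rw [Units.val_one]
      exact hc'.trans (one_smul _ _)
    obtain ⟨P, Q, e⟩ := sl_pair hF g hg (by exact (L * U).2)
    have hd : ∀ P : GL (Fin b.k) F, ((P * jGL b.k F * P⁻¹ : GL (Fin b.k) F) : Matrix (Fin b.k) (Fin b.k) F).det = 1 := by
      intro P
      rw [Units.val_mul, Units.val_mul, Matrix.det_units_conj, coe_jGL, det_jmat]
    obtain ⟨aP, haP⟩ : ∃ a : Matrix.SpecialLinearGroup (Fin b.k) F, (a : Matrix (Fin b.k) (Fin b.k) F) =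
        ((P * jGL b.k F * P⁻¹ : GL (Fin b.k) F) : Matrix (Fin b.k) (Fin b.k) F) := ⟨⟨_, hd P⟩, rfl⟩
    obtain ⟨aQ, haQ⟩ : ∃ a : Matrix.SpecialLinearGroup (Fin b.k) F, (a : Matrix (Fin b.k) (Fin b.k) F) =
        ((Q * jGL b.k F * Q⁻¹ : GL (Fin b.k) F) : Matrix (Fin b.k) (Fin b.k) F) := ⟨⟨_, hd Q⟩, rfl⟩
    refine ⟨Ψ aP, Ψ aQ, hmk haP, hmk haQ, ?_⟩
    rw [← map_mul, ← map_inv, ← map_mul]
    congr 1
    refine eq_mul_inv_iff_mul_eq.2 (Subtype.ext ?_)
    rw [eq_mul_inv_iff_mul_eq] at e
    show (L : Matrix (Fin b.k) (Fin b.k) F) * U * aQ = aP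
    rw [haP, haQ]
    exact congrArg (fun m : GL (Fin b.k) F => (m : Matrix (Fin b.k) (Fin b.k) F)) e

end Cfsg.Lib.ClassSquare
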