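import Cfsg.Agent.Lib.ClassSquare.G2Levi

/-!
# Covering G2 by the square of a semisimple class: odd order, and order at least seven
-/

set_option autoImplicit false

namespace Cfsg.Lib.ClassSquare.GTwo

open Cfsg.Lie Cfsg.Lib.Chev Cfsg.Lib.ClassSquare
open scoped Matrix MatrixGroups

variable {F : Type*} [Field F] [Fintype F]

theorem cart_simple_vals : tblG2.cartan 0 (tblG2.simp' 1) = -3 ∧ tblG2.cartan 1 (tblG2.simp' 0) = -1 := by
  decide +kernel

/-- Odd order: every element has a form of determinant one. -/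
theorem exists_form_det_one (h2 : (2 : F) ≠ 0) {g : GL chevG2.Idx F} (hg : g ∈ chevG2.group F) :
    ∃ M : GL (Fin 2) F, HasForm g M ∧ (M : Matrix (Fin 2) (Fin 2) F).det = 1 := by
  obtain ⟨t, ht, hcell⟩ := exists_inCell certG2 fullCertG2 hg
  rw [← torusHom_range certG2] at ht
  obtain ⟨c, rfl⟩ := ht
  set I0 : Fin chevG2.rank := ⟨0, by decide⟩
  set I1 : Fin chevG2.rank := ⟨1, by decide⟩
  have h01 : I1 ≠ I0 := by decide
  obtain ⟨c', hc', hcell'⟩ : ∃ c' : Fin chevG2.rank → Fˣ, c' I1 = 1 ∧ InCell g (torusHom chevG2 tblG2 F c') := by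
    by_cases h1 : sval chevG2 tblG2 c I1 ≠ 1
    · exact ⟨c * Pi.mulSingle I1 (c I1)⁻¹, by simp, move_sval certG2 fullCertG2 h1 hcell _⟩
    push Not at h1
    by_cases h0 : sval chevG2 tblG2 c I0 ≠ 1
    · have hm := move_sval certG2 fullCertG2 h0 hcell (-1)
      have hs : sval chevG2 tblG2 (c * Pi.mulSingle I0 (-1 : Fˣ)) I1 ≠ 1 := by
        rw [sval_single, h1, one_mul, show ((I0 : Fin chevG2.rank) : ℕ) = 0 from rfl,
          show ((I1 : Fin chevG2.rank) : ℕ) = 1 from rfl, cart_simple_vals.1]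
        intro h
        have := congrArg Units.val h
        rw [Units.val_zpow_eq_zpow_val, Units.val_neg, Units.val_one] at this
        norm_num at this
        exact h2 (by linear_combination -this)
      exact ⟨c * Pi.mulSingle I0 (-1) * Pi.mulSingle I1 (c I1)⁻¹, by simp [Pi.mulSingle_eq_of_ne h01],
        move_sval certG2 fullCertG2 hs hm _⟩
    push Not at h0
    refine ⟨1, rfl, ?_⟩
    rw [torusHom_eq_one certG2 fullCertG2 (c := c) fun j => ?_] at hcell
    · rwa [map_one]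
    have hj := j.2
    simp only [show chevG2.rank = 2 from rfl] at hj
    rcases (show j.val = 0 ∨ j.val = 1 by omega) with h | h
    · rw [show j = I0 from Fin.ext h]; exact h0
    · rw [show j = I1 from Fin.ext h]; exact h1
  obtain ⟨α, β, hM⟩ := exists_hasForm hcell'
  exact ⟨_, hM, by rw [cellM_det, hc', Units.val_one]⟩

/-- Odd order. -/
theorem covers_odd (p : ℕ) [Fact p.Prime] [CharP F p] (h2 : (2 : F) ≠ 0) :
    ∃ x : ↥(chevG2.group F), ¬ p ∣ orderOf x ∧
      ∀ g : ↥(chevG2.group F), g ≠ 1 → ∃ u v : ↥(chevG2.group F), g = (u * x * u⁻¹) * (v * x * v⁻¹) := by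
  classical
  obtain ⟨τ, hτ' | hτ'⟩ := exists_noRoot (-1 : F)
  swap
  · exact absurd hτ' (neg_ne_zero.2 one_ne_zero)
  have hτ : τ ≠ 0 := fun e => hτ' 1 (by rw [e]; ring)
  have hδ : (-1 : F) ≠ 1 := fun e => h2 (by linear_combination -e)
  let A : GL (Fin 2) F := Matrix.GeneralLinearGroup.mkOfDetNeZero (comp2 τ (-1))
    (by rw [(trDet_comp2 _ _).2]; exact hτ'.det_ne)
  have hA : TrDet τ (-1) (A : Matrix (Fin 2) (Fin 2) F) := trDet_comp2 _ _
  refine in_group (psi_mem A) (fun g hg _ => ?_) p (psi_semisimple hτ' hτ hδ hA p)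
  obtain ⟨M, hM, hdet⟩ := exists_form_det_one h2 hg
  refine cover hτ' hτ hδ hA hM ?_
  rw [div_neg, div_one, div_neg, div_one]
  exact pair_odd h2 hτ hdet

theorem chk_split :
    (∀ r < 12, wtOf tblG2 [3, 5] r ≠ 0 ∧ (wtOf tblG2 [3, 5] r).natAbs ≤ 5) := by decide +kernel

/-- Order at least seven: a regular split element. -/
theorem covers_split (p : ℕ) [Fact p.Prime] [CharP F p] (hF : 7 ≤ Fintype.card F) :
    ∃ x : ↥(chevG2.group F), ¬ p ∣ orderOf x ∧
      ∀ g : ↥(chevG2.group F), g ≠ 1 → ∃ u v : ↥(chevG2.group F), g = (u * x * u⁻¹) * (v * x * v⁻¹) := by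
  classical
  obtain ⟨ω, hω⟩ := IsCyclic.exists_generator (α := Fˣ)
  have hωo : orderOf ω = Fintype.card F - 1 := by
    rw [orderOf_eq_card_of_forall_mem_zpowers hω, Nat.card_eq_fintype_card, Fintype.card_units]
  set h : GL chevG2.Idx F := tpow (D := chevG2) (T := tblG2) ω [3, 5] with hh
  have hhd : h ∈ chevG2.diagonalSubgroup F := tpow_mem certG2 ω _
  have hh' : h⁻¹ ∈ chevG2.diagonalSubgroup F := inv_mem hhd
  have hfix : ∀ r < chevG2.nroots, ∀ t : F, Commute h (xg certG2 r t) → xg certG2 r t = 1 := by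
    intro r hr t hc
    by_cases ht : t = 0
    · rw [ht]; exact xg_zero certG2 r
    exfalso
    have h1 := tpow_conj_xg certG2 ω [3, 5] hr t
    rw [← hh, hc.eq, mul_inv_cancel_right] at h1
    have h2 := xg_injective certG2 hr h1
    have h4 : (ω : F) ^ wtOf tblG2 [3, 5] r = 1 := mul_right_cancel₀ ht (h2.symm.trans (one_mul t).symm)
    have h5 : ω ^ wtOf tblG2 [3, 5] r = 1 := Units.ext (by rw [Units.val_zpow_eq_zpow_val, h4, Units.val_one])
    rw [← orderOf_dvd_iff_zpow_eq_one, hωo, Int.natCast_dvd] at h5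
    obtain ⟨h6, h7⟩ := chk_split r hr
    have := Nat.le_of_dvd (Int.natAbs_pos.2 h6) h5
    omega
  have hbot : Subgroup.closure {g : GL chevG2.Idx F | ∃ r : ℕ, r < chevG2.nroots ∧ ∃ t : F, g = xg certG2 r t ∧
      Commute h g} = ⊥ := by
    rw [eq_bot_iff, Subgroup.closure_le]
    rintro _ ⟨r, hr, t, rfl, hc⟩
    exact hfix r hr t hc
  have hw := wnu_conj_diag_inv (F := F) certG2 isWord_w0 chk_w0.2.1 hhd
  have hinv : ConjG h h⁻¹ := ⟨wnu certG2 F w0, wnu_mem_group certG2 isWord_w0, hw⟩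
  refine in_group (c := h) (diag_le_group certG2 hhd) (fun g hg hne => ?_) p ?_
  · obtain ⟨x, hx, v, hv, u, hu, e⟩ := exists_vu certG2 fullCertG2 hF chkOrder_G2
      (conn_of_chk certG2 chkConn_G2) hg hne
    obtain ⟨⟨z₁, hz₁, e₁⟩, ⟨z₂, hz₂, e₂⟩⟩ := absorb_in (H := chevG2.group F) (V := chevG2.negUnipotent F)
      (U := chevG2.posUnipotent F) (neg_le_group certG2) (pos_le_group certG2) (diag_le_group certG2 hhd)
      (diag_le_group certG2 hh') (fun n hn => diag_conj_neg certG2 hhd hn)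
      (fun n hn hc => by
        have := mem_fixed_neg certG2 fullCertG2 hhd hn hc
        rwa [hbot, Subgroup.mem_bot] at this)
      (fun n hn => conj_mem_of_normalizer (diag_le_normalizer certG2 hh') hn)
      (fun n hn hc => by
        have := mem_fixed_pos certG2 fullCertG2 hhd hn (by simpa using hc.inv_left)
        rwa [hbot, Subgroup.mem_bot] at this) hv hu
    exact ⟨x⁻¹ * (v * h) * x, x⁻¹ * (h⁻¹ * u) * x,
      ConjG.trans ⟨z₁, hz₁, e₁⟩ ⟨x⁻¹, inv_mem hx, by group⟩,
      hinv.trans (ConjG.trans ⟨z₂, hz₂, e₂⟩ ⟨x⁻¹, inv_mem hx, by group⟩), by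
      calc g = x⁻¹ * (x * g * x⁻¹) * x := by group
        _ = _ := by rw [e]; group⟩
  · have hq : h ^ (Fintype.card F - 1) = 1 := by
      rw [hh, tpow, ← map_pow]
      refine (congrArg _ (funext fun j => ?_)).trans (map_one _)
      rw [Pi.pow_apply, ← Fintype.card_units]
      exact pow_card_eq_one
    intro hdvd
    have hd := dvd_trans hdvd (orderOf_dvd_of_pow_eq_one hq)
    obtain ⟨n, -, hn⟩ := FiniteField.card F p
    have h1 : p ∣ Fintype.card F := hn ▸ dvd_pow_self p n.pos.ne'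
    have := Nat.dvd_sub h1 hd
    rw [show Fintype.card F - (Fintype.card F - 1) = 1 by omega, Nat.dvd_one] at this
    exact (Fact.out : p.Prime).ne_one this

end Cfsg.Lib.ClassSquare.GTwo
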