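import Cfsg.Agent.Lib.ClassSquare.G2Gen
import Cfsg.Agent.Lib.ClassSquare.G2Cases

/-!
# G2 over the field of order four as the square of a semisimple class
-/

set_option autoImplicit false

namespace Cfsg.Lib.ClassSquare.GTwo

open Cfsg.Lie Cfsg.Lib.Chev Cfsg.Lib.ClassSquare
open scoped Matrix MatrixGroups

variable {F : Type*} [Field F] [CharP F 2]

/-- A middle part which can be split. -/
def Good (M : GL (Fin 2) F) : Prop :=
  ¬ NonScal (M : Matrix (Fin 2) (Fin 2) F) ∨ (M : Matrix (Fin 2) (Fin 2) F).trace ≠ 0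

theorem good_cellM_zero (x y : Fˣ) : Good (cellM (0 : F) 0 x y) := by
  by_cases h : (x : F) = y / x
  · exact Or.inl fun hn => hn ⟨by simp [cellM_val], by simp [cellM_val], by simpa [cellM_val] using h⟩
  · refine Or.inr ?_
    rw [cellM_trace]
    intro e
    refine h ?_
    have h2 : (2 : F) = 0 := CharTwo.two_eq_zero
    linear_combination e - (y : F) / x * h2

theorem mem_levi_four (t : F) : (xx 4 t : GL chevG2.Idx F) ∈ chevG2.leviSubgroup F {0} :=
  xg_mem_levi certG2 ((inSub_iff rlt).2 (Or.inl rfl)) t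

theorem mem_levi_seven (t : F) : (xx 7 t : GL chevG2.Idx F) ∈ chevG2.leviSubgroup F {0} :=
  xg_mem_levi certG2 ((inSub_iff rlt).2 (Or.inr rfl)) t

theorem mem_levi_torus (x y : Fˣ) : torus x y ∈ chevG2.leviSubgroup F {0} := Subgroup.mem_sup_left (torus_mem x y)

/-- A form from the two sides. -/
theorem hasForm_sides {g x : GL chevG2.Idx F} (hx : x ∈ chevG2.group F) {α β : F} {a b : Fˣ}
    {N R : GL chevG2.Idx F} (hN : N ∈ negRad certG2 F {0}) (hR : R ∈ chevG2.unipotentRadical F {0})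
    (e : x * g * x⁻¹ = xx 4 α * N * torus a b * (xx 7 β * R)) : HasForm g (cellM α β a b) := by
  refine hasForm_of_cell hx (v := xx 4 α * N * (xx 4 α)⁻¹)
    (conj_mem_of_normalizer (levi_le_normalizer_negRad certG2 fullCertG2 _ (mem_levi_four α)) hN) hR ?_
  rw [e]; group

theorem six_five : tblG2.neg 6 = 5 := simp_vals.2.2.2

theorem chk_four : ConjIn 6 [0, 1, 2, 3] [0, 1, 2, 3, 4] ∧ ConjIn 6 [0, 1, 2] [0, 1, 2, 3, 5] ∧
    tblG2.cartan 0 4 = -2 ∧ tblG2.cartan 1 4 = 1 ∧ tblG2.neg 5 = 6 ∧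
    tblG2.refl' 1 4 = 3 ∧ (∀ r ∈ [0, 1, 2], tblG2.refl' 1 r ∈ [0, 1, 2, 3, 5]) ∧
    (∀ r ∈ [9, 10, 11], tblG2.refl' 1 r ∈ [6, 8, 9, 10, 11]) := by unfold ConjIn; decide +kernel

section Moves

variable {g x : GL chevG2.Idx F} {s : Fˣ} {v u : GL chevG2.Idx F} (hx : x ∈ chevG2.group F)
  (hv : v ∈ negRad certG2 F {0}) (hu : u ∈ chevG2.unipotentRadical F {0})
  (e : x * g * x⁻¹ = xx 4 1 * v * torus s (s * s) * u)
include hx hv hu e

theorem move_low {a k z : F} (hd : Dn a k v) (ha : a ≠ 0) (hz : z ≠ 0) (hz1 : z ≠ 1) :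
    ∃ M, HasForm g M ∧ Good M := by
  obtain ⟨w, hw, rfl⟩ := hd
  set r : F := (z - 1) / a with hr
  have hd' : 1 + r * a = z := by rw [hr]; field_simp; ring
  have hD : xx 6 r * xx 5 a = xx 5 (a / z) * torus 1 (Units.mk0 z hz) * xx 6 (r / z) := by
    have h := xg_mul_yg certG2 (F := F) (r := 6) rlt (b := r) (a := a) (by rw [hd']; exact hz)
    rw [hd', six_five] at h
    rw [h, show hg certG2 6 z = hg certG2 6 ((Units.mk0 z hz : Fˣ) : F) from rfl, hg_six]
  set Y : GL chevG2.Idx F := xx 6 r with hY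
  set T := torus s (s * s) with hT
  set T' := torus (1 : Fˣ) (Units.mk0 z hz) with hT'
  set W : GL chevG2.Idx F := Y * (w * xx 3 k) * Y⁻¹
  have hc : Y * xx 4 1 = xx 4 1 * Y :=
    xx_comm (by omega) (by omega) (by omega) (by decide +kernel) chk_terms.2.2.2.2.2.2.1 r 1
  have hW : W ∈ gen F [0, 1, 2, 3, 4] := conj_gen chk_four.1 r
    (mul_mem (gen_le (fun i hi t => xx_mem_gen (by simp at hi ⊢; tauto) t) hw) (xx_mem_gen (by simp) k))
  have hneg : xx 4 1 * W * xx 5 (a / z) ∈ chevG2.negUnipotent F :=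
    mul_mem (mul_mem (xg_mem_neg certG2 rlt (show 2 * 4 < 12 by omega) _)
      (gen_le_neg (fun i hi => by simp at hi; omega) hW)) (xg_mem_neg certG2 rlt (show 2 * 5 < 12 by omega) _)
  obtain ⟨α, v', hv', ev⟩ := neg_split certG2 fullCertG2 (i := 0) (by decide) hneg
  rw [simp_vals.1, simp_vals.2.2.1] at ev
  have hR : T⁻¹ * xx 6 (r / z) * T * u * Y⁻¹ ∈ chevG2.unipotentRadical F {0} := by
    have h6 : ∀ t : F, (xx 6 t : GL chevG2.Idx F) ∈ chevG2.unipotentRadical F {0} := fun t => by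
      rw [rad_eq]; exact xx_mem_gen (by simp) t
    refine mul_mem (mul_mem ?_ hu) (inv_mem (h6 r))
    have := conj_mem_of_normalizer (levi_le_normalizer certG2 fullCertG2 _ (inv_mem (mem_levi_torus s (s * s))))
      (h6 (r / z))
    rwa [inv_inv] at this
  refine ⟨_, hasForm_of_cell (v := v') (α := α) (a := s) (b := Units.mk0 z hz * (s * s)) (β := 0)
    (mul_mem (xg_mem_group certG2 6 r) hx) hv' hR ?_, Or.inr ?_⟩
  · have h7 : (xx 7 (0 : F) : GL chevG2.Idx F) = 1 := xg_zero certG2 7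
    have hTT : T' * T = torus s (Units.mk0 z hz * (s * s)) := by rw [hT, hT', torus_mul, one_mul]
    rw [h7, mul_one, ← hTT]
    show Y * x * g * (Y * x)⁻¹ = v' * xg certG2 4 α * (T' * T) * _
    rw [← ev]
    calc Y * x * g * (Y * x)⁻¹ = Y * (x * g * x⁻¹) * Y⁻¹ := by group
      _ = (Y * xx 4 1) * (w * xx 3 k * xx 5 a) * T * u * Y⁻¹ := by rw [e]; group
      _ = xx 4 1 * W * (Y * xx 5 a) * T * u * Y⁻¹ := by rw [hc]; simp only [W]; group
      _ = _ := by rw [hD]; group
  · rw [cellM_trace]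
    simp only [Units.val_mul, Units.val_mk0, mul_zero, zero_add]
    have hs := s.ne_zero
    rw [show z * ((s : F) * s) / s = z * s by field_simp, show (s : F) + z * s = s * (1 + z) by ring]
    refine mul_ne_zero hs fun h => hz1 ?_
    have h2 : (2 : F) = 0 := CharTwo.two_eq_zero
    linear_combination h - h2

theorem move_high {b k z : F} (hd : Up b k u) (hb : b ≠ 0) (hbk : k ≠ b) (hz : z ≠ 0) (hz1 : z ≠ 1) :
    ∃ M, HasForm g M ∧ Good M := by
  obtain ⟨w, hw, rfl⟩ := hd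
  set r : F := (1 - z) / b with hr
  have hd' : 1 + b * -r = z := by rw [hr]; field_simp; ring
  have hD : xx 6 b * (xx 5 r)⁻¹ = xx 5 (-r / z) * torus 1 (Units.mk0 z hz) * xx 6 (b / z) := by
    have h := xg_mul_yg certG2 (F := F) (r := 6) rlt (b := b) (a := -r) (by rw [hd']; exact hz)
    rw [hd', six_five] at h
    rw [show (xx 5 r : GL chevG2.Idx F)⁻¹ = xx 5 (-r) from xg_inv certG2 5 r, h,
      show hg certG2 6 z = hg certG2 6 ((Units.mk0 z hz : Fˣ) : F) from rfl, hg_six]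
  set Y : GL chevG2.Idx F := xx 5 r with hY
  set T := torus s (s * s) with hT
  set T' := torus (1 : Fˣ) (Units.mk0 z hz) with hT'
  have h5 : ∀ t : F, (xx 5 t : GL chevG2.Idx F) ∈ negRad certG2 F {0} := fun t => by
    rw [negRad_eq]; exact xx_mem_gen (by simp) t
  have hN : (xx 4 1)⁻¹ * Y * xx 4 1 * v * (T * xx 5 (-r / z) * T⁻¹) ∈ negRad certG2 F {0} := by
    refine mul_mem (mul_mem ?_ hv) (conj_mem_of_normalizer
      (levi_le_normalizer_negRad certG2 fullCertG2 _ (mem_levi_torus s (s * s))) (h5 _))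
    have := conj_mem_of_normalizer (levi_le_normalizer_negRad certG2 fullCertG2 _ (inv_mem (mem_levi_four (1 : F))))
      (h5 r)
    rwa [inv_inv] at this
  have hc8 := conj_xx (F := F) (r := 5) (s := 8) (by omega) (by omega) (by omega) (by decide +kernel) r k
  rw [chk_terms.2.2.2.2.2.2.2.2.1] at hc8
  simp only [List.map_cons, List.map_nil, List.prod_cons, List.prod_nil, mul_one, Int.cast_one, one_mul,
    pow_one] at hc8
  have hR : (xx 7 (r * k))⁻¹ * (xx 6 (b / z) * (Y * xx 8 k * Y⁻¹)) * (Y * w * Y⁻¹) ∈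
      chevG2.unipotentRadical F {0} := by
    refine mul_mem ?_ (rad_eq (F := F) ▸ conj_gen chk_up.2.2.1 r hw)
    rw [hY, hc8]
    have hm : ∀ i ∈ [6, 8, 9, 10, 11], ∀ t : F, (xx i t : GL chevG2.Idx F) ∈ chevG2.unipotentRadical F {0} :=
      fun i hi t => by rw [rad_eq]; exact xx_mem_gen hi t
    have h1 : (xx 7 (r * k))⁻¹ * (xx 6 (b / z) * xx 8 k) * (xx 7 (r * k)) ∈ chevG2.unipotentRadical F {0} := by
      have := conj_mem_of_normalizer (levi_le_normalizer certG2 fullCertG2 _ (inv_mem (mem_levi_seven (r * k))))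
        (mul_mem (hm 6 (by simp) (b / z)) (hm 8 (by simp) k))
      rwa [inv_inv] at this
    simpa only [mul_assoc] using mul_mem h1 (mul_mem (hm 9 (by simp) _) (mul_mem (hm 11 (by simp) _) (hm 10 (by simp) _)))
  refine ⟨_, hasForm_sides (α := 1) (a := s) (b := Units.mk0 z hz * (s * s)) (β := r * k)
    (mul_mem (xg_mem_group certG2 5 r) hx) hN hR ?_, Or.inr ?_⟩
  · have hTT : T * T' = torus s (Units.mk0 z hz * (s * s)) := by rw [hT, hT', torus_mul, mul_one, mul_comm]
    rw [← hTT]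
    show Y * x * g * (Y * x)⁻¹ = _
    calc Y * x * g * (Y * x)⁻¹ = Y * (x * g * x⁻¹) * Y⁻¹ := by group
      _ = Y * xx 4 1 * v * T * (xx 6 b * Y⁻¹) * (Y * xx 8 k * Y⁻¹) * (Y * w * Y⁻¹) := by rw [e]; group
      _ = _ := by rw [hD]; group
  · rw [cellM_trace]
    simp only [Units.val_mul, Units.val_mk0]
    have hs := s.ne_zero
    have h2 : (2 : F) = 0 := CharTwo.two_eq_zero
    have hr0 : r ≠ 0 := div_ne_zero (sub_ne_zero.2 hz1.symm) hb
    have : (s : F) + (1 * s * (r * k) + z * (s * s) / s) = s * (r * (b + k)) := by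
      field_simp
      linear_combination hd' + z * h2
    rw [this]
    refine mul_ne_zero hs (mul_ne_zero hr0 fun h => hbk ?_)
    linear_combination h - b * h2

theorem move_mid {k : F} (hd : Up 0 k u) (hk : k ≠ 0) : ∃ M, HasForm g M ∧ Good M := by
  obtain ⟨w, hw, rfl⟩ := hd
  set Y : GL chevG2.Idx F := xx 5 1 with hY
  set T := torus s (s * s) with hT
  have h5 : ∀ t : F, (xx 5 t : GL chevG2.Idx F) ∈ negRad certG2 F {0} := fun t => by
    rw [negRad_eq]; exact xx_mem_gen (by simp) t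
  have hN : (xx 4 1)⁻¹ * Y * xx 4 1 * v * (T * Y⁻¹ * T⁻¹) ∈ negRad certG2 F {0} := by
    refine mul_mem (mul_mem ?_ hv) (conj_mem_of_normalizer
      (levi_le_normalizer_negRad certG2 fullCertG2 _ (mem_levi_torus s (s * s))) (inv_mem (h5 _)))
    have := conj_mem_of_normalizer (levi_le_normalizer_negRad certG2 fullCertG2 _ (inv_mem (mem_levi_four (1 : F))))
      (h5 1)
    rwa [inv_inv] at this
  have hc8 := conj_xx (F := F) (r := 5) (s := 8) (by omega) (by omega) (by omega) (by decide +kernel) 1 k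
  rw [chk_terms.2.2.2.2.2.2.2.2.1] at hc8
  simp only [List.map_cons, List.map_nil, List.prod_cons, List.prod_nil, mul_one, Int.cast_one, one_mul,
    pow_one] at hc8
  have hR : (xx 7 k)⁻¹ * (Y * xx 8 k * Y⁻¹) * (Y * w * Y⁻¹) ∈ chevG2.unipotentRadical F {0} := by
    refine mul_mem ?_ (rad_eq (F := F) ▸ conj_gen chk_up.2.2.1 1 hw)
    rw [hY, hc8]
    have hm : ∀ i ∈ [6, 8, 9, 10, 11], ∀ t : F, (xx i t : GL chevG2.Idx F) ∈ chevG2.unipotentRadical F {0} :=
      fun i hi t => by rw [rad_eq]; exact xx_mem_gen hi t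
    have h1 : (xx 7 k)⁻¹ * xx 8 k * (xx 7 k) ∈ chevG2.unipotentRadical F {0} := by
      have := conj_mem_of_normalizer (levi_le_normalizer certG2 fullCertG2 _ (inv_mem (mem_levi_seven k)))
        (hm 8 (by simp) k)
      rwa [inv_inv] at this
    simpa only [mul_assoc] using mul_mem h1 (mul_mem (hm 9 (by simp) _) (mul_mem (hm 11 (by simp) _) (hm 10 (by simp) _)))
  refine ⟨_, hasForm_sides (α := 1) (a := s) (b := s * s) (β := k)
    (mul_mem (xg_mem_group certG2 5 1) hx) hN hR ?_, Or.inr ?_⟩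
  · show Y * x * g * (Y * x)⁻¹ = _
    calc Y * x * g * (Y * x)⁻¹ = Y * (x * g * x⁻¹) * Y⁻¹ := by group
      _ = _ := by rw [e, show (xx 6 (0 : F) : GL chevG2.Idx F) = 1 from xg_zero certG2 6, ← hT]; group
  · rw [cellM_trace]
    simp only [Units.val_mul]
    have hs := s.ne_zero
    have h2 : (2 : F) = 0 := CharTwo.two_eq_zero
    have : (s : F) + (1 * s * k + (s : F) * s / s) = s * k := by
      field_simp
      linear_combination h2
    rw [this]
    exact mul_ne_zero hs hk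

theorem move_diag {k : F} (hd : Dn 0 k v) (hu' : u ∈ gen F [9, 10, 11]) : ∃ M, HasForm g M ∧ Good M := by
  obtain ⟨w, hw, rfl⟩ := hd
  set T := torus s (s * s) with hT
  have h50 : (xx 5 (0 : F) : GL chevG2.Idx F) = 1 := xg_zero certG2 5
  rw [h50, mul_one] at e hv
  by_cases hk : k = 0
  · rw [hk, show (xx 3 (0 : F) : GL chevG2.Idx F) = 1 from xg_zero certG2 3, mul_one] at e hv
    set n := nu certG2 (F := F) 1 with hn
    have hmap : ∀ (l l' : List ℕ), (∀ r ∈ l, r < 12 ∧ tblG2.refl' 1 r ∈ l') → ∀ y ∈ gen F l,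
        n * y * n⁻¹ ∈ gen F l' := fun l l' h y hy => by
      have : gen F l ≤ (gen F l').comap (MulAut.conj n).toMonoidHom := gen_le fun r hr t => by
        show n * xg certG2 r t * n⁻¹ ∈ gen F l'
        rw [hn, nu_conj_xg certG2 (show 1 < chevG2.rank by decide) (show r < chevG2.nroots from (h r hr).1)]
        exact xx_mem_gen (h r hr).2 _
      exact this hy
    have hTd : n * T * n⁻¹ ∈ chevG2.diagonalSubgroup F :=
      (conj_mem_diag certG2 (nu_mem certG2 1 (by decide)) (torus_mem _ _)).1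
    rw [← torusHom_range certG2] at hTd
    obtain ⟨c, hc⟩ := hTd
    set a : Fˣ := c ⟨0, by decide⟩
    set b : Fˣ := c ⟨1, by decide⟩
    have hab : torus a b = n * T * n⁻¹ := by
      rw [← hc, torus]; congr 1; funext i
      have h2 := i.2
      simp only [show chevG2.rank = 2 from rfl] at h2
      unfold cvec
      split_ifs with h
      · exact congrArg c (Fin.ext h.symm)
      · exact congrArg c (Fin.ext (show 1 = i.val by omega))
    have hN : n * (xx 4 1 * w) * n⁻¹ ∈ negRad certG2 F {0} := by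
      rw [negRad_eq]
      refine hmap [0, 1, 2, 4] _ (fun r hr => ?_) _
        (mul_mem (xx_mem_gen (by simp) 1) (gen_le (fun i hi t => xx_mem_gen (by simp at hi ⊢; tauto) t) hw))
      simp only [List.mem_cons, List.not_mem_nil, or_false] at hr
      rcases hr with rfl | rfl | rfl | rfl
      · exact ⟨by omega, chk_four.2.2.2.2.2.2.1 0 (by simp)⟩
      · exact ⟨by omega, chk_four.2.2.2.2.2.2.1 1 (by simp)⟩
      · exact ⟨by omega, chk_four.2.2.2.2.2.2.1 2 (by simp)⟩
      · exact ⟨by omega, by rw [chk_four.2.2.2.2.2.1]; simp⟩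
    have hR : n * u * n⁻¹ ∈ chevG2.unipotentRadical F {0} := by
      rw [rad_eq]
      exact hmap [9, 10, 11] _ (fun r hr => ⟨by simp at hr; omega, chk_four.2.2.2.2.2.2.2 r hr⟩) _ hu'
    refine ⟨_, hasForm_sides (α := 0) (a := a) (b := b) (β := 0)
      (mul_mem (wnu_mem_group certG2 (w := [1]) (fun i hi => by
        rw [List.mem_singleton] at hi; subst hi; decide)) hx) hN hR ?_, good_cellM_zero a b⟩
    rw [show wnu certG2 F [1] = n by simp [wnu, hn], hab,
      show (xx 4 (0 : F) : GL chevG2.Idx F) = 1 from xg_zero certG2 4,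
      show (xx 7 (0 : F) : GL chevG2.Idx F) = 1 from xg_zero certG2 7,
      show n * x * g * (n * x)⁻¹ = n * (x * g * x⁻¹) * n⁻¹ by group, e]
    group
  · set j : F := 1 / k with hj
    set Y : GL chevG2.Idx F := xx 6 j with hY
    have hc : Y * xx 4 1 = xx 4 1 * Y :=
      xx_comm (by omega) (by omega) (by omega) (by decide +kernel) chk_terms.2.2.2.2.2.2.1 j 1
    have hc3 := conj_xx (F := F) (r := 6) (s := 3) (by omega) (by omega) (by omega) (by decide +kernel) j k
    rw [chk_terms.2.2.2.2.2.2.2.2.2] at hc3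
    simp only [List.map_cons, List.map_nil, List.prod_cons, List.prod_nil, mul_one, pow_one] at hc3
    have h4 : ((-1 : ℤ) : F) * j * k = -1 := by rw [hj]; push_cast; field_simp
    rw [h4] at hc3
    have h6 : ∀ t : F, (xx 6 t : GL chevG2.Idx F) ∈ chevG2.unipotentRadical F {0} := fun t => by
      rw [rad_eq]; exact xx_mem_gen (by simp) t
    have hR : T⁻¹ * Y * T * u * Y⁻¹ ∈ chevG2.unipotentRadical F {0} := by
      refine mul_mem (mul_mem ?_ hu) (inv_mem (h6 j))
      have := conj_mem_of_normalizer (levi_le_normalizer certG2 fullCertG2 _ (inv_mem (mem_levi_torus s (s * s))))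
        (h6 j)
      rwa [inv_inv] at this
    have hN : xx 4 1 * (Y * w * Y⁻¹) * (Y * xx 3 k * Y⁻¹) ∈ negRad certG2 F {0} := by
      have hm : ∀ i ∈ [0, 1, 2, 3, 5], ∀ t : F, (xx i t : GL chevG2.Idx F) ∈ negRad certG2 F {0} :=
        fun i hi t => by rw [negRad_eq]; exact xx_mem_gen hi t
      have h1 : Y * w * Y⁻¹ * xx 3 k ∈ negRad certG2 F {0} :=
        mul_mem (negRad_eq (F := F) ▸ conj_gen chk_four.2.1 j hw) (hm 3 (by simp) k)
      have h2 : xx 4 1 * (Y * w * Y⁻¹ * xx 3 k) * (xx 4 1)⁻¹ ∈ negRad certG2 F {0} :=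
        conj_mem_of_normalizer (levi_le_normalizer_negRad certG2 fullCertG2 _ (mem_levi_four 1)) h1
      rw [hY, hc3]
      rw [show (xx 4 (-1) : GL chevG2.Idx F) = (xx 4 1)⁻¹ from (xg_inv certG2 4 1).symm]
      have h0 := mul_mem h2 (mul_mem (hm 2 (by simp) (((-1 : ℤ) : F) * j * k ^ 2))
        (mul_mem (hm 0 (by simp) (((-1 : ℤ) : F) * j * k ^ 3)) (hm 1 (by simp) (((2 : ℤ) : F) * j ^ 2 * k ^ 3))))
      simpa only [mul_assoc] using h0
    refine ⟨_, hasForm_sides (α := 0) (a := s) (b := s * s) (β := 0)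
      (mul_mem (xg_mem_group certG2 6 j) hx) hN hR ?_, good_cellM_zero _ _⟩
    show Y * x * g * (Y * x)⁻¹ = _
    rw [show (xx 4 (0 : F) : GL chevG2.Idx F) = 1 from xg_zero certG2 4,
      show (xx 7 (0 : F) : GL chevG2.Idx F) = 1 from xg_zero certG2 7, ← hT,
      show Y * x * g * (Y * x)⁻¹ = Y * (x * g * x⁻¹) * Y⁻¹ by group, e,
      show Y * (xx 4 1 * (w * xx 3 k) * T * u) * Y⁻¹ = Y * xx 4 1 * (w * xx 3 k) * T * u * Y⁻¹ by group, hc]
    group

end Moves

variable [Fintype F]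

theorem units_four (hF : Fintype.card F = 4) {d : F} (h0 : d ≠ 0) (h1 : d ≠ 1) :
    d * d + d + 1 = 0 ∧ ∀ z : F, z ≠ 0 → z = 1 ∨ z = d ∨ z = d * d := by
  have hc : ∀ z : F, z ≠ 0 → (z - 1) * (z * z + z + 1) = 0 := fun z hz => by
    have := FiniteField.pow_card_sub_one_eq_one z hz
    rw [hF] at this
    linear_combination this
  have hd := (mul_eq_zero.1 (hc d h0)).resolve_left (sub_ne_zero.2 h1)
  refine ⟨hd, fun z hz => ?_⟩
  rcases mul_eq_zero.1 (hc z hz) with h | h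
  · exact Or.inl (sub_eq_zero.1 h)
  · have : (z - d) * (z - d * d) = 0 := by linear_combination h + (d - 1 - z) * hd
    rcases mul_eq_zero.1 this with h' | h'
    · exact Or.inr (Or.inl (sub_eq_zero.1 h'))
    · exact Or.inr (Or.inr (sub_eq_zero.1 h'))

/-- Every element has a form which can be split. -/
theorem exists_good (hF : Fintype.card F = 4) {d : F} (h0 : d ≠ 0) (h1 : d ≠ 1) {g : GL chevG2.Idx F}
    (hg : g ∈ chevG2.group F) : ∃ M, HasForm g M ∧ Good M := by
  obtain ⟨t, ht, hcell⟩ := exists_inCell certG2 fullCertG2 hg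
  rw [← torusHom_range certG2] at ht
  obtain ⟨c, rfl⟩ := ht
  obtain ⟨α, β, hM⟩ := exists_hasForm hcell
  set M := cellM α β (c ⟨0, by decide⟩) (c ⟨1, by decide⟩)
  by_cases hgood : Good M
  · exact ⟨M, hM, hgood⟩
  simp only [Good, not_or, not_not, ne_eq] at hgood
  obtain ⟨hns, htr⟩ := hgood
  obtain ⟨s, hs⟩ := FiniteField.isSquare_of_char_two (ringChar.eq F 2) (M : Matrix (Fin 2) (Fin 2) F).det
  have hs0 : s ≠ 0 := fun e => Matrix.GeneralLinearGroup.det_ne_zero M (by rw [hs, e, mul_zero])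
  set S : Fˣ := Units.mk0 s hs0
  have h2 : (2 : F) = 0 := CharTwo.two_eq_zero
  obtain ⟨P, hP⟩ := exists_conj_gl (A := M) (B := cellM 1 0 S (S * S)) hns
    (by rintro ⟨-, h, -⟩; rw [cellM_val] at h; simp [S, hs0] at h)
    (by
      rw [htr, cellM_trace]
      simp only [S, Units.val_mul, Units.val_mk0, mul_zero, zero_add]
      field_simp
      linear_combination -s * h2)
    (by rw [hs, cellM_det]; simp [S])
  have hM' := hM.conj P
  rw [hP] at hM'
  obtain ⟨x, hx, v₀, hv₀, u, hu, e⟩ := hM'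
  rw [psi_cell, show (xx 7 (0 : F) : GL chevG2.Idx F) = 1 from xg_zero certG2 7, mul_one] at e
  set v := (xx 4 (1 : F))⁻¹ * v₀ * xx 4 1 with hvdef
  have hv : v ∈ negRad certG2 F {0} := by
    have := conj_mem_of_normalizer (levi_le_normalizer_negRad certG2 fullCertG2 _ (inv_mem (mem_levi_four (1 : F)))) hv₀
    rwa [inv_inv] at this
  have e' : x * g * x⁻¹ = xx 4 1 * v * torus S (S * S) * u := by rw [e, hvdef]; group
  obtain ⟨b, k, f, h, hup⟩ := exists_upConj (rad_eq (F := F) ▸ hu)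
  obtain ⟨hq, hall⟩ := units_four hF h0 h1
  by_cases hbk : b = 0 ∧ k = 0
  · obtain ⟨rfl, rfl⟩ := hbk
    obtain ⟨w, hw, hu0⟩ := hup.zero
    have hu9 : u ∈ gen F [9, 10, 11] := by rw [hu0]; simpa [xx, xg_zero] using hw
    obtain ⟨a, k', hd⟩ := exists_dn (negRad_eq (F := F) ▸ hv)
    by_cases ha : a = 0
    · subst ha; exact move_diag hx hv hu e' hd hu9
    · exact move_low hx hv hu e' hd ha h0 h1
  obtain ⟨σ, hσ⟩ : ∃ σ : F, b + σ * k + σ ^ 2 * f + σ ^ 3 * h ≠ k + σ ^ 2 * h := by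
    by_contra hall'
    push Not at hall'
    refine hbk ?_
    have e0 : b = k := by simpa using hall' 0
    have e1 := hall' 1
    have e2 := hall' d
    have e3 := hall' (d * d)
    have hk : k = 0 := by
      have h3 : d ^ 3 = 1 := by linear_combination (d - 1) * hq
      have h4 : (b - k) * (1 + d ^ 2 + d ^ 4) + k * (1 + d ^ 3 + d ^ 6) + (f - h) * (1 + d ^ 4 + d ^ 8) +
          h * (1 + d ^ 5 + d ^ 10) = 0 := by linear_combination e1 + d ^ 2 * e2 + d ^ 4 * e3
      have q1 : d ^ 4 = d := by linear_combination d * h3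
      have q2 : d ^ 5 = d ^ 2 := by linear_combination d ^ 2 * h3
      have q3 : d ^ 6 = 1 := by linear_combination (d ^ 3 + 1) * h3
      have q4 : d ^ 8 = d ^ 2 := by linear_combination (d ^ 5 + d ^ 2) * h3
      have q5 : d ^ 10 = d := by linear_combination (d ^ 7 + d ^ 4 + d) * h3
      rw [h3, q1, q2, q3, q4, q5] at h4
      linear_combination h4 - (f - h) * hq - h * hq - (b - k) * hq - k * h2
    exact ⟨e0.trans hk, hk⟩
  set Y : GL chevG2.Idx F := xx 4 σ with hY
  have hY1 : Y * xx 4 1 = xx 4 1 * Y := by simp only [hY, xx]; rw [xg_add, xg_add, add_comm]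
  have hYT : Y * torus S (S * S) = torus S (S * S) * Y := by
    have := torus_conj S (S * S) (r := 4) rlt σ
    rw [chk_four.2.2.1, chk_four.2.2.2.1] at this
    have e1 : (S : F) ^ (-2 : ℤ) * ((S * S : Fˣ) : F) ^ (1 : ℤ) * σ = σ := by
      simp [S, zpow_neg, zpow_ofNat]; field_simp
    rw [e1, mul_inv_eq_iff_eq_mul] at this
    exact this.symm
  have hvY : Y * v * Y⁻¹ ∈ negRad certG2 F {0} :=
    conj_mem_of_normalizer (levi_le_normalizer_negRad certG2 fullCertG2 _ (mem_levi_four σ)) hv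
  have huY : Y * u * Y⁻¹ ∈ chevG2.unipotentRadical F {0} :=
    conj_mem_of_normalizer (levi_le_normalizer certG2 fullCertG2 _ (mem_levi_four σ)) hu
  have eY : Y * x * g * (Y * x)⁻¹ = xx 4 1 * (Y * v * Y⁻¹) * torus S (S * S) * (Y * u * Y⁻¹) := by
    calc Y * x * g * (Y * x)⁻¹ = Y * (x * g * x⁻¹) * Y⁻¹ := by group
      _ = (Y * xx 4 1) * v * Y⁻¹ * (Y * torus S (S * S)) * u * Y⁻¹ := by rw [e']; group
      _ = _ := by rw [hY1, hYT]; group
  have hYx : Y * x ∈ chevG2.group F := mul_mem (xg_mem_group certG2 4 σ) hx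
  by_cases hb : b + σ * k + σ ^ 2 * f + σ ^ 3 * h = 0
  · have hup' := hup σ
    rw [hb] at hup' hσ
    exact move_mid hYx hvY huY eY hup' hσ.symm
  · exact move_high hYx hvY huY eY (hup σ) hb hσ.symm h0 h1

/-- The field of order four. -/
theorem covers_four [CharP F 2] (p : ℕ) [Fact p.Prime] [CharP F p] (hF : Fintype.card F = 4) :
    ∃ x : ↥(chevG2.group F), ¬ p ∣ orderOf x ∧
      ∀ g : ↥(chevG2.group F), g ≠ 1 → ∃ u v : ↥(chevG2.group F), g = (u * x * u⁻¹) * (v * x * v⁻¹) := by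
  classical
  obtain rfl : p = 2 := CharP.eq F ‹CharP F p› ‹CharP F 2›
  obtain ⟨d, h0, h1⟩ : ∃ d : F, d ≠ 0 ∧ d ≠ 1 := by
    obtain ⟨d, -, hd⟩ := Finset.exists_mem_notMem_of_card_lt_card (s := ({0, 1} : Finset F)) (t := Finset.univ)
      (lt_of_le_of_lt Finset.card_le_two (by rw [Finset.card_univ, hF]; norm_num))
    simp only [Finset.mem_insert, Finset.mem_singleton, not_or] at hd
    exact ⟨d, hd.1, hd.2⟩
  have h2 : (2 : F) = 0 := CharTwo.two_eq_zero
  obtain ⟨hq, hall⟩ := units_four hF h0 h1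
  obtain ⟨τ, hτ' | hτ'⟩ := exists_noRoot d
  swap
  · exact absurd hτ' h0
  have hτ : τ ≠ 0 := fun e => by
    obtain ⟨z, hz⟩ := FiniteField.isSquare_of_char_two (ringChar.eq F 2) d
    exact hτ' z (by rw [e]; linear_combination -hz + d * h2)
  let A : GL (Fin 2) F := Matrix.GeneralLinearGroup.mkOfDetNeZero (comp2 τ d)
    (by rw [(trDet_comp2 _ _).2]; exact h0)
  have hA : TrDet τ d (A : Matrix (Fin 2) (Fin 2) F) := trDet_comp2 _ _
  refine in_group (psi_mem A) (fun g hg _ => ?_) 2 (psi_semisimple hτ' hτ h1 hA 2)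
  obtain ⟨M, hM, hgood⟩ := exists_good hF h0 h1 hg
  refine cover hτ' hτ h1 hA hM ?_
  have h3 : d * d * d = 1 := by linear_combination (d - 1) * hq
  have hd0' : 1 / d ≠ 0 := one_div_ne_zero h0
  have hinv : 1 / d = d * d := by field_simp; linear_combination -h3
  by_cases hns : NonScal (M : Matrix (Fin 2) (Fin 2) F)
  · have htr := hgood.resolve_left (fun h => h hns)
    rcases hall _ (Matrix.GeneralLinearGroup.det_ne_zero M) with h | h | h
    · exact pair_two (τ₁ := τ) (d₁ := d) (τ₂ := τ / d) (d₂ := 1 / d) h0 hns htr (by rw [h]; field_simp)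
        (Or.inl ⟨rfl, rfl⟩) (Or.inr ⟨rfl, rfl⟩)
    · exact pair_two (τ₁ := τ / d) (d₁ := 1 / d) (τ₂ := τ / d) (d₂ := 1 / d) hd0' hns htr
        (by rw [h, hinv]; linear_combination d * h3) (Or.inr ⟨rfl, rfl⟩) (Or.inr ⟨rfl, rfl⟩)
    · exact pair_two (τ₁ := τ) (d₁ := d) (τ₂ := τ) (d₂ := d) h0 hns htr (by rw [h])
        (Or.inl ⟨rfl, rfl⟩) (Or.inl ⟨rfl, rfl⟩)
  · obtain ⟨s, hs0, es⟩ := scal_val hns
    rcases hall s hs0 with h | h | h <;> rw [h] at es
    · exact pair_scal es τ d h0 (Or.inl ⟨rfl, rfl⟩) (Or.inr ⟨by ring, by ring⟩)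
    · exact pair_scal es τ d h0 (Or.inl ⟨rfl, rfl⟩) (Or.inl ⟨by field_simp, by field_simp⟩)
    · refine pair_scal es (τ / d) (1 / d) hd0' (Or.inr ⟨rfl, rfl⟩) (Or.inr ⟨?_, ?_⟩)
      · rw [← hinv]; field_simp
      · rw [← hinv]; field_simp

end Cfsg.Lib.ClassSquare.GTwo
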