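import Cfsg.Agent.Lib.ClassSquare.G2Levi

/-!
# Root subgroups of G2 and coordinates on the radicals in characteristic two
-/

set_option autoImplicit false

namespace Cfsg.Lib.ClassSquare.GTwo

open Cfsg.Lie Cfsg.Lib.Chev Cfsg.Lib.ClassSquare
open scoped Matrix MatrixGroups commutatorElement

variable {F : Type*} [Field F]

/-- The group generated by some root subgroups. -/
def gen (F : Type*) [Field F] (l : List ℕ) : Subgroup (GL chevG2.Idx F) :=
  Subgroup.closure {g | ∃ r ∈ l, ∃ t : F, g = xx r t}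

theorem xx_mem_gen {l : List ℕ} {r : ℕ} (h : r ∈ l) (t : F) : xx r t ∈ gen F l :=
  Subgroup.subset_closure ⟨r, h, t, rfl⟩

theorem gen_le {l : List ℕ} {S : Subgroup (GL chevG2.Idx F)} (h : ∀ r ∈ l, ∀ t : F, xx r t ∈ S) : gen F l ≤ S :=
  (Subgroup.closure_le _).2 fun _ ⟨r, hr, t, e⟩ => e ▸ h r hr t

theorem gen_le_pos {l : List ℕ} (h : ∀ r ∈ l, 6 ≤ r ∧ r < 12) : gen F l ≤ chevG2.posUnipotent F :=
  gen_le fun r hr t => xg_mem_pos certG2 (h r hr).2 (show 12 ≤ 2 * r by have := (h r hr).1; omega) t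

theorem gen_le_neg {l : List ℕ} (h : ∀ r ∈ l, r < 6) : gen F l ≤ chevG2.negUnipotent F :=
  gen_le fun r hr t => xg_mem_neg certG2 (show r < 12 by have := h r hr; omega)
    (show 2 * r < 12 by have := h r hr; omega) t

theorem negRad_eq : negRad certG2 F {0} = gen F [0, 1, 2, 3, 5] := by
  refine le_antisymm ((Subgroup.closure_le _).2 ?_) (gen_le fun r hr t => ?_)
  · rintro g ⟨r, t, hr, hn, hJ, rfl⟩
    rw [inSub_iff hr, not_or] at hJ
    have h12 : r < 6 := by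
      have : chevG2.nroots = 12 := rfl
      omega
    refine xx_mem_gen ?_ t
    have h4 := hJ.1
    interval_cases r <;> simp at h4 ⊢
  · simp only [List.mem_cons, List.not_mem_nil, or_false] at hr
    have h12 : r < 12 := by omega
    refine xg_mem_negRad certG2 h12 (show 2 * r < 12 by omega) ?_ t
    rw [inSub_iff h12]
    omega

theorem rad_eq : chevG2.unipotentRadical F {0} = gen F [6, 8, 9, 10, 11] := by
  refine le_antisymm ((Subgroup.closure_le _).2 ?_) (gen_le fun r hr t => ?_)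
  · rintro g ⟨r, t, hr, hJ, e⟩
    rw [eq_xg certG2 e]
    rw [inSub_iff hr.1, not_or] at hJ
    have h6 : chevG2.nroots ≤ 2 * r := (certG2.isPos_iff hr.1).1 hr
    have h12 : r < 12 := hr.1
    have : chevG2.nroots = 12 := rfl
    refine xx_mem_gen ?_ t
    have h7 := hJ.2
    have : 6 ≤ r := by omega
    interval_cases r <;> simp at h7 ⊢
  · simp only [List.mem_cons, List.not_mem_nil, or_false] at hr
    have h12 : r < 12 := by omega
    refine xg_mem_radical certG2 h12 (show 12 ≤ 2 * r by omega) ?_ t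
    rw [inSub_iff h12]
    omega

/-- The commutator formula as a formula for conjugation. -/
theorem conj_xx {r s : ℕ} (hr : r < 12) (hs : s < 12) (h1 : s ≠ r) (h2 : s ≠ tblG2.neg r) (σ u : F) :
    xx r σ * xx s u * (xx r σ)⁻¹ =
      xx s u * ((tTerms tblG2 r s).map fun c => xx c.1 ((c.2.1 : F) * σ ^ c.2.2.1 * u ^ c.2.2.2)).prod := by
  have h := comm_xg_prod certG2 fullCertG2.comm (r := r) (s := s) hr hs h1 h2 (-σ) u
  simp only [neg_neg] at h
  simp only [xx]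
  rw [← h, commutatorElement_def, inv_inv, inv_inv, ← xg_inv, inv_inv]
  group

/-- Roots whose subgroups are carried by a root element into given ones. -/
def ConjIn (r : ℕ) (src dst : List ℕ) : Prop :=
  r < 12 ∧ ∀ s ∈ src, s < 12 ∧ s ≠ r ∧ s ≠ tblG2.neg r ∧ s ∈ dst ∧ ∀ c ∈ tTerms tblG2 r s, c.1 ∈ dst

theorem conj_gen {r : ℕ} {src dst : List ℕ} (h : ConjIn r src dst) (σ : F) {w : GL chevG2.Idx F}
    (hw : w ∈ gen F src) : xx r σ * w * (xx r σ)⁻¹ ∈ gen F dst := by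
  have : gen F src ≤ (gen F dst).comap (MulAut.conj (xx r σ)).toMonoidHom := gen_le fun s hs u => by
    show xx r σ * xx s u * (xx r σ)⁻¹ ∈ gen F dst
    obtain ⟨h12, h1, h2, h3, h4⟩ := h.2 s hs
    rw [conj_xx h.1 h12 h1 h2]
    refine mul_mem (xx_mem_gen h3 u) (list_prod_mem fun x hx => ?_)
    obtain ⟨c, hc, rfl⟩ := List.mem_map.1 hx
    exact xx_mem_gen (h4 c hc) _
  exact this hw

theorem chk_terms :
    tTerms tblG2 4 6 = [] ∧ tTerms tblG2 4 8 = [(6, -3, 1, 1)] ∧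
      tTerms tblG2 4 9 = [(8, -2, 1, 1), (6, 3, 2, 1), (11, -3, 1, 2)] ∧
      tTerms tblG2 4 10 = [(9, 1, 1, 1), (8, -1, 2, 1), (6, 1, 3, 1), (11, -1, 3, 2)] ∧
      tTerms tblG2 4 11 = [] ∧ tTerms tblG2 6 8 = [] ∧ tTerms tblG2 6 4 = [] ∧ tTerms tblG2 5 3 = [] ∧
      tTerms tblG2 5 8 = [(7, 1, 1, 1), (9, -1, 1, 2), (11, 1, 1, 3), (10, 2, 2, 3)] ∧
      tTerms tblG2 6 3 = [(4, -1, 1, 1), (2, -1, 1, 2), (0, -1, 1, 3), (1, 2, 2, 3)] := by decide +kernel

theorem xx_comm {r s : ℕ} (hr : r < 12) (hs : s < 12) (h1 : s ≠ r) (h2 : s ≠ tblG2.neg r)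
    (h : tTerms tblG2 r s = []) (σ u : F) : xx r σ * xx s u = xx s u * xx r σ := by
  have e := conj_xx hr hs h1 h2 σ u
  rw [h, List.map_nil, List.prod_nil, mul_one, mul_inv_eq_iff_eq_mul] at e
  exact e

/-- Coordinates at the two lowest roots of the radical. -/
def Up (b k : F) (u : GL chevG2.Idx F) : Prop := ∃ w ∈ gen F [9, 10, 11], u = xx 6 b * xx 8 k * w

theorem chk_up : ConjIn 6 [9, 10, 11] [9, 10, 11] ∧ ConjIn 8 [9, 10, 11] [9, 10, 11] ∧
    ConjIn 5 [9, 10, 11] [6, 8, 9, 10, 11] ∧ tblG2.neg 6 ≠ 8 ∧ tblG2.neg 5 ≠ 3 := by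
  unfold ConjIn; decide +kernel

theorem Up.mul {b k b' k' : F} {u u' : GL chevG2.Idx F} (h : Up b k u) (h' : Up b' k' u') :
    Up (b + b') (k + k') (u * u') := by
  obtain ⟨w, hw, rfl⟩ := h
  obtain ⟨w', hw', rfl⟩ := h'
  have h1 : (xx 6 b')⁻¹ * w * xx 6 b' ∈ gen F [9, 10, 11] := by
    rw [show (xx 6 b' : GL chevG2.Idx F) = (xx 6 (-b'))⁻¹ by rw [xx, xg_inv, neg_neg]]
    simpa using conj_gen chk_up.1 (-b') hw
  have h2 : (xx 8 k')⁻¹ * ((xx 6 b')⁻¹ * w * xx 6 b') * xx 8 k' ∈ gen F [9, 10, 11] := by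
    rw [show (xx 8 k' : GL chevG2.Idx F) = (xx 8 (-k'))⁻¹ by rw [xx, xg_inv, neg_neg]]
    simpa using conj_gen chk_up.2.1 (-k') h1
  refine ⟨_, mul_mem h2 hw', ?_⟩
  have hc := xx_comm (F := F) (r := 6) (s := 8) (by omega) (by omega) (by omega) chk_up.2.2.2.1.symm
    chk_terms.2.2.2.2.2.1 b' k
  have e6 : (xx 6 (b + b') : GL chevG2.Idx F) = xx 6 b * xx 6 b' := (xg_add certG2 6 b b').symm
  have e8 : (xx 8 (k + k') : GL chevG2.Idx F) = xx 8 k * xx 8 k' := (xg_add certG2 8 k k').symm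
  calc xx 6 b * xx 8 k * w * (xx 6 b' * xx 8 k' * w')
      = xx 6 b * (xx 8 k * xx 6 b') * ((xx 6 b')⁻¹ * w * xx 6 b') * xx 8 k' * w' := by group
    _ = xx 6 b * (xx 6 b' * xx 8 k) * ((xx 6 b')⁻¹ * w * xx 6 b') * xx 8 k' * w' := by rw [hc]
    _ = _ := by rw [e6, e8]; group

theorem up_six (b : F) : Up b 0 (xx 6 b) := ⟨1, one_mem _, by simp [xx, xg_zero]⟩

theorem up_eight (k : F) : Up 0 k (xx 8 k) := ⟨1, one_mem _, by simp [xx, xg_zero]⟩

theorem up_high {w : GL chevG2.Idx F} (hw : w ∈ gen F [9, 10, 11]) : Up 0 0 w := ⟨w, hw, by simp [xx, xg_zero]⟩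

theorem Up.inv {b k : F} {u : GL chevG2.Idx F} (h : Up b k u) : Up (-b) (-k) u⁻¹ := by
  obtain ⟨w, hw, rfl⟩ := h
  have := ((up_high (inv_mem hw)).mul (up_eight (-k))).mul (up_six (-b))
  simpa [xx, ← xg_inv, mul_assoc] using this

theorem Up.mem {b k : F} {u : GL chevG2.Idx F} (h : Up b k u) : u ∈ gen F [6, 8, 9, 10, 11] := by
  obtain ⟨w, hw, rfl⟩ := h
  exact mul_mem (mul_mem (xx_mem_gen (by simp) b) (xx_mem_gen (by simp) k))
    (gen_le (fun r hr t => xx_mem_gen (by simp at hr ⊢; tauto) t) hw)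

/-- The coordinates of the conjugates under the opposite short root subgroup. -/
def UpConj (b k f h : F) (u : GL chevG2.Idx F) : Prop :=
  ∀ σ : F, Up (b + σ * k + σ ^ 2 * f + σ ^ 3 * h) (k + σ ^ 2 * h) (xx 4 σ * u * (xx 4 σ)⁻¹)

theorem exists_upConj [CharP F 2] {u : GL chevG2.Idx F} (hu : u ∈ gen F [6, 8, 9, 10, 11]) :
    ∃ b k f h, UpConj b k f h u := by
  have h2 : (2 : F) = 0 := CharTwo.two_eq_zero
  have hneg : ∀ s : ℕ, s ∈ [6, 8, 9, 10, 11] → s < 12 ∧ s ≠ 4 ∧ s ≠ tblG2.neg 4 := by decide +kernel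
  induction hu using Subgroup.closure_induction with
  | mem u hu =>
    obtain ⟨r, hr, t, rfl⟩ := hu
    obtain ⟨h12, hr4, hrn⟩ := hneg r hr
    have hc := fun σ : F => conj_xx (F := F) (r := 4) (s := r) (by omega) h12 hr4 hrn σ t
    simp only [List.mem_cons, List.not_mem_nil, or_false] at hr
    rcases hr with rfl | rfl | rfl | rfl | rfl
    · refine ⟨t, 0, 0, 0, fun σ => ?_⟩
      rw [hc σ, chk_terms.1, List.map_nil, List.prod_nil, mul_one]
      simpa using up_six t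
    · refine ⟨0, t, 0, 0, fun σ => ?_⟩
      rw [hc σ, chk_terms.2.1]
      simp only [List.map_cons, List.map_nil, List.prod_cons, List.prod_nil, mul_one]
      convert (up_eight t).mul (up_six (((-3 : ℤ) : F) * σ ^ 1 * t ^ 1)) using 1
      · push_cast; linear_combination (2 * σ * t) * h2
      · ring
    · refine ⟨0, 0, t, 0, fun σ => ?_⟩
      rw [hc σ, chk_terms.2.2.1]
      simp only [List.map_cons, List.map_nil, List.prod_cons, List.prod_nil, mul_one]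
      convert (up_high (xx_mem_gen (r := 9) (by simp) t)).mul ((up_eight (((-2 : ℤ) : F) * σ ^ 1 * t ^ 1)).mul
        ((up_six (((3 : ℤ) : F) * σ ^ 2 * t ^ 1)).mul
          (up_high (xx_mem_gen (r := 11) (by simp) (((-3 : ℤ) : F) * σ ^ 1 * t ^ 2))))) using 1
      · push_cast; linear_combination (-σ ^ 2 * t) * h2
      · push_cast; linear_combination (σ * t) * h2
    · refine ⟨0, 0, 0, t, fun σ => ?_⟩
      rw [hc σ, chk_terms.2.2.2.1]
      simp only [List.map_cons, List.map_nil, List.prod_cons, List.prod_nil, mul_one]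
      convert (up_high (xx_mem_gen (r := 10) (by simp) t)).mul ((up_high (xx_mem_gen (r := 9) (by simp)
        (((1 : ℤ) : F) * σ ^ 1 * t ^ 1))).mul ((up_eight (((-1 : ℤ) : F) * σ ^ 2 * t ^ 1)).mul
        ((up_six (((1 : ℤ) : F) * σ ^ 3 * t ^ 1)).mul
          (up_high (xx_mem_gen (r := 11) (by simp) (((-1 : ℤ) : F) * σ ^ 3 * t ^ 2)))))) using 1
      · push_cast; ring
      · push_cast; linear_combination (σ ^ 2 * t) * h2
    · refine ⟨0, 0, 0, 0, fun σ => ?_⟩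
      rw [hc σ, chk_terms.2.2.2.2.1, List.map_nil, List.prod_nil, mul_one]
      simpa using up_high (xx_mem_gen (r := 11) (by simp) t)
  | one => exact ⟨0, 0, 0, 0, fun σ => by simpa using up_high (F := F) (one_mem _)⟩
  | mul u u' _ _ hu hu' =>
    obtain ⟨b, k, f, h, hu⟩ := hu
    obtain ⟨b', k', f', h', hu'⟩ := hu'
    refine ⟨b + b', k + k', f + f', h + h', fun σ => ?_⟩
    rw [show xx 4 σ * (u * u') * (xx 4 σ)⁻¹ = xx 4 σ * u * (xx 4 σ)⁻¹ * (xx 4 σ * u' * (xx 4 σ)⁻¹) by group]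
    convert (hu σ).mul (hu' σ) using 1 <;> ring
  | inv u _ hu =>
    obtain ⟨b, k, f, h, hu⟩ := hu
    refine ⟨-b, -k, -f, -h, fun σ => ?_⟩
    rw [show xx 4 σ * u⁻¹ * (xx 4 σ)⁻¹ = (xx 4 σ * u * (xx 4 σ)⁻¹)⁻¹ by group]
    convert (hu σ).inv using 1 <;> ring

theorem UpConj.zero {b k f h : F} {u : GL chevG2.Idx F} (hu : UpConj b k f h u) : Up b k u := by
  have := hu 0
  simpa [xx, xg_zero] using this

/-- Coordinates at the two highest roots of the opposite radical. -/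
def Dn (a k : F) (v : GL chevG2.Idx F) : Prop := ∃ w ∈ gen F [0, 1, 2], v = w * xx 3 k * xx 5 a

theorem chk_dn : ConjIn 3 [0, 1, 2] [0, 1, 2] ∧ ConjIn 5 [0, 1, 2] [0, 1, 2] := by unfold ConjIn; decide +kernel

theorem Dn.mul {a k a' k' : F} {v v' : GL chevG2.Idx F} (h : Dn a k v) (h' : Dn a' k' v') :
    Dn (a + a') (k + k') (v * v') := by
  obtain ⟨w, hw, rfl⟩ := h
  obtain ⟨w', hw', rfl⟩ := h'
  refine ⟨_, mul_mem hw (conj_gen chk_dn.1 k (conj_gen chk_dn.2 a hw')), ?_⟩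
  have hc := xx_comm (F := F) (r := 5) (s := 3) (by omega) (by omega) (by omega) chk_up.2.2.2.2.symm
    chk_terms.2.2.2.2.2.2.2.1 a k'
  have e5 : (xx 5 (a + a') : GL chevG2.Idx F) = xx 5 a * xx 5 a' := (xg_add certG2 5 a a').symm
  have e3 : (xx 3 (k + k') : GL chevG2.Idx F) = xx 3 k * xx 3 k' := (xg_add certG2 3 k k').symm
  calc w * xx 3 k * xx 5 a * (w' * xx 3 k' * xx 5 a')
      = w * (xx 3 k * (xx 5 a * w' * (xx 5 a)⁻¹) * (xx 3 k)⁻¹) * xx 3 k * (xx 5 a * xx 3 k') * xx 5 a' := by group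
    _ = _ := by rw [hc, e5, e3]; group

theorem exists_dn {v : GL chevG2.Idx F} (hv : v ∈ gen F [0, 1, 2, 3, 5]) : ∃ a k, Dn a k v := by
  have h5 : ∀ a : F, Dn a 0 (xx 5 a) := fun a => ⟨1, one_mem _, by simp [xx, xg_zero]⟩
  have h3 : ∀ k : F, Dn 0 k (xx 3 k) := fun k => ⟨1, one_mem _, by simp [xx, xg_zero]⟩
  have hw : ∀ w ∈ gen F [0, 1, 2], Dn 0 0 w := fun w hw => ⟨w, hw, by simp [xx, xg_zero]⟩
  induction hv using Subgroup.closure_induction with
  | mem v hv =>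
    obtain ⟨r, hr, t, rfl⟩ := hv
    simp only [List.mem_cons, List.not_mem_nil, or_false] at hr
    rcases hr with rfl | rfl | rfl | rfl | rfl
    · exact ⟨0, 0, hw _ (xx_mem_gen (by simp) t)⟩
    · exact ⟨0, 0, hw _ (xx_mem_gen (by simp) t)⟩
    · exact ⟨0, 0, hw _ (xx_mem_gen (by simp) t)⟩
    · exact ⟨0, t, h3 t⟩
    · exact ⟨t, 0, h5 t⟩
  | one => exact ⟨0, 0, hw 1 (one_mem _)⟩
  | mul v v' _ _ hv hv' =>
    obtain ⟨a, k, hv⟩ := hv
    obtain ⟨a', k', hv'⟩ := hv'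
    exact ⟨_, _, hv.mul hv'⟩
  | inv v _ hv =>
    obtain ⟨a, k, w, hw', rfl⟩ := hv
    refine ⟨-a + 0 + 0, 0 + -k + 0, ?_⟩
    rw [show (w * xx 3 k * xx 5 a)⁻¹ = xx 5 (-a) * xx 3 (-k) * w⁻¹ by
      simp only [xx, ← xg_inv]; group]
    exact ((h5 _).mul (h3 _)).mul (hw _ (inv_mem hw'))

end Cfsg.Lib.ClassSquare.GTwo
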