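import Mathlib

/-!
# Products of two matrices of size two with prescribed trace and determinant
-/

set_option autoImplicit false

namespace Cfsg.Lib.ClassSquare

open scoped Matrix

variable {F : Type*} [Field F]

/-- The trace and the determinant. -/
def TrDet (t d : F) (A : Matrix (Fin 2) (Fin 2) F) : Prop := A.trace = t ∧ A.det = d

/-- Not a scalar matrix. -/
def NonScal (A : Matrix (Fin 2) (Fin 2) F) : Prop := ¬ (A 0 1 = 0 ∧ A 1 0 = 0 ∧ A 0 0 = A 1 1)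

/-- The companion matrix. -/
def comp2 (t d : F) : Matrix (Fin 2) (Fin 2) F := !![0, -d; 1, t]

theorem trDet_comp2 (t d : F) : TrDet t d (comp2 t d) :=
  ⟨by simp [comp2, Matrix.trace_fin_two], by simp [comp2, Matrix.det_fin_two]⟩

/-- The quadratic has no root. -/
def NoRoot (t d : F) : Prop := ∀ z : F, z * z - t * z + d ≠ 0

theorem NoRoot.nonScal {t d : F} (h : NoRoot t d) {A : Matrix (Fin 2) (Fin 2) F} (hA : TrDet t d A) : NonScal A := by
  rintro ⟨h1, h2, h3⟩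
  obtain ⟨ht, hd⟩ := hA
  rw [Matrix.trace_fin_two] at ht
  rw [Matrix.det_fin_two, h1, h2] at hd
  refine h (A 1 1) ?_
  rw [← ht, ← hd, h3]
  ring

theorem NoRoot.det_ne {t d : F} (h : NoRoot t d) : d ≠ 0 := fun e => h 0 (by simp [e])

theorem exists_conj_comp2 {A : Matrix (Fin 2) (Fin 2) F} (hA : NonScal A) :
    ∃ P : Matrix (Fin 2) (Fin 2) F, P.det ≠ 0 ∧ A * P = P * comp2 A.trace A.det := by
  obtain ⟨a, b, hab⟩ : ∃ a b : F, a * (A 1 0 * a + A 1 1 * b) - b * (A 0 0 * a + A 0 1 * b) ≠ 0 := by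
    by_cases h1 : A 1 0 = 0
    swap
    · exact ⟨1, 0, by simpa using h1⟩
    by_cases h2 : A 0 1 = 0
    swap
    · exact ⟨0, 1, by simpa using h2⟩
    refine ⟨1, 1, ?_⟩
    rw [h1, h2]
    have : A 0 0 ≠ A 1 1 := fun e => hA ⟨h2, h1, e⟩
    simpa [sub_ne_zero] using Ne.symm this
  refine ⟨!![a, A 0 0 * a + A 0 1 * b; b, A 1 0 * a + A 1 1 * b], ?_, ?_⟩
  · rw [Matrix.det_fin_two]
    simp only [Matrix.of_apply, Matrix.cons_val', Matrix.cons_val_zero, Matrix.cons_val_one, Matrix.empty_val',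
      Matrix.cons_val_fin_one]
    exact fun e => hab (by linear_combination e)
  · ext i j
    fin_cases i <;> fin_cases j <;>
      simp [comp2, Matrix.mul_apply, Fin.sum_univ_two, Matrix.trace_fin_two, Matrix.det_fin_two] <;> ring

/-- Non-scalar elements with the same trace and determinant are conjugate. -/
theorem exists_conj_gl {A B : GL (Fin 2) F} (hA : NonScal (A : Matrix (Fin 2) (Fin 2) F))
    (hB : NonScal (B : Matrix (Fin 2) (Fin 2) F))
    (ht : (A : Matrix (Fin 2) (Fin 2) F).trace = (B : Matrix (Fin 2) (Fin 2) F).trace)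
    (hd : (A : Matrix (Fin 2) (Fin 2) F).det = (B : Matrix (Fin 2) (Fin 2) F).det) :
    ∃ P : GL (Fin 2) F, P * A * P⁻¹ = B := by
  obtain ⟨P, hP, eP⟩ := exists_conj_comp2 hA
  obtain ⟨Q, hQ, eQ⟩ := exists_conj_comp2 hB
  let P' := Matrix.GeneralLinearGroup.mkOfDetNeZero P hP
  let Q' := Matrix.GeneralLinearGroup.mkOfDetNeZero Q hQ
  refine ⟨Q' * P'⁻¹, ?_⟩
  have hd' := Matrix.GeneralLinearGroup.det_ne_zero A
  let K' : GL (Fin 2) F := Matrix.GeneralLinearGroup.mkOfDetNeZero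
    (comp2 (A : Matrix (Fin 2) (Fin 2) F).trace (A : Matrix (Fin 2) (Fin 2) F).det)
    (by rw [(trDet_comp2 _ _).2]; exact hd')
  have e1 : A * P' = P' * K' := Units.ext eP
  have e2 : B * Q' = Q' * K' := Units.ext (by
    show (B : Matrix (Fin 2) (Fin 2) F) * Q = Q * comp2 _ _
    rw [ht, hd]; exact eQ)
  calc Q' * P'⁻¹ * A * (Q' * P'⁻¹)⁻¹ = Q' * (P'⁻¹ * (A * P')) * Q'⁻¹ := by group
    _ = Q' * K' * Q'⁻¹ := by rw [e1, inv_mul_cancel_left]
    _ = B := by rw [← e2, mul_inv_cancel_right]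

/-- A product of two elements, each in one of two classes. -/
def PairM (t d t' d' : F) (M : GL (Fin 2) F) : Prop :=
  ∃ A B : GL (Fin 2) F, (TrDet t d (A : Matrix (Fin 2) (Fin 2) F) ∨ TrDet t' d' (A : Matrix (Fin 2) (Fin 2) F)) ∧
    (TrDet t d (B : Matrix (Fin 2) (Fin 2) F) ∨ TrDet t' d' (B : Matrix (Fin 2) (Fin 2) F)) ∧ A * B = M

theorem PairM.conj {t d t' d' : F} {M : GL (Fin 2) F} (h : PairM t d t' d' M) (P : GL (Fin 2) F) :
    PairM t d t' d' (P * M * P⁻¹) := by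
  obtain ⟨A, B, hA, hB, rfl⟩ := h
  have key : ∀ (X : GL (Fin 2) F) (u v : F), TrDet u v (X : Matrix (Fin 2) (Fin 2) F) →
      TrDet u v ((P * X * P⁻¹ : GL (Fin 2) F) : Matrix (Fin 2) (Fin 2) F) := fun X u v hX => by
    refine ⟨?_, ?_⟩
    · rw [Units.val_mul, Units.val_mul, Matrix.trace_units_conj]; exact hX.1
    · rw [Units.val_mul, Units.val_mul, Matrix.det_units_conj]; exact hX.2
  exact ⟨P * A * P⁻¹, P * B * P⁻¹, hA.imp (key A _ _) (key A _ _), hB.imp (key B _ _) (key B _ _), by group⟩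

/-- A solution of the conic gives a factorisation of a companion matrix. -/
theorem pair_of_point {S D τ₁ d₁ τ₂ d₂ : F} (hd₁ : d₁ ≠ 0) (hD : D ≠ 0) (hd₂ : d₁ * d₂ = D) {x z : F}
    (h : x * x + S * x * z + D * (z * z) - τ₁ * x - τ₂ * d₁ * z + d₁ = 0)
    {M : GL (Fin 2) F} (hM : (M : Matrix (Fin 2) (Fin 2) F) = comp2 S D) :
    ∃ A B : GL (Fin 2) F, TrDet τ₁ d₁ (A : Matrix (Fin 2) (Fin 2) F) ∧
      TrDet τ₂ d₂ (B : Matrix (Fin 2) (Fin 2) F) ∧ A * B = M := by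
  have hdet : (!![x, S * x + D * z - τ₂ * d₁; z, τ₁ - x] : Matrix (Fin 2) (Fin 2) F).det = d₁ := by
    rw [Matrix.det_fin_two_of]; linear_combination -h
  set A := Matrix.GeneralLinearGroup.mkOfDetNeZero _ (hdet.symm ▸ hd₁ :
    (!![x, S * x + D * z - τ₂ * d₁; z, τ₁ - x] : Matrix (Fin 2) (Fin 2) F).det ≠ 0) with hA
  have hAval : (A : Matrix (Fin 2) (Fin 2) F) = !![x, S * x + D * z - τ₂ * d₁; z, τ₁ - x] := rfl
  refine ⟨A, A⁻¹ * M, ⟨?_, ?_⟩, ⟨?_, ?_⟩, mul_inv_cancel_left A M⟩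
  · rw [hAval]; simp [Matrix.trace_fin_two]
  · rw [hAval, hdet]
  · rw [Units.val_mul, Matrix.coe_units_inv, hM, hAval, Matrix.inv_def, hdet, Matrix.adjugate_fin_two_of,
      Ring.inverse_eq_inv', Matrix.trace_fin_two]
    simp [comp2, Matrix.mul_apply, Fin.sum_univ_two]
    field_simp
    ring
  · have : (A : Matrix (Fin 2) (Fin 2) F).det * ((A⁻¹ * M : GL (Fin 2) F) : Matrix (Fin 2) (Fin 2) F).det = D := by
      rw [← Matrix.det_mul, ← Units.val_mul, mul_inv_cancel_left, hM, (trDet_comp2 _ _).2]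
    rw [hAval, hdet] at this
    exact mul_left_cancel₀ hd₁ (this.trans hd₂.symm)

theorem pair_of_nonScal {t d t' d' : F} {M : GL (Fin 2) F} (hM : NonScal (M : Matrix (Fin 2) (Fin 2) F))
    (h : ∀ K : GL (Fin 2) F, (K : Matrix (Fin 2) (Fin 2) F) =
      comp2 (M : Matrix (Fin 2) (Fin 2) F).trace (M : Matrix (Fin 2) (Fin 2) F).det → PairM t d t' d' K) :
    PairM t d t' d' M := by
  let K : GL (Fin 2) F := Matrix.GeneralLinearGroup.mkOfDetNeZero
    (comp2 (M : Matrix (Fin 2) (Fin 2) F).trace (M : Matrix (Fin 2) (Fin 2) F).det)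
    (by rw [(trDet_comp2 _ _).2]; exact Matrix.GeneralLinearGroup.det_ne_zero M)
  have hKv : (K : Matrix (Fin 2) (Fin 2) F) =
      comp2 (M : Matrix (Fin 2) (Fin 2) F).trace (M : Matrix (Fin 2) (Fin 2) F).det := rfl
  obtain ⟨P, hP⟩ := exists_conj_gl (A := K) (B := M) (by rintro ⟨-, h1, -⟩; rw [hKv] at h1; simp [comp2] at h1) hM
    (by rw [hKv, (trDet_comp2 _ _).1]) (by rw [hKv, (trDet_comp2 _ _).2])
  rw [← hP]
  exact (h K hKv).conj P

theorem scal_val {M : GL (Fin 2) F} (hM : ¬ NonScal (M : Matrix (Fin 2) (Fin 2) F)) :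
    ∃ s : F, s ≠ 0 ∧ (M : Matrix (Fin 2) (Fin 2) F) = !![s, 0; 0, s] := by
  rw [NonScal, not_not] at hM
  obtain ⟨h1, h2, h3⟩ := hM
  refine ⟨(M : Matrix (Fin 2) (Fin 2) F) 0 0, fun e => Matrix.GeneralLinearGroup.det_ne_zero M ?_, ?_⟩
  · rw [Matrix.det_fin_two, h1, h2, e]; simp
  · ext i j; fin_cases i <;> fin_cases j <;> simp [h1, h2, h3]

/-- A scalar is the product of an element and a multiple of its inverse. -/
theorem pair_scal {t d t' d' : F} {M : GL (Fin 2) F} {s : F}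
    (hM : (M : Matrix (Fin 2) (Fin 2) F) = !![s, 0; 0, s]) (τ₁ d₁ : F) (hd₁ : d₁ ≠ 0)
    (h₁ : (τ₁ = t ∧ d₁ = d) ∨ (τ₁ = t' ∧ d₁ = d'))
    (h₂ : (s * τ₁ / d₁ = t ∧ s * s / d₁ = d) ∨ (s * τ₁ / d₁ = t' ∧ s * s / d₁ = d')) : PairM t d t' d' M := by
  let A : GL (Fin 2) F := Matrix.GeneralLinearGroup.mkOfDetNeZero (comp2 τ₁ d₁)
    (by rw [(trDet_comp2 _ _).2]; exact hd₁)
  have hA : TrDet τ₁ d₁ (A : Matrix (Fin 2) (Fin 2) F) := trDet_comp2 _ _
  have hB : TrDet (s * τ₁ / d₁) (s * s / d₁) ((A⁻¹ * M : GL (Fin 2) F) : Matrix (Fin 2) (Fin 2) F) := by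
    have hAv : (A : Matrix (Fin 2) (Fin 2) F) = comp2 τ₁ d₁ := rfl
    rw [Units.val_mul, Matrix.coe_units_inv, hM, hAv, Matrix.inv_def, (trDet_comp2 _ _).2, Ring.inverse_eq_inv',
      comp2, Matrix.adjugate_fin_two_of]
    refine ⟨?_, ?_⟩ <;>
      simp [Matrix.mul_apply, Fin.sum_univ_two, Matrix.trace_fin_two, Matrix.det_fin_two] <;> field_simp
  refine ⟨A, A⁻¹ * M, ?_, ?_, mul_inv_cancel_left A M⟩
  · rcases h₁ with ⟨e1, e2⟩ | ⟨e1, e2⟩ <;> rw [e1, e2] at hA <;> tauto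
  · rcases h₂ with ⟨e1, e2⟩ | ⟨e1, e2⟩ <;> rw [e1, e2] at hB <;> tauto

variable [Fintype F]

/-- Odd characteristic: everything of determinant one. -/
theorem pair_odd (h2 : (2 : F) ≠ 0) {τ : F} (hτ : τ ≠ 0) {M : GL (Fin 2) F}
    (hdet : (M : Matrix (Fin 2) (Fin 2) F).det = 1) : PairM τ (-1) (-τ) (-1) M := by
  by_cases hM : NonScal (M : Matrix (Fin 2) (Fin 2) F)
  swap
  · obtain ⟨s, hs, e⟩ := scal_val hM
    rw [e, Matrix.det_fin_two_of, mul_zero, sub_zero] at hdet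
    refine pair_scal e τ (-1) (neg_ne_zero.2 one_ne_zero) (Or.inl ⟨rfl, rfl⟩) ?_
    rcases mul_self_eq_one_iff.1 hdet with rfl | rfl
    · exact Or.inr ⟨by ring, by ring⟩
    · exact Or.inl ⟨by ring, by ring⟩
  refine pair_of_nonScal hM fun K hK => ?_
  rw [hdet] at hK
  set S := (M : Matrix (Fin 2) (Fin 2) F).trace
  have hn : (-1 : F) ≠ 0 := neg_ne_zero.2 one_ne_zero
  by_cases hS : S = 2
  · obtain ⟨A, B, hA, hB, e⟩ := pair_of_point (S := S) (τ₁ := τ) (τ₂ := τ) (d₂ := (-1 : F)) hn one_ne_zero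
      (by ring) (x := -1 / (2 * τ)) (z := 1 / (2 * τ)) (by rw [hS]; field_simp; ring) hK
    exact ⟨A, B, Or.inl hA, Or.inl hB, e⟩
  by_cases hS' : S = -2
  · obtain ⟨A, B, hA, hB, e⟩ := pair_of_point (S := S) (τ₁ := τ) (τ₂ := -τ) (d₂ := (-1 : F)) hn one_ne_zero
      (by ring) (x := -1 / (2 * τ)) (z := -1 / (2 * τ)) (by rw [hS']; field_simp; ring) hK
    exact ⟨A, B, Or.inl hA, Or.inr hB, e⟩
  have hΔ : 4 - S ^ 2 ≠ 0 := fun e => by
    have : (S - 2) * (S + 2) = 0 := by linear_combination -e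
    rcases mul_eq_zero.1 this with h | h
    · exact hS (sub_eq_zero.1 h)
    · exact hS' (eq_neg_of_add_eq_zero_left h)
  have h4 : (4 : F) ≠ 0 := by
    intro e; exact h2 (mul_self_eq_zero.1 (by linear_combination e))
  have hodd : Fintype.card F % 2 = 1 := FiniteField.odd_card_of_char_ne_two fun hc => by
    haveI := ringChar.of_eq hc
    exact h2 (CharTwo.two_eq_zero)
  open Polynomial in
  obtain ⟨X₀, z, hz⟩ := FiniteField.exists_root_sum_quadratic (R := F) (f := (X ^ 2 : F[X]))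
    (g := C ((4 - S ^ 2) / 4) * X ^ 2 + C (τ + S * τ / 2) * X + C (-1 - τ ^ 2 / 4))
    (degree_X_pow 2) (degree_quadratic (div_ne_zero hΔ h4)) hodd
  simp only [Polynomial.eval_add, Polynomial.eval_mul, Polynomial.eval_C, Polynomial.eval_pow, Polynomial.eval_X] at hz
  obtain ⟨A, B, hA, hB, e⟩ := pair_of_point (S := S) (τ₁ := τ) (τ₂ := τ) (d₂ := (-1 : F)) hn one_ne_zero
    (by ring) (x := X₀ - S * z / 2 + τ / 2) (z := z) (by
      field_simp; field_simp at hz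
      refine (mul_eq_zero.1 (?_ : (2 : F) * _ = 0)).resolve_left h2 |>.trans ?_ <;> [linear_combination hz; simp]) hK
  exact ⟨A, B, Or.inl hA, Or.inl hB, e⟩

/-- Characteristic two: non-zero trace. -/
theorem pair_two [CharP F 2] {τ₁ d₁ τ₂ d₂ t d t' d' : F} (hd₁ : d₁ ≠ 0) {M : GL (Fin 2) F}
    (hM : NonScal (M : Matrix (Fin 2) (Fin 2) F)) (hS : (M : Matrix (Fin 2) (Fin 2) F).trace ≠ 0)
    (hD : d₁ * d₂ = (M : Matrix (Fin 2) (Fin 2) F).det)
    (h₁ : (τ₁ = t ∧ d₁ = d) ∨ (τ₁ = t' ∧ d₁ = d')) (h₂ : (τ₂ = t ∧ d₂ = d) ∨ (τ₂ = t' ∧ d₂ = d')) :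
    PairM t d t' d' M := by
  refine pair_of_nonScal hM fun K hK => ?_
  set S := (M : Matrix (Fin 2) (Fin 2) F).trace
  set D := (M : Matrix (Fin 2) (Fin 2) F).det
  obtain ⟨x, hx⟩ := FiniteField.isSquare_of_char_two (ringChar.eq F 2)
    (D * (τ₁ / S * (τ₁ / S)) - τ₂ * d₁ * (τ₁ / S) + d₁)
  have h2 : (2 : F) = 0 := CharTwo.two_eq_zero
  obtain ⟨A, B, hA, hB, e⟩ := pair_of_point (S := S) (τ₁ := τ₁) (τ₂ := τ₂) hd₁
    (Matrix.GeneralLinearGroup.det_ne_zero M) hD (x := x) (z := τ₁ / S) (by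
      have hc : S * x * (τ₁ / S) = τ₁ * x := by field_simp
      linear_combination hx + hc + x * x * h2) hK
  refine ⟨A, B, ?_, ?_, e⟩
  · rcases h₁ with ⟨e1, e2⟩ | ⟨e1, e2⟩ <;> rw [e1, e2] at hA <;> tauto
  · rcases h₂ with ⟨e1, e2⟩ | ⟨e1, e2⟩ <;> rw [e1, e2] at hB <;> tauto

theorem exists_noRoot [DecidableEq F] (d : F) : ∃ τ : F, NoRoot τ d ∨ d = 0 := by
  by_cases hd : d = 0
  · exact ⟨0, Or.inr hd⟩
  by_contra h
  push Not at h
  have hsurj : Function.Surjective fun z : Fˣ => (z : F) + d / z := fun τ => by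
    have h1 := (h τ).1
    rw [NoRoot] at h1
    push Not at h1
    obtain ⟨z, hz⟩ := h1
    have hz0 : z ≠ 0 := fun e => hd (by simpa [e] using hz)
    refine ⟨Units.mk0 z hz0, ?_⟩
    show z + d / z = τ
    field_simp
    linear_combination hz
  have := Fintype.card_le_of_surjective _ hsurj
  rw [Fintype.card_units] at this
  have := Fintype.card_pos (α := F)
  omega

end Cfsg.Lib.ClassSquare
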