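import Cfsg.Agent.Lib.ClassSquare.Split3

/-!
# Decomposition and conjugation in the odd orthogonal group
-/

set_option autoImplicit false

namespace Cfsg.Lib.ClassSquare

open Matrix Cfsg.Lib.Linear.Orth Module
open scoped commutatorElement

variable {K : Type*} [Field K] {m : ℕ}

theorem upO_mem_omO [Fintype K] (hK : 4 ≤ Fintype.card K) {b : Fin m → K} {S : Matrix (Fin m) (Fin m) K} :
    (upO b S ∈ omO m K ↔ IsSq3 b S) ∧ (loO b S ∈ omO m K ↔ IsSq3 b S) := by
  classical
  obtain ⟨x, hx⟩ := exists_scalar_ne (K := K) hK {0, 1, -1} Finset.card_le_three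
  simp only [Finset.mem_insert, Finset.mem_singleton, not_or] at hx
  have key : ∀ x : K, x ≠ 1 → x ≠ -1 → ∀ b : Fin m → K, ∀ S : Matrix (Fin m) (Fin m) K, IsSq3 b S →
      ∃ b' S', IsSq3 b' S' ∧ x • b' + -b' = b ∧
        (x * x) • S' + (-S' - (2 : K) • vecMulVec b' b') - (2 : K) • vecMulVec (x • b') (-b') = S := by
    intro x h1 h1' b S hS
    have d1 : x - 1 ≠ 0 := sub_ne_zero.2 h1
    have d2 : x * x - 1 ≠ 0 := fun h => by
      rcases mul_self_eq_one_iff.1 (sub_eq_zero.1 h) with e | e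
      exacts [h1 e, h1' e]
    obtain ⟨c, hc⟩ : ∃ c, c * (x * x - 1) = 1 := ⟨_, inv_mul_cancel₀ d2⟩
    obtain ⟨e, he⟩ : ∃ e, e * (x - 1) = 1 := ⟨_, inv_mul_cancel₀ d1⟩
    have hq : c * (-1 + 2 * (1 - x) * e ^ 2) = -e ^ 2 := by
      linear_combination (-e ^ 2) * hc + c * (e * (x - 1) + 1) * he
    refine ⟨e • b, c • (S + (2 * (1 - x)) • vecMulVec (e • b) (e • b)), fun y => ?_, ?_, ?_⟩
    · simp only [Matrix.smul_mulVec, Matrix.add_mulVec, dotProduct_smul, dotProduct_add, Matrix.vecMulVec_mulVec,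
        smul_dotProduct, hS y, smul_eq_mul, op_smul_eq_smul, dotProduct_comm y b]
      linear_combination (b ⬝ᵥ y) ^ 2 * hq
    · funext i; simp; linear_combination b i * he
    · ext i j
      simp [vecMulVec_apply]
      linear_combination (S i j + 2 * (1 - x) * e * e * b i * b j) * hc
  refine ⟨⟨fun h => upO_mem_iso.1 (omO_le h), fun h => ?_⟩, ⟨fun h => loO_mem_iso.1 (omO_le h), fun h => ?_⟩⟩
  · obtain ⟨b', S', hS', e1, e2⟩ := key x hx.2.1 hx.2.2 b S h
    let a : GL (Fin m) K := scGL m (Units.mk0 x hx.1)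
    have := comm_mem_omO (emb3_mem_iso (levGL_mem a)) (upO_mem_iso.2 hS')
    rw [show emb3 m K (levGL m a) = lev3 m K a from rfl, commutatorElement_def, lev3_up, upO_inv, upO_mul] at this
    have ea : (a : Matrix (Fin m) (Fin m) K) = x • 1 := coe_scGL _ _
    rw [ea, Matrix.smul_mulVec, Matrix.one_mulVec, Matrix.transpose_smul, Matrix.transpose_one, smul_mul_assoc,
      one_mul, mul_smul_comm, mul_one, smul_smul, e1, e2] at this
    exact this
  · obtain ⟨b', S', hS', e1, e2⟩ := key x⁻¹ (fun h => hx.2.1 (inv_eq_one.1 h)) (fun h => hx.2.2 (by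
      rw [← inv_inv x, h, inv_neg, inv_one])) b S h
    let a : GL (Fin m) K := scGL m (Units.mk0 x hx.1)
    have := comm_mem_omO (emb3_mem_iso (levGL_mem a)) (loO_mem_iso.2 hS')
    rw [show emb3 m K (levGL m a) = lev3 m K a from rfl, commutatorElement_def, lev3_lo, loO_inv, loO_mul] at this
    have ea : ((a⁻¹ : GL (Fin m) K) : Matrix (Fin m) (Fin m) K) = x⁻¹ • 1 := by
      rw [show a⁻¹ = scGL m (Units.mk0 x hx.1)⁻¹ from (map_inv _ _).symm, coe_scGL]; simp
    rw [ea, Matrix.transpose_smul, Matrix.transpose_one, Matrix.smul_mulVec, Matrix.one_mulVec, smul_mul_assoc,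
      one_mul, mul_smul_comm, mul_one, smul_smul, e1, e2] at this
    exact this

theorem det_lev3 (A : GL (Fin m) K) : (lev3 m K A : Matrix (OI m) (OI m) K).det = 1 := by
  show (fromBlocks (1 : Matrix Unit Unit K) 0 0 (levGL m A : GL (Fin m ⊕ Fin m) K).val).det = 1
  rw [Matrix.det_fromBlocks_zero₂₁, Matrix.det_one, one_mul, coe_levGL, Matrix.det_fromBlocks_zero₂₁,
    Matrix.det_transpose, ← Matrix.det_mul, ← Units.val_mul, mul_inv_cancel, Units.val_one, Matrix.det_one]

theorem mk3_congr {a : K} {p p' q e f : Fin m → K} {A A' B C C' D : Matrix (Fin m) (Fin m) K} (hp : p = p')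
    (hA : A = A') (hC : C = C') : mk3 a p q e f A B C D = mk3 a p' q e f A' B C' D := by subst hp hA hC; rfl

set_option maxHeartbeats 1000000 in
theorem oo_decomp [Fintype K] (hK : 4 ≤ Fintype.card K) (hm : 1 ≤ m) (h2 : (2 : K) ≠ 0) {A : GL (Fin m) K}
    {g : GL (OI m) K} {a : K} {p q e f : Fin m → K} {B C D : Matrix (Fin m) (Fin m) K}
    (hg : (g : Matrix (OI m) (OI m) K) = mk3 a p q e f (A : Matrix (Fin m) (Fin m) K) B C D) (hH : g ∈ omO m K) :
    ∃ r T b S, r ᵥ* (A : Matrix (Fin m) (Fin m) K) = p ∧ T * (A : Matrix (Fin m) (Fin m) K) = C ∧ IsSq3 r T ∧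
      loO r T ∈ omO m K ∧ upO b S ∈ omO m K ∧ IsSquare (A : Matrix (Fin m) (Fin m) K).det ∧
      g = loO r T * lev3 m K A * upO b S := by
  classical
  obtain ⟨h1, -⟩ := iso3_blocks hg (omO_le hH)
  set A' := ((A⁻¹ : GL (Fin m) K) : Matrix (Fin m) (Fin m) K) with hA'
  have e1 : (A : Matrix (Fin m) (Fin m) K) * A' = 1 := A.mul_inv
  have e2 : A' * (A : Matrix (Fin m) (Fin m) K) = 1 := A.inv_mul
  set r := p ᵥ* A' with hr
  set T := C * A' with hT
  have hrA : r ᵥ* (A : Matrix (Fin m) (Fin m) K) = p := by rw [hr, Matrix.vecMul_vecMul, e2, Matrix.vecMul_one]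
  have hTA : T * (A : Matrix (Fin m) (Fin m) K) = C := by rw [hT, Matrix.mul_assoc, e2, mul_one]
  have hrT : IsSq3 r T := fun y => by
    have := h1 (A' *ᵥ y)
    rw [Matrix.mulVec_mulVec, e1, Matrix.one_mulVec, Matrix.mulVec_mulVec, ← hT, Matrix.dotProduct_mulVec, ← hr] at this
    linear_combination this
  have hlo := ((upO_mem_omO hK).2.2 hrT)
  set N := (loO r T * lev3 m K A)⁻¹ * g with hN
  obtain ⟨a₁, q₁, e₁, f₁, B₁, D₁, hN'⟩ : ∃ a₁ q₁ e₁ f₁ B₁ D₁,
      (N : Matrix (OI m) (OI m) K) = mk3 a₁ 0 q₁ e₁ f₁ 1 B₁ 0 D₁ := by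
    rw [hN, _root_.mul_inv_rev, Units.val_mul, Units.val_mul, ← map_inv, coe_lev3, inv_inv, coe_loO_inv, hg,
      mk3_mul, mk3_mul, ← hA']
    exact ⟨_, _, _, _, _, _, mk3_congr (by simp [Matrix.neg_vecMul, hrA]) (by simp [e2]) (by
      rw [show (-T - (2 : K) • vecMulVec r r) = -T - (2 : K) • vecMulVec r r from rfl]
      simp [Matrix.mul_add, Matrix.mul_sub, sub_mul, hTA, Matrix.smul_vecMulVec, Matrix.vecMulVec_mul, hrA,
        Matrix.mulVec_smul, Matrix.mul_assoc]
      simp only [← Matrix.mulVec_transpose, Matrix.mul_vecMulVec, Matrix.transpose_transpose]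
      abel)⟩
  have hNiso : N ∈ isometryGroup K (Cfsg.quadFormOdd m K) :=
    mul_mem (inv_mem (mul_mem (omO_le hlo) (emb3_mem_iso (levGL_mem A)))) (omO_le hH)
  obtain ⟨-, k2, k3, k4, k5, k6⟩ := iso3_blocks hN' hNiso
  have hD : D₁ = 1 := Matrix.ext fun i j => by
    have := k3 (Pi.single i 1) (Pi.single j 1)
    simp only [Matrix.one_mulVec, Matrix.zero_mulVec, dotProduct_zero, add_zero, mul_zero, zero_mul] at this
    simpa [Matrix.one_apply, Pi.single_apply, eq_comm] using this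
  subst hD
  have hf : f₁ = 0 := funext fun i => by
    have := k4 (Pi.single i 1)
    simp only [Matrix.one_mulVec, Matrix.zero_mulVec, dotProduct_zero, add_zero, zero_dotProduct, mul_zero] at this
    simpa using this
  subst hf
  have he : e₁ = (-(2 * a₁)) • q₁ := funext fun i => by
    have := k5 (Pi.single i 1)
    simp only [Matrix.one_mulVec, zero_dotProduct, add_zero] at this
    simp at this
    simp
    linear_combination this
  have ha : a₁ * a₁ = 1 := by simpa [sq] using k6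
  have hq : IsSq3 (a₁ • q₁) B₁ := fun y => by
    have := k2 y
    simp at this
    rw [dotProduct_comm (B₁ *ᵥ y)] at this
    rw [smul_dotProduct, smul_eq_mul, mul_pow, sq a₁, ha, one_mul]
    linear_combination this
  have hup := ((upO_mem_omO hK).1.2 hq)
  have hfac : (N : Matrix (OI m) (OI m) K) = mk3 a₁ 0 0 0 0 1 0 0 1 * (upO (a₁ • q₁) B₁ : Matrix (OI m) (OI m) K) := by
    rw [hN', coe_upO, mk3_mul, he]
    congr 1
    · simp
    · simp
    · ext i; simp [← mul_assoc, ha]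
    · ext i; simp; ring
    all_goals simp
  have ha1 : a₁ = 1 := by
    have hd := congrArg Matrix.det hfac
    rw [Matrix.det_mul, det_omO hup, mul_one, hN, Units.val_mul, Matrix.det_mul, Matrix.coe_units_inv,
      Matrix.det_nonsing_inv, Units.val_mul, Matrix.det_mul, det_lev3, det_omO hlo, det_omO hH] at hd
    rw [show mk3 a₁ 0 0 0 0 1 0 0 (1 : Matrix (Fin m) (Fin m) K) = fromBlocks (of fun _ _ => a₁) 0 0 1 from by
      rw [← fromBlocks_one]
      ext i j
      rcases i with u | i | i <;> rcases j with u' | j | j <;> simp [mk3]] at hd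
    simpa using hd.symm
  subst ha1
  rw [one_smul] at hup hfac
  have e : g = loO r T * lev3 m K A * upO q₁ B₁ := by
    have : N = upO q₁ B₁ := Units.ext (by rw [hfac, mk3_one, one_mul])
    rw [← this, hN, mul_inv_cancel_left]
  refine ⟨r, T, q₁, B₁, hrA, hTA, hrT, hlo, hup, lev3_det_square hK hm h2 ?_, e⟩
  rw [show lev3 m K A = (loO r T)⁻¹ * g * (upO q₁ B₁)⁻¹ by rw [e]; group]
  exact mul_mem (mul_mem (inv_mem hlo) hH) (inv_mem hup)

theorem conj_upO (b : Fin m → K) (S : Matrix (Fin m) (Fin m) K) {g : GL (OI m) K} {a : K} {p q e f : Fin m → K}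
    {A B C D : Matrix (Fin m) (Fin m) K} (hg : (g : Matrix (OI m) (OI m) K) = mk3 a p q e f A B C D) :
    ∃ a' q' e' f' B' D', ((upO b S * g * (upO b S)⁻¹ : GL (OI m) K) : Matrix (OI m) (OI m) K)
      = mk3 a' (p + b ᵥ* C) q' e' f' (A - (2 : K) • vecMulVec b p + S * C) B' C D' := by
  rw [Units.val_mul, Units.val_mul, hg, coe_upO, coe_upO_inv, mk3_mul, mk3_mul]
  exact ⟨_, _, _, _, _, _, mk3_congr (by simp) (by ext i j; simp [vecMulVec_apply, sub_eq_add_neg]; ring) (by simp)⟩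

theorem conj_loO_zero (T : Matrix (Fin m) (Fin m) K) {g : GL (OI m) K} {a : K} {p q e f : Fin m → K}
    {A B C D : Matrix (Fin m) (Fin m) K} (hg : (g : Matrix (OI m) (OI m) K) = mk3 a p q e f A B C D) :
    ∃ a' q' e' f' B' D', ((loO 0 T * g * (loO 0 T)⁻¹ : GL (OI m) K) : Matrix (OI m) (OI m) K)
      = mk3 a' (p - q ᵥ* T) q' e' f' (A - B * T) B' (C + T * A - (D + T * B) * T) D' := by
  rw [Units.val_mul, Units.val_mul, hg, coe_loO, coe_loO_inv, mk3_mul, mk3_mul]
  exact ⟨_, _, _, _, _, _, mk3_congr (by simp [Matrix.vecMul_neg, sub_eq_add_neg, add_comm])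
    (by simp [sub_eq_add_neg, add_comm]) (by simp [sub_eq_add_neg, add_comm])⟩

set_option maxHeartbeats 1000000 in
theorem oo_conj_lower [Fintype K] (hK : 4 ≤ Fintype.card K) (hm : 3 ≤ m) (h2 : (2 : K) ≠ 0) {g : ↥(omO m K)}
    (hns : ¬ ∃ c : K, ((g : GL (OI m) K) : Matrix (OI m) (OI m) K) = c • 1) :
    ∃ (g' : ↥(omO m K)) (a : K) (p q e f : Fin m → K) (A B C D : Matrix (Fin m) (Fin m) K), IsConj g g' ∧
      ((g' : GL (OI m) K) : Matrix (OI m) (OI m) K) = mk3 a p q e f A B C D ∧ (p ≠ 0 ∨ C ≠ 0) := by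
  classical
  by_contra! hall
  obtain ⟨a, p, q, e, f, A, B, C, D, hg⟩ : ∃ (a : K) (p q e f : Fin m → K) (A B C D : Matrix (Fin m) (Fin m) K),
      ((g : GL (OI m) K) : Matrix (OI m) (OI m) K) = mk3 a p q e f A B C D := ⟨_, _, _, _, _, _, _, _, _, mk3_eta _⟩
  obtain ⟨hp, hC⟩ := hall g a p q e f A B C D (IsConj.refl g) hg
  subst hp hC
  have h : ∀ T : Matrix (Fin m) (Fin m) K, IsAltM T → q ᵥ* T = 0 ∧ T * A - D * T = 0 ∧ T * B * T = 0 := fun T hT => by
    have key : ∀ t : K, q ᵥ* (t • T) = 0 ∧ t • (T * A - D * T) - (t * t) • (T * B * T) = 0 := fun t => by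
      have ht : loO 0 (t • T) ∈ omO m K := (upO_mem_omO hK).2.2 (isSq3_alt.2 (hT.smul t))
      obtain ⟨a', q', e', f', B', D', h'⟩ := conj_loO_zero (t • T) hg
      let l : ↥(omO m K) := ⟨_, ht⟩
      have h'' : ((l * g * l⁻¹ : ↥(omO m K)) : GL (OI m) K).val = _ :=
        (congrArg Units.val (show ((l * g * l⁻¹ : ↥(omO m K)) : GL (OI m) K)
          = loO 0 (t • T) * (g : GL (OI m) K) * (loO 0 (t • T))⁻¹ by
            simp only [Subgroup.coe_mul, InvMemClass.coe_inv, l])).trans h'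
      obtain ⟨hp', hC'⟩ := hall (l * g * l⁻¹) a' _ q' e' f' _ B' _ D' (isConj_iff.2 ⟨l, rfl⟩) h''
      refine ⟨by rwa [zero_sub, neg_eq_zero] at hp', ?_⟩
      rw [← hC']
      simp [add_mul, smul_sub, smul_smul]
      abel
    obtain ⟨t, ht⟩ := exists_scalar_ne hK {0, 1} (Finset.card_le_two.trans (by norm_num))
    simp only [Finset.mem_insert, Finset.mem_singleton, not_or] at ht
    have h1 := (key 1).2
    rw [one_smul, one_mul, one_smul, sub_eq_zero] at h1
    have h2 := (key t).2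
    rw [h1, ← sub_smul, smul_eq_zero] at h2
    have h3 : T * B * T = 0 := h2.resolve_left fun h => by
      have : t * (1 - t) = 0 := by linear_combination h
      rcases mul_eq_zero.1 this with h | h
      exacts [ht.1 h, ht.2 (sub_eq_zero.1 h).symm]
    exact ⟨by simpa using (key 1).1, by rw [h1, h3], h3⟩
  have halt : ∀ i j : Fin m, IsAltM (single i j (1 : K) - single j i 1) := fun i j => by
    simpa [Matrix.single_eq_single_vecMulVec_single] using isAltM_plane (Pi.single i (1 : K)) (Pi.single j 1)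
  have third : ∀ i k : Fin m, ∃ j : Fin m, j ≠ i ∧ j ≠ k := fun i k => by
    obtain ⟨j, -, hj⟩ := Finset.exists_mem_notMem_of_card_lt_card (s := ({i, k} : Finset (Fin m)))
      (t := (Finset.univ : Finset (Fin m))) (by rw [Finset.card_univ, Fintype.card_fin]; exact Finset.card_le_two.trans_lt (by omega))
    simp only [Finset.mem_insert, Finset.mem_singleton, not_or] at hj
    exact ⟨j, hj⟩
  have hq : q = 0 := by
    funext i
    obtain ⟨j, hji, -⟩ := third i i
    have := congrFun (h _ (halt i j)).1 j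
    simpa [Matrix.vecMul, dotProduct, Matrix.single_apply, hji, Ne.symm hji] using this
  have hB0 : B = 0 := by
    ext j i
    rcases eq_or_ne i j with rfl | hij
    · obtain ⟨k, hki, -⟩ := third i i
      have := congrFun (congrFun (h _ (halt k i)).2.2 k) k
      simpa [sub_mul, mul_sub, Matrix.single_mul_mul_single, hki, Ne.symm hki] using this
    · have := congrFun (congrFun (h _ (halt i j)).2.2 i) j
      simpa [sub_mul, mul_sub, Matrix.single_mul_mul_single, hij, Ne.symm hij] using this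
  subst hq hB0
  obtain ⟨-, -, h3, h4, h5, h6⟩ := iso3_blocks hg (omO_le g.2)
  -- the other corner is the inverse transpose
  have hAD : Aᵀ * D = 1 := Matrix.ext fun i j => by
    have := h3 (Pi.single i 1) (Pi.single j 1)
    simpa [dotProduct, Matrix.mul_apply, Matrix.one_apply, Pi.single_apply, eq_comm] using this
  have hcom : ∀ i j : Fin m, Aᵀ * (single i j (1 : K) - single j i 1) = (single i j (1 : K) - single j i 1) * Dᵀ :=
    fun i j => by
      have h1 := congrArg Matrix.transpose (sub_eq_zero.1 (h _ (halt j i)).2.1)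
      simp only [Matrix.transpose_mul, Matrix.transpose_sub, Matrix.transpose_single] at h1
      exact h1
  have hdiag : ∀ i k, k ≠ i → A i k = 0 := fun i k hki => by
    obtain ⟨j, hji, hjk⟩ := third i k
    have := congrFun (congrFun (hcom i j) k) j
    simpa [sub_mul, mul_sub, hki, Ne.symm hki, hji, Ne.symm hji, hjk, Ne.symm hjk,
      Matrix.single_mul_apply_of_ne] using this
  have hrel : ∀ i j, i ≠ j → A i i = D j j := fun i j hij => by
    have := congrFun (congrFun (hcom i j) i) j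
    simpa [sub_mul, mul_sub, hij, Ne.symm hij] using this
  haveI : NeZero m := ⟨by omega⟩
  have hconst : ∀ i, A i i = A 0 0 := fun i => by
    obtain ⟨j, hji, hj0⟩ := third i 0
    rw [hrel i j (Ne.symm hji), hrel 0 j (Ne.symm hj0)]
  set μ := A 0 0 with hμ
  have hA' : A = μ • 1 := Matrix.ext fun i j => by
    rcases eq_or_ne i j with rfl | hij
    · simp [hconst i]
    · simp [hdiag i j (Ne.symm hij), hij]
  have h0 : μ ≠ 0 := fun h0 => by
    rw [hA', h0, zero_smul, Matrix.transpose_zero, zero_mul] at hAD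
    exact zero_ne_one (congrFun (congrFun hAD 0) 0 |>.trans (Matrix.one_apply_eq 0))
  have hD' : D = μ • 1 := Matrix.ext fun i j => by
    rcases eq_or_ne i j with rfl | hij
    · obtain ⟨j, hji, -⟩ := third i i
      simp [← hrel j i hji, hconst j]
    · rw [hA', Matrix.transpose_smul, Matrix.transpose_one, smul_mul_assoc, one_mul] at hAD
      have := congrFun (congrFun hAD i) j
      simp [hij, h0] at this
      simp [this, hij]
  have hf : f = 0 := funext fun i => by
    have := h4 (Pi.single i 1)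
    simp only [hA', Matrix.zero_mulVec, Matrix.smul_mulVec, Matrix.one_mulVec, dotProduct_zero, zero_dotProduct,
      zero_add, mul_zero] at this
    simpa [h0] using this
  have he : e = 0 := funext fun i => by
    have := h5 (Pi.single i 1)
    simp only [hD', Matrix.zero_mulVec, Matrix.smul_mulVec, Matrix.one_mulVec, dotProduct_zero, zero_dotProduct,
      zero_add, add_zero, mul_zero] at this
    simpa [h0] using this
  subst hf he
  rw [hA', hD'] at hg
  clear_value μ
  -- the middle entry agrees with the scalar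
  have hb : IsSq3 (Pi.single 0 (1 : K)) (-vecMulVec (Pi.single (0 : Fin m) (1 : K)) (Pi.single 0 1)) := isSq3_square _
  let l : ↥(omO m K) := ⟨_, (upO_mem_omO hK).2.2 hb⟩
  obtain ⟨hp, -⟩ := hall (l * g * l⁻¹) _ _ _ _ _ _ _ _ _ (isConj_iff.2 ⟨_, rfl⟩) (by
    rw [Subgroup.coe_mul, Subgroup.coe_mul, InvMemClass.coe_inv, Units.val_mul, Units.val_mul, hg]
    simp only [l, coe_loO, coe_loO_inv, mk3_mul]
    rfl)
  have ha : a = μ := by
    have := congrFun hp 0
    simp at this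
    linear_combination -this
  refine hns ⟨μ, ?_⟩
  rw [hg, ha]
  ext i j
  rcases i with u | i | i <;> rcases j with u' | j | j <;> simp [mk3, Matrix.one_apply]

theorem oo_conj_corner [Fintype K] (hK : 4 ≤ Fintype.card K) (hm : 3 ≤ m) (h2 : (2 : K) ≠ 0) {g : ↥(omO m K)}
    (hns : ¬ ∃ c : K, ((g : GL (OI m) K) : Matrix (OI m) (OI m) K) = c • 1) :
    ∃ (g' : ↥(omO m K)) (a : K) (p q e f : Fin m → K) (A B C D : Matrix (Fin m) (Fin m) K), IsConj g g' ∧
      ((g' : GL (OI m) K) : Matrix (OI m) (OI m) K) = mk3 a p q e f A B C D ∧ (p ≠ 0 ∨ C ≠ 0) ∧ IsUnit A.det := by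
  classical
  suffices h : ∀ (n : ℕ) (g₁ : ↥(omO m K)) (a : K) (p q e f : Fin m → K) (A B C D : Matrix (Fin m) (Fin m) K),
      IsConj g g₁ → ((g₁ : GL (OI m) K) : Matrix (OI m) (OI m) K) = mk3 a p q e f A B C D → (p ≠ 0 ∨ C ≠ 0) →
      m ≤ A.rank + n →
      ∃ (g' : ↥(omO m K)) (a : K) (p q e f : Fin m → K) (A B C D : Matrix (Fin m) (Fin m) K), IsConj g g' ∧
        ((g' : GL (OI m) K) : Matrix (OI m) (OI m) K) = mk3 a p q e f A B C D ∧ (p ≠ 0 ∨ C ≠ 0) ∧ IsUnit A.det by
    obtain ⟨g₁, a, p, q, e, f, A, B, C, D, hc, hg, hC⟩ := oo_conj_lower hK hm h2 hns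
    exact h m g₁ a p q e f A B C D hc hg hC (Nat.le_add_left _ _)
  intro n
  induction n using Nat.strong_induction_on with
  | h n ih =>
    intro g₁ a p q e f A B C D hc hg hC hn
    by_cases hu : IsUnit A.det
    · exact ⟨g₁, a, p, q, e, f, A, B, C, D, hc, hg, hC, hu⟩
    obtain ⟨x, hx0, hAx⟩ := Matrix.exists_mulVec_eq_zero_iff.2 (by rwa [isUnit_iff_ne_zero, not_not] at hu)
    obtain ⟨h1, -⟩ := iso3_blocks hg (omO_le g₁.2)
    have hpx : p ⬝ᵥ x = 0 := by simpa [hAx] using h1 x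
    have hCx : C *ᵥ x ≠ 0 := fun h0 => hx0 (by
      have e1 : mk3 a p q e f A B C D *ᵥ vec3 0 x 0 = 0 := by
        rw [mk3_mulVec]
        funext i; rcases i with i | i | i <;> simp [vec3, hAx, h0, hpx]
      rw [← hg] at e1
      have e2 : vec3 (0 : K) x 0 = 0 := by
        rw [← inv_act (g₁ : GL (OI m) K) (vec3 0 x 0), e1, Matrix.mulVec_zero]
      exact funext fun i => congrFun e2 (Sum.inr (Sum.inl i)))
    have hcross : ∀ z, (A *ᵥ z) ⬝ᵥ (C *ᵥ x) = 0 := fun z => by
      have := h1 (z + x)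
      simp [Matrix.mulVec_add, hAx, hpx, dotProduct_add] at this
      linear_combination this - h1 z
    obtain ⟨i, hi⟩ := Function.ne_iff.1 hCx
    set b : Fin m → K := ((C *ᵥ x) i)⁻¹ • Pi.single i 1 with hb
    have hbx : b ⬝ᵥ C *ᵥ x = 1 := by simp [hb, inv_mul_cancel₀ hi]
    let s : ↥(omO m K) := ⟨_, (upO_mem_omO hK).1.2 (isSq3_square b)⟩
    obtain ⟨a', q', e', f', B', D', h'⟩ := conj_upO b (-vecMulVec b b) hg
    have hlt : A.rank < (A - (2 : K) • vecMulVec b p + -vecMulVec b b * C).rank := by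
      set A₁ := A - (2 : K) • vecMulVec b p + -vecMulVec b b * C with hA₁
      have hz : ∀ z, A₁ *ᵥ z = A *ᵥ z - ((2 : K) * (p ⬝ᵥ z) + b ⬝ᵥ C *ᵥ z) • b := fun z => by
        rw [hA₁, Matrix.add_mulVec, Matrix.sub_mulVec, Matrix.smul_mulVec, Matrix.neg_mul, Matrix.neg_mulVec,
          ← Matrix.mulVec_mulVec, Matrix.vecMulVec_mulVec, Matrix.vecMulVec_mulVec]
        simp [add_smul, smul_smul]
        abel
      have hb1 : b ∈ LinearMap.range A₁.mulVecLin :=
        ⟨-x, by rw [Matrix.mulVecLin_apply, Matrix.mulVec_neg, hz, hAx, hpx, hbx]; simp⟩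
      refine rank_lt_of_image (fun z => ?_) hb1 ?_
      · rw [show A *ᵥ z = A₁ *ᵥ z + ((2 : K) * (p ⬝ᵥ z) + b ⬝ᵥ C *ᵥ z) • b by rw [hz]; abel]
        exact Submodule.add_mem _ ⟨z, rfl⟩ (Submodule.smul_mem _ _ hb1)
      · rintro ⟨z, hz'⟩
        have := hcross z
        rw [show A *ᵥ z = b from hz', hbx] at this
        exact one_ne_zero this
    refine ih (n - 1) (by
      have h1 := (A - (2 : K) • vecMulVec b p + -vecMulVec b b * C).rank_le_height
      omega) (s * g₁ * s⁻¹) a' _ q' e' f' _ B' C D' (hc.trans (isConj_iff.2 ⟨s, rfl⟩))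
        ((congrArg Units.val (show ((s * g₁ * s⁻¹ : ↥(omO m K)) : GL (OI m) K)
          = upO b (-vecMulVec b b) * (g₁ : GL (OI m) K) * (upO b (-vecMulVec b b))⁻¹ by
            simp only [Subgroup.coe_mul, InvMemClass.coe_inv, s])).trans h') ?_ (by omega)
    exact Or.inr fun h => hCx (by rw [h, Matrix.zero_mulVec])

theorem oo_det_any (hm : 1 ≤ m) {r : Fin m → K} {T : Matrix (Fin m) (Fin m) K} (hrT : IsSq3 r T) (h0 : r ≠ 0 ∨ T ≠ 0)
    (s : K) : ∃ b S, IsSq3 b S ∧ (1 - (2 : K) • vecMulVec b r + S * T).det = s * s := by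
  by_cases hr : r = 0
  · subst hr
    obtain ⟨S, hS, hd⟩ := op_det_any (isSq3_alt.1 hrT) (h0.resolve_left fun h => h rfl) s
    exact ⟨0, S, isSq3_alt.2 hS, by simpa using hd⟩
  obtain ⟨i, hi⟩ := Function.ne_iff.1 hr
  set b : Fin m → K := ((1 - s) / r i) • Pi.single i 1 with hb
  refine ⟨b, _, isSq3_square b, ?_⟩
  have e : 1 - (2 : K) • vecMulVec b r + -vecMulVec b b * T
      = 1 + (vecMulVec b (-((2 : K) • r) - b ᵥ* T) + vecMulVec (0 : Fin m → K) 0) := by
    rw [Matrix.neg_mul, Matrix.vecMulVec_mul]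
    ext k l; simp [vecMulVec_apply]; ring
  have hbr : b ⬝ᵥ r = 1 - s := by simp [hb, div_mul_cancel₀ _ hi]
  have hq := hrT b
  rw [Matrix.dotProduct_mulVec, dotProduct_comm r, hbr] at hq
  rw [e, det_plane, sub_dotProduct, neg_dotProduct, smul_dotProduct, dotProduct_comm r, hbr, hq]
  simp
  ring

theorem oo_nonscalar [Fintype K] (hm : 3 ≤ m) (h2 : (2 : K) ≠ 0) {r : Fin m → K} {T : Matrix (Fin m) (Fin m) K}
    (hrT : IsSq3 r T) (h0 : r ≠ 0 ∨ T ≠ 0) :
    ∃ b S, IsSq3 b S ∧ (1 - (2 : K) • vecMulVec b r + S * T).det = 1 ∧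
      ∀ c : K, -((2 : K) • vecMulVec b r) + S * T ≠ c • 1 := by
  by_cases hr : r = 0
  · subst hr
    obtain ⟨S, hS, hd, hns⟩ := op_nonscalar hm (isSq3_alt.1 hrT) (h0.resolve_left fun h => h rfl)
    exact ⟨0, S, isSq3_alt.2 hS, by simpa using hd, fun c => by simpa using hns c⟩
  obtain ⟨b₀, hb0, hbr⟩ : ∃ b : Fin m → K, b ≠ 0 ∧ b ⬝ᵥ r = 0 := by
    by_cases h : r ⟨0, by omega⟩ = 0
    · refine ⟨Pi.single ⟨0, by omega⟩ 1, fun hh => one_ne_zero (α := K) (by simpa using congrFun hh ⟨0, by omega⟩), by simp [h]⟩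
    · refine ⟨Pi.single ⟨0, by omega⟩ (r ⟨1, by omega⟩) - Pi.single ⟨1, by omega⟩ (r ⟨0, by omega⟩),
        fun hh => h ?_, by simp [sub_dotProduct]; ring⟩
      simpa [Fin.ext_iff] using congrFun hh ⟨1, by omega⟩
  obtain ⟨b, hb, hbr, hw⟩ : ∃ b : Fin m → K, b ≠ 0 ∧ b ⬝ᵥ r = 0 ∧ -((2 : K) • r) - b ᵥ* T ≠ 0 := by
    by_cases h : -((2 : K) • r) - b₀ ᵥ* T = 0
    swap
    · exact ⟨b₀, hb0, hbr, h⟩
    refine ⟨-b₀, neg_ne_zero.2 hb0, by rw [neg_dotProduct, hbr, neg_zero], fun h' => hr ?_⟩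
    rw [Matrix.neg_vecMul] at h'
    funext i
    have e1 := congrFun h i
    have e2 := congrFun h' i
    simp at e1 e2
    have : (2 * 2 : K) * r i = 0 := by linear_combination -e1 - e2
    exact (mul_eq_zero.1 this).resolve_left (mul_ne_zero h2 h2)
  have e : -((2 : K) • vecMulVec b r) + -vecMulVec b b * T = vecMulVec b (-((2 : K) • r) - b ᵥ* T) := by
    rw [Matrix.neg_mul, Matrix.vecMulVec_mul]
    ext k l; simp [vecMulVec_apply]; ring
  have hwb : (-((2 : K) • r) - b ᵥ* T) ⬝ᵥ b = 0 := by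
    have hq := hrT b
    rw [Matrix.dotProduct_mulVec, dotProduct_comm r, hbr] at hq
    rw [sub_dotProduct, neg_dotProduct, smul_dotProduct, dotProduct_comm r, hbr, hq]
    simp
  refine ⟨b, _, isSq3_square b, ?_, fun c hc => ?_⟩
  · rw [show 1 - (2 : K) • vecMulVec b r + -vecMulVec b b * T
        = 1 + (vecMulVec b (-((2 : K) • r) - b ᵥ* T) + vecMulVec (0 : Fin m → K) 0) by
      rw [← e]; simp; abel, det_plane, hwb]
    simp
  · rw [e] at hc
    have h1 := congrArg (· *ᵥ b) hc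
    simp only [Matrix.vecMulVec_mulVec, hwb, Matrix.smul_mulVec, Matrix.one_mulVec] at h1
    have hc0 : c = 0 := (smul_eq_zero.1 (by rw [← h1]; simp)).resolve_right hb
    subst hc0
    rw [zero_smul] at hc
    obtain ⟨i, hi⟩ := Function.ne_iff.1 hb
    obtain ⟨j, hj⟩ := Function.ne_iff.1 hw
    exact mul_ne_zero hi hj (congrFun (congrFun hc i) j)

end Cfsg.Lib.ClassSquare
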