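import Cfsg.Agent.Lib.ClassSquare.OOdd

/-!
# A class of the odd orthogonal group whose square is the whole group
-/

set_option autoImplicit false

namespace Cfsg.Lib.ClassSquare

open Matrix Cfsg.Lib.Linear.Orth Module
open scoped commutatorElement

variable {K : Type*} [Field K] {m : ℕ}

/-- An element with invertible corner and the expected factors is a pair of the class. -/
theorem isPair_lev3 [Finite K] (H : Subgroup (GL (OI m) K)) {X : GL (Fin m) K} (hX : lev3 m K X ∈ H)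
    (hCU : ∀ b S, upO b S ∈ H → (X : Matrix (Fin m) (Fin m) K) *ᵥ b = b →
      (X : Matrix (Fin m) (Fin m) K) * S * (X : Matrix (Fin m) (Fin m) K)ᵀ = S → b = 0 ∧ S = 0)
    (hCV : ∀ b S, loO b S ∈ H → (X : Matrix (Fin m) (Fin m) K)ᵀ *ᵥ b = b →
      (X : Matrix (Fin m) (Fin m) K)ᵀ * S * (X : Matrix (Fin m) (Fin m) K) = S → b = 0 ∧ S = 0)
    {M : ↥H} {A x y : GL (Fin m) K} {r b : Fin m → K} {T S : Matrix (Fin m) (Fin m) K} (hP : loO r T ∈ H)
    (hQ : upO b S ∈ H) (hx : lev3 m K x ∈ H) (hy : lev3 m K y ∈ H) (hA : A = (x * X * x⁻¹) * (y * X * y⁻¹)⁻¹)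
    (hM : (M : GL (OI m) K) = loO r T * lev3 m K A * upO b S) : IsPair (⟨_, hX⟩ : ↥H) M := by
  classical
  haveI := Fintype.ofFinite K
  let c : ↥H := ⟨_, hX⟩
  have hU : ∀ {A : GL (Fin m) K} (hA : lev3 m K A ∈ H) {u : ↥H}, u ∈ (upOSub m K).subgroupOf H →
      (⟨_, hA⟩ : ↥H) * u * (⟨_, hA⟩ : ↥H)⁻¹ ∈ (upOSub m K).subgroupOf H := fun {A} hA {u} hu => by
    obtain ⟨b, S, hS⟩ := Subgroup.mem_subgroupOf.1 hu
    refine Subgroup.mem_subgroupOf.2 ⟨(A : Matrix (Fin m) (Fin m) K) *ᵥ b,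
      (A : Matrix (Fin m) (Fin m) K) * S * (A : Matrix (Fin m) (Fin m) K)ᵀ, ?_⟩
    rw [Subgroup.coe_mul, Subgroup.coe_mul, InvMemClass.coe_inv, hS]
    exact lev3_up A b S
  have hV : ∀ {A : GL (Fin m) K} (hA : lev3 m K A ∈ H) {u : ↥H}, u ∈ (loOSub m K).subgroupOf H →
      (⟨_, hA⟩ : ↥H) * u * (⟨_, hA⟩ : ↥H)⁻¹ ∈ (loOSub m K).subgroupOf H := fun {A} hA {u} hu => by
    obtain ⟨b, S, hS⟩ := Subgroup.mem_subgroupOf.1 hu
    refine Subgroup.mem_subgroupOf.2 ⟨((A⁻¹ : GL (Fin m) K) : Matrix (Fin m) (Fin m) K)ᵀ *ᵥ b,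
      ((A⁻¹ : GL (Fin m) K) : Matrix (Fin m) (Fin m) K)ᵀ * S * ((A⁻¹ : GL (Fin m) K) : Matrix (Fin m) (Fin m) K), ?_⟩
    rw [Subgroup.coe_mul, Subgroup.coe_mul, InvMemClass.coe_inv, hS]
    exact lev3_lo A b S
  have hcU : ∀ n ∈ (upOSub m K).subgroupOf H, c * n = n * c → n = 1 := fun n hn h => by
    obtain ⟨b, S, hS⟩ := Subgroup.mem_subgroupOf.1 hn
    have h' := congrArg Subtype.val h
    rw [Subgroup.coe_mul, Subgroup.coe_mul, hS] at h'
    have h'' : lev3 m K X * upO b S * (lev3 m K X)⁻¹ = upO b S := mul_inv_eq_iff_eq_mul.2 h'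
    rw [lev3_up] at h''
    obtain ⟨e1, e2⟩ := upO_injective h''
    obtain ⟨hb, hS0⟩ := hCU b S (by rw [← hS]; exact n.2) e1 e2
    exact Subtype.ext (by rw [hS, hb, hS0, upO_zero]; rfl)
  have hcV : ∀ n ∈ (loOSub m K).subgroupOf H, c * n = n * c → n = 1 := fun n hn h => by
    obtain ⟨b, S, hS⟩ := Subgroup.mem_subgroupOf.1 hn
    have h' := congrArg Subtype.val h
    rw [Subgroup.coe_mul, Subgroup.coe_mul, hS] at h'
    have h'' : lev3 m K X * loO b S * (lev3 m K X)⁻¹ = loO b S := mul_inv_eq_iff_eq_mul.2 h'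
    rw [lev3_lo] at h''
    obtain ⟨e1, e2⟩ := loO_injective h''
    have hi : ((X⁻¹ : GL (Fin m) K) : Matrix (Fin m) (Fin m) K) * (X : Matrix (Fin m) (Fin m) K) = 1 := X.inv_mul
    obtain ⟨hb, hS0⟩ := hCV b S (by rw [← hS]; exact n.2) (by
      conv_lhs => rw [← e1]
      rw [Matrix.mulVec_mulVec, ← Matrix.transpose_mul, hi, Matrix.transpose_one, Matrix.one_mulVec]) (by
      conv_lhs => rw [← e2]
      simp only [← Matrix.mul_assoc, ← Matrix.transpose_mul]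
      rw [Matrix.mul_assoc, hi, Matrix.transpose_one, one_mul, mul_one])
    exact Subtype.ext (by rw [hS, hb, hS0, loO_zero]; rfl)
  let v : ↥H := ⟨_, hP⟩
  let u : ↥H := ⟨_, hQ⟩
  let x' : ↥H := ⟨_, hx⟩
  let y' : ↥H := ⟨_, hy⟩
  have hv : x'⁻¹ * v * x' ∈ (loOSub m K).subgroupOf H := by
    have := hV (A := x⁻¹) (by rw [map_inv]; exact inv_mem hx) (u := v)
      (Subgroup.mem_subgroupOf.2 ⟨r, T, rfl⟩)
    convert this using 1
    exact Subtype.ext (by simp [x'])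
  have hu : y'⁻¹ * u⁻¹ * y' ∈ (upOSub m K).subgroupOf H := by
    have := hU (A := y⁻¹) (by rw [map_inv]; exact inv_mem hy) (u := u⁻¹)
      (inv_mem (Subgroup.mem_subgroupOf.2 ⟨b, S, rfl⟩))
    convert this using 1
    exact Subtype.ext (by simp [y'])
  obtain ⟨a, b', ha, hb, e⟩ := prod_form (fun w hw => hU hX hw) hcU (fun w hw => hV hX hw) hcV hv hu
  refine ⟨a, b', ha, hb, ?_⟩
  rw [← e]
  refine Subtype.ext ?_
  simp [hM, hA, v, u, x', y', c]

theorem fixed_vec_zero {X : Matrix (Fin m) (Fin m) K} {b : Fin m → K} {N : ℕ} {d : Fin m → K}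
    (hX : X ^ N = diagonal d) (h : X *ᵥ b = b) (hd : ∀ i, d i ≠ 1) : b = 0 := by
  have hp : ∀ n : ℕ, X ^ n *ᵥ b = b := fun n => by
    induction n with
    | zero => simp
    | succ n ih => rw [pow_succ, ← Matrix.mulVec_mulVec, h, ih]
  funext i
  have h1 := congrFun (hp N) i
  rw [hX, Matrix.mulVec_diagonal] at h1
  by_contra h0
  exact hd i (mul_right_cancel₀ h0 (by rw [one_mul]; exact h1))

/-- The two reflections in a hyperbolic plane and the middle line, multiplied. -/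
def w0M (i₀ : Fin m) : Matrix (OI m) (OI m) K :=
  mk3 (-1) 0 0 0 0 (1 - single i₀ i₀ 1) (-single i₀ i₀ 1) (-single i₀ i₀ 1) (1 - single i₀ i₀ 1)

theorem w0_mem (h2 : (2 : K) ≠ 0) (i₀ : Fin m) :
    ∃ w : GL (OI m) K, (w : Matrix (OI m) (OI m) K) = w0M i₀ ∧ w ∈ omO m K := by
  classical
  set E : Matrix (Fin m) (Fin m) K := single i₀ i₀ 1 with hE
  set u : Fin m → K := Pi.single i₀ 1 with hu
  have huu : vecMulVec u u = E := by rw [hE, hu, Matrix.single_eq_single_vecMulVec_single]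
  have hdot : u ⬝ᵥ u = 1 := by simp [hu]
  have hEx : ∀ x : Fin m → K, E *ᵥ x = x i₀ • u := fun x => by
    rw [← huu, Matrix.vecMulVec_mulVec]; simp [hu]
  have hui : u i₀ = 1 := by simp [hu]
  have huE : u ᵥ* E = u := by rw [← huu, Matrix.vecMul_vecMulVec, hdot, one_smul]
  have hEE : E * E = E := by rw [hE, Matrix.single_mul_single_same, mul_one]
  obtain ⟨h, hh2⟩ : ∃ h : K, h + h = 1 := ⟨(2 : K)⁻¹, by rw [← two_mul, mul_inv_cancel₀ h2]⟩
  set σM : Matrix (OI m) (OI m) K := mk3 0 (h • u) (h • u) u u (1 - h • E) (-(h • E)) (-(h • E)) (1 - h • E) with hσ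
  have hσσ : σM * σM = 1 := by
    rw [hσ, mk3_mul, ← mk3_one]
    congr 1
    all_goals simp only [smul_dotProduct, hdot, smul_eq_mul, mul_zero, Matrix.vecMulVec_smul, huu, Matrix.sub_mulVec,
      Matrix.neg_mulVec, Matrix.smul_mulVec, Matrix.one_mulVec, hEx, hui, one_smul, zero_smul, Matrix.vecMul_sub,
      Matrix.vecMul_neg, Matrix.smul_vecMul, Matrix.vecMul_smul, Matrix.vecMul_one, huE, sub_mul, mul_sub, neg_mul,
      mul_neg, one_mul, mul_one, smul_mul_assoc, mul_smul_comm, hEE, neg_neg, zero_add]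
    all_goals try (linear_combination hh2; done)
    all_goals try match_scalars
    all_goals first
      | linear_combination (0 : K) * hh2 | linear_combination hh2 | linear_combination (-1 : K) * hh2 | linear_combination h * hh2
      | linear_combination (-h) * hh2 | linear_combination (2 * h) * hh2 | linear_combination (-2 * h) * hh2
  let σ : GL (OI m) K := ⟨σM, σM, hσσ, hσσ⟩
  let rz : GL (OI m) K :=
    { val := mk3 (-1) 0 0 0 0 1 0 0 1
      inv := mk3 (-1) 0 0 0 0 1 0 0 1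
      val_inv := by rw [mk3_mul, ← mk3_one]; congr 1 <;> simp
      inv_val := by rw [mk3_mul, ← mk3_one]; congr 1 <;> simp }
  have hσm : σ ∈ isometryGroup K (Cfsg.quadFormOdd m K) := mem_iso.2 fun v => by
    rw [vec3_eta v, show (σ : Matrix (OI m) (OI m) K) = σM from rfl, hσ, mk3_mulVec, quadOdd_vec3, quadOdd_vec3]
    set z := v (Sum.inl ())
    set x : Fin m → K := fun i => v (Sum.inr (Sum.inl i))
    set y : Fin m → K := fun i => v (Sum.inr (Sum.inr i))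
    have hux : ∀ w : Fin m → K, u ⬝ᵥ w = w i₀ := fun w => by simp [hu]
    have hxu : ∀ w : Fin m → K, w ⬝ᵥ u = w i₀ := fun w => by simp [hu]
    simp only [Matrix.sub_mulVec, Matrix.neg_mulVec, Matrix.smul_mulVec, Matrix.one_mulVec, hEx, zero_mul, zero_add,
      smul_dotProduct, add_dotProduct, dotProduct_add, sub_dotProduct, dotProduct_sub, neg_dotProduct, dotProduct_neg,
      dotProduct_smul, smul_eq_mul, hux, hxu, hui, hdot, Pi.add_apply, Pi.sub_apply, Pi.smul_apply, Pi.neg_apply]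
    linear_combination ((h * (x i₀ + y i₀) - z) * (x i₀ + y i₀)) * hh2
  have hrm : rz ∈ isometryGroup K (Cfsg.quadFormOdd m K) := mem_iso.2 fun v => by
    rw [vec3_eta v, show (rz : Matrix (OI m) (OI m) K) = mk3 (-1) 0 0 0 0 1 0 0 1 from rfl, mk3_mulVec,
      quadOdd_vec3, quadOdd_vec3]
    simp
  refine ⟨⁅σ, rz⁆, ?_, comm_mem_omO hσm hrm⟩
  rw [commutatorElement_def, show σ⁻¹ = σ from Units.ext rfl, show rz⁻¹ = rz from Units.ext rfl, Units.val_mul,
    Units.val_mul, Units.val_mul]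
  show σM * mk3 (-1) 0 0 0 0 1 0 0 1 * σM * mk3 (-1) 0 0 0 0 1 0 0 1 = _
  rw [hσ, w0M, mk3_mul, mk3_mul, mk3_mul]
  congr 1
  all_goals simp only [smul_dotProduct, hdot, smul_eq_mul, dotProduct_zero, zero_dotProduct, Matrix.vecMulVec_smul,
    huu, Matrix.sub_mulVec, Matrix.neg_mulVec, Matrix.smul_mulVec, Matrix.one_mulVec, Matrix.zero_mulVec,
    Matrix.mulVec_zero, Matrix.vecMulVec_zero, Matrix.zero_vecMulVec, hEx, hui, one_smul, zero_smul, smul_zero,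
    Matrix.vecMul_sub, Matrix.vecMul_neg, Matrix.smul_vecMul, Matrix.vecMul_zero, Matrix.zero_vecMul,
    Matrix.vecMul_smul, Matrix.vecMul_one, Matrix.smul_vecMulVec, Matrix.neg_vecMulVec, huE, sub_mul, mul_sub,
    neg_mul, mul_neg, one_mul, mul_one, mul_zero, zero_mul, smul_mul_assoc, mul_smul_comm, hEE, neg_neg, zero_add,
    add_zero, sub_zero, neg_zero, ← hE, smul_smul, neg_smul, smul_neg]
  all_goals try (linear_combination (-1 : K) * hh2; done)
  all_goals try match_scalars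
  all_goals first
    | linear_combination (0 : K) * hh2 | linear_combination hh2 | linear_combination (-1 : K) * hh2 | linear_combination h * hh2
    | linear_combination (-h) * hh2 | linear_combination (2 * h) * hh2 | linear_combination (-2 * h) * hh2
    | linear_combination (h - 1) * hh2 | linear_combination (1 - h) * hh2

set_option synthInstance.maxHeartbeats 400000 in
set_option maxHeartbeats 2000000 in
/-- A class of the odd `PΩ` whose square is everything. -/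
theorem pomega_odd_square [Fintype K] (hK : 9 ≤ Fintype.card K) (hodd : Odd (Fintype.card K)) {k : ℕ}
    (hm : 3 ≤ k + 1) : ∃ c : Cfsg.POmega K (Cfsg.quadFormOdd (k + 1) K), ∀ g : Cfsg.POmega K (Cfsg.quadFormOdd (k + 1) K),
      ∃ x y : Cfsg.POmega K (Cfsg.quadFormOdd (k + 1) K), g = (x * c * x⁻¹) * (y * c * y⁻¹) := by
  classical
  have h2 := two_ne_zero_of_odd_card hodd
  obtain ⟨p, hp⟩ := CharP.exists K
  haveI : Fact p.Prime := ⟨(CharP.char_is_prime_or_zero K p).resolve_right (CharP.char_ne_zero_of_finite K p)⟩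
  -- the two eigenvalues
  obtain ⟨ζ, η, hζ, hη, hζη, hζη', hsq⟩ : ∃ ζ η : Kˣ, (ζ : K) ^ 2 ≠ 1 ∧ (η : K) ^ 2 ≠ 1 ∧ (ζ : K) * η ≠ 1 ∧
      ((ζ * η⁻¹ : Kˣ) : K) ^ 2 ≠ 1 ∧ IsSquare ((η : K) * (ζ : K) ^ k) := by
    obtain ⟨w, hw⟩ := IsCyclic.exists_ofOrder_eq_natCard (α := Kˣ)
    rw [Nat.card_eq_fintype_card, Fintype.card_units] at hw
    have hne : ∀ n : ℕ, 0 < n → n < 8 → w ^ n ≠ 1 := fun n h0 h8 h => by
      have := orderOf_le_of_pow_eq_one h0 h
      omega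
    have hne' : ∀ n : ℕ, 0 < n → n < 8 → (w : K) ^ n ≠ 1 := fun n h0 h8 h =>
      hne n h0 h8 (Units.ext (by rw [Units.val_pow_eq_pow_val, h, Units.val_one]))
    obtain ⟨e, he2, he3, hev⟩ : ∃ e, 2 ≤ e ∧ e ≤ 3 ∧ Even (e + k) := by
      rcases Nat.even_or_odd k with ⟨a, ha⟩ | ⟨a, ha⟩
      exacts [⟨2, le_rfl, by norm_num, ⟨a + 1, by omega⟩⟩, ⟨3, by norm_num, le_rfl, ⟨a + 2, by omega⟩⟩]
    refine ⟨w, w ^ e, hne' 2 (by norm_num) (by norm_num), ?_, ?_, ?_, ?_⟩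
    · rw [Units.val_pow_eq_pow_val, ← pow_mul]; exact hne' _ (by omega) (by omega)
    · rw [Units.val_pow_eq_pow_val, ← pow_succ']; exact hne' _ (by omega) (by omega)
    · intro h
      refine hne' (2 * (e - 1)) (by omega) (by omega) ?_
      have e1 : w * (w ^ e)⁻¹ = (w ^ (e - 1))⁻¹ := by
        rw [eq_inv_iff_mul_eq_one, mul_assoc, inv_mul_eq_div, ← mul_div_assoc, ← pow_succ',
          Nat.sub_add_cancel (by omega), div_self']
      rw [e1, Units.val_inv_eq_inv_val, inv_pow, inv_eq_one, Units.val_pow_eq_pow_val, ← pow_mul, mul_comm] at h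
      exact h
    · obtain ⟨a, ha⟩ := hev
      exact ⟨(w : K) ^ a, by rw [Units.val_pow_eq_pow_val, ← pow_add, ← pow_add, ha]⟩
  set ξ : Kˣ := ζ * η⁻¹ with hξ
  obtain ⟨N, hN⟩ := jGL_pow (K := K) (n := k) p
  set X : GL (Fin (k + 1)) K := scGL (k + 1) ζ * cMid k ξ with hX
  have hXb : X = bord η (scGL k ζ * jGL k K) := by
    refine Units.ext ?_
    rw [hX, Units.val_mul, coe_scGL, cMid, coe_bord, smul_mul_assoc, one_mul, coe_bord, Units.val_mul, coe_scGL,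
      smul_mul_assoc, one_mul]
    refine bmat_ext ?_ (fun j => ?_) (fun i => ?_) fun i j => ?_
    · simp [hξ]; field_simp
    all_goals simp
  have hpow : (X : Matrix (Fin (k + 1)) (Fin (k + 1)) K) ^ p ^ N
      = diagonal (Fin.cases ((η : K) ^ p ^ N) fun _ => (ζ : K) ^ p ^ N) := by
    rw [← Units.val_pow_eq_pow_val, hXb, bord, ← map_pow bordHom, Prod.pow_mk, (scGL_commute k ζ _).mul_pow, hN,
      mul_one]
    ext i j
    rcases Fin.eq_zero_or_eq_succ i with rfl | ⟨i, rfl⟩ <;> rcases Fin.eq_zero_or_eq_succ j with rfl | ⟨j, rfl⟩ <;>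
      simp [bordHom, coe_scGL, smul_pow, Matrix.one_apply, Matrix.diagonal_apply, (Fin.succ_ne_zero _).symm,
        Fin.succ_ne_zero]
  have q1 : (ζ : K) ^ p ^ N ≠ 1 := pow_char_ne_one (fun h => hζ (by rw [h, one_pow])) N
  have q2 : (η : K) ^ p ^ N ≠ 1 := pow_char_ne_one (fun h => hη (by rw [h, one_pow])) N
  have q11 : (ζ : K) ^ p ^ N * (ζ : K) ^ p ^ N ≠ 1 := by rw [← mul_pow]; exact pow_char_ne_one (by rwa [← sq]) N
  have q22 : (η : K) ^ p ^ N * (η : K) ^ p ^ N ≠ 1 := by rw [← mul_pow]; exact pow_char_ne_one (by rwa [← sq]) N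
  have q12 : (ζ : K) ^ p ^ N * (η : K) ^ p ^ N ≠ 1 := by rw [← mul_pow]; exact pow_char_ne_one hζη N
  have hd1 : ∀ i : Fin (k + 1), (Fin.cases ((η : K) ^ p ^ N) (fun _ => (ζ : K) ^ p ^ N) i : K) ≠ 1 := fun i => by
    rcases Fin.eq_zero_or_eq_succ i with rfl | ⟨i, rfl⟩ <;> simp [q1, q2]
  have hd2 : ∀ i j : Fin (k + 1), (Fin.cases ((η : K) ^ p ^ N) (fun _ => (ζ : K) ^ p ^ N) i : K)
      * Fin.cases ((η : K) ^ p ^ N) (fun _ => (ζ : K) ^ p ^ N) j ≠ 1 := fun i j => by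
    rcases Fin.eq_zero_or_eq_succ i with rfl | ⟨i, rfl⟩ <;> rcases Fin.eq_zero_or_eq_succ j with rfl | ⟨j, rfl⟩ <;>
      simp [q11, q22, q12, mul_comm ((η : K) ^ p ^ N) ((ζ : K) ^ p ^ N)]
  have hK4 : 4 ≤ Fintype.card K := by omega
  have hXm : lev3 (k + 1) K X ∈ omO (k + 1) K := lev3_mem hK4 (by omega) (by
    rw [hXb, coe_bord, det_bmat_low, Units.val_mul, coe_scGL, Matrix.det_mul, coe_jGL, det_jmat, mul_one,
      Matrix.det_smul, Matrix.det_one, mul_one, Fintype.card_fin]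
    exact hsq)
  have one_lev : ∀ x : GL (Fin (k + 1)) K, (x : Matrix (Fin (k + 1)) (Fin (k + 1)) K).det = 1 →
      lev3 (k + 1) K x ∈ omO (k + 1) K := fun x h => lev3_mem hK4 (by omega) (h ▸ IsSquare.one)
  let H := omO (k + 1) K
  let c : ↥H := ⟨_, hXm⟩
  let e : ↥(Cfsg.Omega K (Cfsg.quadFormOdd (k + 1) K)) ≃* ↥H :=
    Subgroup.equivMapOfInjective _ _ (Subgroup.subtype_injective _)
  let π : ↥H →* Cfsg.POmega K (Cfsg.quadFormOdd (k + 1) K) := (QuotientGroup.mk' _).comp e.symm.toMonoidHom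
  have hπ : ∀ {g : ↥H} {r : K}, ((g : GL (OI (k + 1)) K) : Matrix (OI (k + 1)) (OI (k + 1)) K) = r • 1 → π g = 1 :=
    fun {g r} hg => by
    obtain ⟨s, rfl⟩ := e.surjective g
    refine (QuotientGroup.eq_one_iff _).2 ?_
    show e.symm (e s) ∈ _
    rw [e.symm_apply_apply, Subgroup.mem_center_iff]
    intro t
    refine Subtype.ext (Subtype.ext (Units.ext ?_))
    have hg' : ((s : ↥(isometryGroup K (Cfsg.quadFormOdd (k + 1) K))) : GL (OI (k + 1)) K).val = r • 1 := hg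
    simp only [Subgroup.coe_mul, Units.val_mul, hg', mul_smul_comm, mul_one, smul_mul_assoc, one_mul]
  have hps : Function.Surjective π := (QuotientGroup.mk'_surjective _).comp e.symm.surjective
  -- conjugators of determinant one
  have fix1 : ∀ {b : GL (Fin (k + 1)) K}, IsConj (cMid k ξ) b → ∃ x : GL (Fin (k + 1)) K,
      (x : Matrix (Fin (k + 1)) (Fin (k + 1)) K).det = 1 ∧ x * cMid k ξ * x⁻¹ = b := fun {b} hb => by
    obtain ⟨x, hx⟩ := isConj_iff.1 hb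
    set d : Kˣ := Matrix.GeneralLinearGroup.det x
    have hD : Commute (bord d⁻¹ (1 : GL (Fin k) K)) (cMid k ξ) := by
      show bordHom (d⁻¹, 1) * bordHom (ξ⁻¹, jGL k K) = bordHom (ξ⁻¹, jGL k K) * bordHom (d⁻¹, 1)
      rw [← map_mul, ← map_mul, Prod.mk_mul_mk, Prod.mk_mul_mk, mul_comm d⁻¹, one_mul, mul_one]
    refine ⟨x * bord d⁻¹ 1, ?_, ?_⟩
    · rw [Units.val_mul, Matrix.det_mul, coe_bord, det_bmat_low, Units.val_one, Matrix.det_one, mul_one]
      exact d.mul_inv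
    · rw [← hx, _root_.mul_inv_rev, mul_assoc x, hD.eq]
      group
  refine square_of_cover π hps (c := c) ?_ fun g => ?_
  · rw [← map_inv]
    refine π.map_isConj ?_
    obtain ⟨P₀, hP₀⟩ := exists_transpose_conj (K := K) k
    set P : GL (Fin (k + 1)) K := bord (Matrix.GeneralLinearGroup.det P₀)⁻¹ P₀ with hP
    have hPd : (P : Matrix (Fin (k + 1)) (Fin (k + 1)) K).det = 1 := by
      rw [hP, coe_bord, det_bmat_low]
      exact (Matrix.GeneralLinearGroup.det P₀).inv_mul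
    have hx : (X : Matrix (Fin (k + 1)) (Fin (k + 1)) K)ᵀ * (P : Matrix (Fin (k + 1)) (Fin (k + 1)) K)
        = (P : Matrix (Fin (k + 1)) (Fin (k + 1)) K) * (X : Matrix (Fin (k + 1)) (Fin (k + 1)) K) := by
      rw [hX, hP, Units.val_mul, coe_scGL, cMid, coe_bord, coe_bord]
      simp only [smul_mul_assoc, one_mul, Matrix.transpose_smul, mul_smul_comm]
      congr 1
      ext i j
      have hJ := fun a b => congrFun (congrFun hP₀ a) b
      simp only [Matrix.mul_apply] at hJ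
      rcases Fin.eq_zero_or_eq_succ i with rfl | ⟨i, rfl⟩ <;> rcases Fin.eq_zero_or_eq_succ j with rfl | ⟨j, rfl⟩ <;>
        simp [Matrix.mul_apply, Fin.sum_univ_succ, mul_comm]
      simpa [mul_comm] using (hJ i j).symm
    set xt := (X : Matrix (Fin (k + 1)) (Fin (k + 1)) K)ᵀ with hxt
    let Xt : GL (Fin (k + 1)) K := ⟨xt, ((X⁻¹ : GL (Fin (k + 1)) K) : Matrix (Fin (k + 1)) (Fin (k + 1)) K)ᵀ,
      by rw [hxt, ← Matrix.transpose_mul, X.inv_mul, Matrix.transpose_one],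
      by rw [hxt, ← Matrix.transpose_mul, X.mul_inv, Matrix.transpose_one]⟩
    have hPX : lev3 (k + 1) K P * lev3 (k + 1) K X * (lev3 (k + 1) K P)⁻¹ = lev3 (k + 1) K Xt := by
      rw [← map_inv, ← map_mul, ← map_mul]
      exact congrArg _ (mul_inv_eq_iff_eq_mul.2 (Units.ext hx.symm))
    -- a long element inside the group
    obtain ⟨σ, G, hG2, hGX, w, hwH, hwv⟩ : ∃ (σ : K) (G : Matrix (Fin (k + 1)) (Fin (k + 1)) K), G * G = 1 ∧
        (G * (X : Matrix (Fin (k + 1)) (Fin (k + 1)) K) = (X : Matrix (Fin (k + 1)) (Fin (k + 1)) K) * G ∧ Gᵀ = G) ∧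
        ∃ w : GL (OI (k + 1)) K, w ∈ H ∧ (w : Matrix (OI (k + 1)) (OI (k + 1)) K) = mk3 σ 0 0 0 0 0 G G 0 := by
      rcases Nat.even_or_odd (k + 1) with ⟨a, ha⟩ | ⟨a, ha⟩
      · refine ⟨1, 1, by simp, by simp, _, emb3_mem_omO (swG_even_mem a Finset.univ (by simp; omega)), ?_⟩
        rw [coe_emb3 (show ((swG Finset.univ : GL (Fin (k + 1) ⊕ Fin (k + 1)) K) :
          Matrix (Fin (k + 1) ⊕ Fin (k + 1)) (Fin (k + 1) ⊕ Fin (k + 1)) K) = _ from rfl)]
        simp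
      · obtain ⟨w₀, hw₀, hw₀H⟩ := w0_mem h2 (0 : Fin (k + 1))
        refine ⟨-1, bmat (-1) 0 0 1, ?_, ⟨?_, ?_⟩, _,
          mul_mem (emb3_mem_omO (swG_even_mem a (Finset.univ.erase 0) (by simp; omega))) hw₀H, ?_⟩
        · ext i j
          rcases Fin.eq_zero_or_eq_succ i with rfl | ⟨i, rfl⟩ <;> rcases Fin.eq_zero_or_eq_succ j with rfl | ⟨j, rfl⟩ <;>
            simp [Matrix.mul_apply, Fin.sum_univ_succ, Matrix.one_apply, (Fin.succ_ne_zero _).symm, Fin.succ_ne_zero]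
        · rw [hXb, coe_bord]
          ext i j
          rcases Fin.eq_zero_or_eq_succ i with rfl | ⟨i, rfl⟩ <;> rcases Fin.eq_zero_or_eq_succ j with rfl | ⟨j, rfl⟩ <;>
            simp [Matrix.mul_apply, Fin.sum_univ_succ, Matrix.one_apply]
        · ext i j
          rcases Fin.eq_zero_or_eq_succ i with rfl | ⟨i, rfl⟩ <;> rcases Fin.eq_zero_or_eq_succ j with rfl | ⟨j, rfl⟩ <;>
            simp [Matrix.one_apply, eq_comm]
        · rw [Units.val_mul, hw₀, w0M, coe_emb3 (show ((swG (Finset.univ.erase 0) : GL (Fin (k + 1) ⊕ Fin (k + 1)) K) :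
            Matrix (Fin (k + 1) ⊕ Fin (k + 1)) (Fin (k + 1) ⊕ Fin (k + 1)) K) = _ from rfl), mk3_mul]
          congr 1
          all_goals first | (simp; done) | skip
          all_goals
            ext i j
            rcases Fin.eq_zero_or_eq_succ i with rfl | ⟨i, rfl⟩ <;> rcases Fin.eq_zero_or_eq_succ j with rfl | ⟨j, rfl⟩ <;>
              simp [Matrix.mul_apply, Fin.sum_univ_succ, Matrix.one_apply, Matrix.diagonal_apply, Matrix.single_apply,
                (Fin.succ_ne_zero _).symm, Fin.succ_ne_zero]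
    have hwc : w * lev3 (k + 1) K Xt * w⁻¹ = lev3 (k + 1) K X⁻¹ := by
      refine mul_inv_eq_iff_eq_mul.2 (Units.ext ?_)
      rw [Units.val_mul, Units.val_mul, hwv, coe_lev3, coe_lev3, inv_inv]
      show mk3 σ 0 0 0 0 0 G G 0 * mk3 1 0 0 0 0 xt 0 0
          (((X⁻¹ : GL (Fin (k + 1)) K) : Matrix (Fin (k + 1)) (Fin (k + 1)) K)ᵀ)ᵀ = _
      obtain ⟨hGc, hGt⟩ := hGX
      have hGi : G * ((X⁻¹ : GL (Fin (k + 1)) K) : Matrix (Fin (k + 1)) (Fin (k + 1)) K)
          = ((X⁻¹ : GL (Fin (k + 1)) K) : Matrix (Fin (k + 1)) (Fin (k + 1)) K) * G := by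
        set xi := ((X⁻¹ : GL (Fin (k + 1)) K) : Matrix (Fin (k + 1)) (Fin (k + 1)) K)
        calc G * xi = xi * (X : Matrix (Fin (k + 1)) (Fin (k + 1)) K) * G * xi := by
              rw [show xi * (X : Matrix (Fin (k + 1)) (Fin (k + 1)) K) = 1 from X.inv_mul, one_mul]
          _ = xi * G * ((X : Matrix (Fin (k + 1)) (Fin (k + 1)) K) * xi) := by
              rw [Matrix.mul_assoc xi _ G, ← hGc]; simp only [Matrix.mul_assoc]
          _ = xi * G := by rw [show (X : Matrix (Fin (k + 1)) (Fin (k + 1)) K) * xi = 1 from X.mul_inv, mul_one]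
      have hGt' : G * xt = xt * G := by
        have := congrArg Matrix.transpose hGc
        rw [Matrix.transpose_mul, Matrix.transpose_mul, hGt] at this
        exact this.symm
      simp [mk3_mul, Matrix.transpose_transpose, hxt]
      rw [← Matrix.coe_units_inv, hGi, ← hxt, hGt']
    refine isConj_iff.2 ⟨⟨_, hwH⟩ * ⟨_, one_lev P hPd⟩, Subtype.ext ?_⟩
    show w * lev3 (k + 1) K P * lev3 (k + 1) K X * (w * lev3 (k + 1) K P)⁻¹ = (lev3 (k + 1) K X)⁻¹
    rw [← map_inv (lev3 (k + 1) K) X, ← hwc, ← hPX]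
    group
  · by_cases hns : ∃ r : K, ((g : GL (OI (k + 1)) K) : Matrix (OI (k + 1)) (OI (k + 1)) K) = r • 1
    · obtain ⟨r, hr⟩ := hns
      exact Or.inl (hπ hr)
    refine Or.inr ⟨1, map_one _, ?_⟩
    rw [one_mul]
    obtain ⟨g₁, a, pv, q, ev, f, A, B, C, D, hc1, hg, hC, hu⟩ := oo_conj_corner hK4 hm h2 hns
    refine IsPair.of_isConj hc1.symm ?_
    have adj : ∀ g₂ : ↥H, ∀ A' : GL (Fin (k + 1)) K, (∃ a p q e f B C D,
        ((g₂ : GL (OI (k + 1)) K) : Matrix (OI (k + 1)) (OI (k + 1)) K)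
          = mk3 a p q e f (A' : Matrix (Fin (k + 1)) (Fin (k + 1)) K) B C D) →
        ((A' : Matrix (Fin (k + 1)) (Fin (k + 1)) K).det = 1) →
        (¬ ∃ r : K, (A' : Matrix (Fin (k + 1)) (Fin (k + 1)) K) = r • 1) → IsPair c g₂ := fun g₂ A' h11 hdet hA' => by
      obtain ⟨a, p', q, e', f, B, C, D, h11⟩ := h11
      obtain ⟨r, T, b, S, -, -, -, hlo, hup, -, hfac⟩ := oo_decomp hK4 (by omega) h2 h11 g₂.2
      obtain ⟨u, v, hu, hv, huv⟩ := isPair_cMid hK hζη' A' hdet hA'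
      obtain ⟨x, hxd, rfl⟩ := fix1 hu
      obtain ⟨y, hyd, rfl⟩ := fix1 hv
      refine isPair_lev3 _ hXm
        (fun b S _ h1 h2 => ⟨fixed_vec_zero hpow h1 hd1, Matrix.ext fun i j => cong_fixed_zero hpow h2 (hd2 i j)⟩)
        (fun b S _ h1 h2 => ⟨fixed_vec_zero (N := p ^ N) (by rw [← Matrix.transpose_pow, hpow, Matrix.diagonal_transpose]) h1 hd1,
          Matrix.ext fun i j => cong_fixed_zero' hpow h2 (hd2 i j)⟩)
        hlo hup (one_lev x hxd) (one_lev y hyd) ?_ hfac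
      rw [huv, hX, ← mul_assoc x, ← mul_assoc y, ← (scGL_commute _ ζ x).eq, ← (scGL_commute _ ζ y).eq]
      simp only [mul_assoc]
      rw [_root_.mul_inv_rev (scGL (k + 1) ζ)]
      have hc := (scGL_commute _ ζ (x * (cMid k ξ * x⁻¹) * (y * (cMid k ξ * y⁻¹))⁻¹)).eq
      simp only [← mul_assoc] at hc ⊢
      rw [hc, mul_inv_cancel_right]
    obtain ⟨r, T, -, -, hrA, hTA, hrT, -, -, ⟨r₀, hr₀⟩, -⟩ :=
      oo_decomp hK4 (by omega) h2 (A := Matrix.nonsingInvUnit A hu) hg g₁.2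
    replace hrA : r ᵥ* A = pv := hrA
    replace hTA : T * A = C := hTA
    replace hr₀ : A.det = r₀ * r₀ := hr₀
    have hrT0 : r ≠ 0 ∨ T ≠ 0 := by
      by_contra! h
      obtain ⟨h1, h1'⟩ := h
      rcases hC with hC | hC
      · exact hC (by rw [← hrA, h1, Matrix.zero_vecMul])
      · exact hC (by rw [← hTA, h1', zero_mul])
    obtain ⟨b₀, S₀, hS₀, hdet₀⟩ := oo_det_any (by omega) hrT hrT0 r₀⁻¹
    -- first make the determinant one
    let s₀ : ↥H := ⟨_, (upO_mem_omO hK4).1.2 hS₀⟩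
    refine IsPair.of_isConj (isConj_iff.2 ⟨s₀⁻¹, by group⟩ : IsConj (s₀ * g₁ * s₀⁻¹) g₁) ?_
    obtain ⟨a₁, q₁, e₁, f₁, B₁, D₁, h₁⟩ := conj_upO b₀ S₀ hg
    have hM₀ : ((s₀ * g₁ * s₀⁻¹ : ↥H) : GL (OI (k + 1)) K).val = _ :=
      (congrArg Units.val (show ((s₀ * g₁ * s₀⁻¹ : ↥H) : GL (OI (k + 1)) K)
        = upO b₀ S₀ * (g₁ : GL (OI (k + 1)) K) * (upO b₀ S₀)⁻¹ by
          simp only [Subgroup.coe_mul, InvMemClass.coe_inv, s₀])).trans h₁
    set A₀ := A - (2 : K) • vecMulVec b₀ pv + S₀ * C with hA₀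
    have e₀ : A₀ = (1 - (2 : K) • vecMulVec b₀ r + S₀ * T) * A := by
      rw [hA₀, add_mul, sub_mul, one_mul, Matrix.mul_assoc, hTA, smul_mul_assoc, Matrix.vecMulVec_mul, hrA]
    have hd₀ : A₀.det = 1 := by
      rw [e₀, Matrix.det_mul, hdet₀, ← mul_inv, ← hr₀, inv_mul_cancel₀ hu.ne_zero]
    let a₀ : GL (Fin (k + 1)) K := Matrix.nonsingInvUnit _ (by rw [hd₀]; exact isUnit_one : IsUnit A₀.det)
    by_cases hsc : ∃ t : K, A₀ = t • 1
    swap
    · exact adj _ a₀ ⟨_, _, _, _, _, _, _, _, hM₀⟩ hd₀ hsc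
    obtain ⟨t, ht⟩ := hsc
    obtain ⟨r', T', -, -, hrA', hTA', hrT', -, -, -, -⟩ :=
      oo_decomp hK4 (by omega) h2 (A := a₀) hM₀ (s₀ * g₁ * s₀⁻¹).2
    replace hrA' : r' ᵥ* A₀ = pv + b₀ ᵥ* C := hrA'
    replace hTA' : T' * A₀ = C := hTA'
    have hrT0' : r' ≠ 0 ∨ T' ≠ 0 := by
      by_contra! h
      obtain ⟨h1, h1'⟩ := h
      have hC0 : C = 0 := by rw [← hTA', h1', zero_mul]
      rw [h1, Matrix.zero_vecMul, hC0, Matrix.vecMul_zero, add_zero] at hrA'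
      rcases hC with hC | hC
      exacts [hC hrA'.symm, hC hC0]
    obtain ⟨b₁, S₁, hS₁, hdet₁, hns₁⟩ := oo_nonscalar hm h2 hrT' hrT0'
    let s₁ : ↥H := ⟨_, (upO_mem_omO hK4).1.2 hS₁⟩
    refine IsPair.of_isConj (isConj_iff.2 ⟨s₁⁻¹, by group⟩ : IsConj (s₁ * (s₀ * g₁ * s₀⁻¹) * s₁⁻¹) _) ?_
    obtain ⟨a₂, q₂, e₂, f₂, B₂, D₂, h₂⟩ := conj_upO b₁ S₁ hM₀
    have hM₁ : ((s₁ * (s₀ * g₁ * s₀⁻¹) * s₁⁻¹ : ↥H) : GL (OI (k + 1)) K).val = _ :=
      (congrArg Units.val (show ((s₁ * (s₀ * g₁ * s₀⁻¹) * s₁⁻¹ : ↥H) : GL (OI (k + 1)) K)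
        = upO b₁ S₁ * ((s₀ * g₁ * s₀⁻¹ : ↥H) : GL (OI (k + 1)) K) * (upO b₁ S₁)⁻¹ by
          simp only [Subgroup.coe_mul, InvMemClass.coe_inv, s₁])).trans h₂
    set A₁ := A₀ - (2 : K) • vecMulVec b₁ (pv + b₀ ᵥ* C) + S₁ * C with hA₁
    have e₁' : A₁ = (1 - (2 : K) • vecMulVec b₁ r' + S₁ * T') * A₀ := by
      rw [hA₁, add_mul, sub_mul, one_mul, Matrix.mul_assoc, hTA', smul_mul_assoc, Matrix.vecMulVec_mul, hrA']
    have hd₁ : A₁.det = 1 := by rw [e₁', Matrix.det_mul, hdet₁, hd₀, mul_one]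
    refine adj _ (Matrix.nonsingInvUnit _ (by rw [hd₁]; exact isUnit_one : IsUnit A₁.det))
      ⟨_, _, _, _, _, _, _, _, hM₁⟩ hd₁ fun ⟨u, hu'⟩ => hns₁ (u / t - 1) ?_
    have ht0 : t ≠ 0 := fun h => by
      rw [ht, h, zero_smul, Matrix.det_eq_zero_of_row_eq_zero (0 : Fin (k + 1)) fun _ => rfl] at hd₀
      exact zero_ne_one hd₀
    replace hu' : A₁ = u • 1 := hu'
    rw [e₁', ht, mul_smul_comm, mul_one] at hu'
    have := congrArg (t⁻¹ • ·) hu'
    simp only [smul_smul, inv_mul_cancel₀ ht0, one_smul] at this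
    rw [sub_smul, one_smul, div_eq_inv_mul, ← this]
    abel

end Cfsg.Lib.ClassSquare
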