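import Cfsg.Agent.Lib.ClassSquare.Blocks

/-!
# A class of `PSp` whose square is the whole group
-/

set_option autoImplicit false

namespace Cfsg.Lib.ClassSquare

open Matrix Cfsg.Lib.Linear.Orth

variable {K : Type*} [Field K] {m : ℕ}

/-- The symplectic group among the invertible matrices. -/
def spGL (m : ℕ) (K : Type*) [Field K] : ↥(Matrix.symplecticGroup (Fin m) K) →* GL (Fin m ⊕ Fin m) K :=
  (Matrix.symplecticGroup (Fin m) K).subtype.toHomUnits

theorem spGL_injective : Function.Injective (spGL m K) := fun _ _ h => Subtype.ext (congrArg Units.val h)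

theorem mem_spGL {g : GL (Fin m ⊕ Fin m) K} :
    g ∈ (spGL m K).range ↔ (g : Matrix (Fin m ⊕ Fin m) (Fin m ⊕ Fin m) K) ∈ Matrix.symplecticGroup (Fin m) K := by
  constructor
  · rintro ⟨x, rfl⟩; exact x.2
  · exact fun h => ⟨⟨_, h⟩, Units.ext rfl⟩

theorem mem_sp_blocks {A B C D : Matrix (Fin m) (Fin m) K} :
    fromBlocks A B C D ∈ Matrix.symplecticGroup (Fin m) K ↔
      (Aᵀ * C)ᵀ = Aᵀ * C ∧ (Bᵀ * D)ᵀ = Bᵀ * D ∧ Aᵀ * D - Cᵀ * B = 1 := by
  rw [SymplecticGroup.mem_iff', Matrix.J, fromBlocks_transpose, fromBlocks_multiply, fromBlocks_multiply,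
    fromBlocks_inj]
  simp only [Matrix.mul_zero, Matrix.mul_one, zero_add, add_zero, Matrix.mul_neg, Matrix.neg_mul,
    Matrix.transpose_mul, Matrix.transpose_transpose, ← sub_eq_add_neg]
  constructor
  · rintro ⟨h1, h2, h3, h4⟩
    exact ⟨sub_eq_zero.1 h1, sub_eq_zero.1 h4, by rw [← neg_sub, h2, neg_neg]⟩
  · rintro ⟨h1, h4, h2⟩
    refine ⟨sub_eq_zero.2 h1, by rw [← h2, neg_sub], ?_, sub_eq_zero.2 h4⟩
    have := congrArg Matrix.transpose h2
    simpa using this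

theorem up_mem_sp {S : Matrix (Fin m) (Fin m) K} : upG S ∈ (spGL m K).range ↔ Sᵀ = S := by
  rw [mem_spGL, coe_upG, mem_sp_blocks]; simp [eq_comm]

theorem lo_mem_sp {S : Matrix (Fin m) (Fin m) K} : loG S ∈ (spGL m K).range ↔ Sᵀ = S := by
  rw [mem_spGL, coe_loG, mem_sp_blocks]; simp

theorem lev_mem_sp (A : GL (Fin m) K) : levGL m A ∈ (spGL m K).range := by
  rw [mem_spGL, coe_levGL, mem_sp_blocks]
  simp [← Matrix.transpose_mul, ← Units.val_mul]

theorem sp_decomp {A : GL (Fin m) K} {g : GL (Fin m ⊕ Fin m) K} {B C D : Matrix (Fin m) (Fin m) K}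
    (hg : (g : Matrix (Fin m ⊕ Fin m) (Fin m ⊕ Fin m) K) = fromBlocks (A : Matrix (Fin m) (Fin m) K) B C D)
    (hH : g ∈ (spGL m K).range) :
    ∃ P Q, loG P ∈ (spGL m K).range ∧ upG Q ∈ (spGL m K).range ∧ g = loG P * levGL m A * upG Q := by
  have h := mem_spGL.1 hH
  rw [hg, mem_sp_blocks] at h
  obtain ⟨h1, -, h3⟩ := h
  set a := ((A⁻¹ : GL (Fin m) K) : Matrix (Fin m) (Fin m) K) with ha
  have e1 : (A : Matrix (Fin m) (Fin m) K) * a = 1 := A.mul_inv
  have e2 : a * (A : Matrix (Fin m) (Fin m) K) = 1 := A.inv_mul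
  have e3 : aᵀ * (A : Matrix (Fin m) (Fin m) K)ᵀ = 1 := by rw [← Matrix.transpose_mul, e1, Matrix.transpose_one]
  have hP : (C * a)ᵀ = C * a := by
    calc (C * a)ᵀ = aᵀ * Cᵀ * ((A : Matrix (Fin m) (Fin m) K) * a) := by rw [e1, mul_one, Matrix.transpose_mul]
      _ = aᵀ * ((A : Matrix (Fin m) (Fin m) K)ᵀ * C)ᵀ * a := by
        simp [Matrix.transpose_mul, Matrix.mul_assoc]
      _ = C * a := by rw [h1, ← Matrix.mul_assoc, e3, one_mul]
  have hD : D = C * a * B + aᵀ := by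
    calc D = aᵀ * ((A : Matrix (Fin m) (Fin m) K)ᵀ * D) := by rw [← Matrix.mul_assoc, e3, one_mul]
      _ = aᵀ * (Cᵀ * B + 1) := by rw [← h3]; simp
      _ = (C * a)ᵀ * B + aᵀ := by rw [Matrix.transpose_mul, Matrix.mul_add, Matrix.mul_assoc, mul_one]
      _ = _ := by rw [hP]
  have e : g = loG (C * a) * levGL m A * upG (a * B) := by
    refine Units.ext ?_
    rw [hg, Units.val_mul, Units.val_mul, coe_loG, coe_levGL, coe_upG, ← ha]
    simp only [fromBlocks_multiply, mul_zero, zero_mul, add_zero, zero_add, one_mul, mul_one]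
    rw [show C * a * (A : Matrix (Fin m) (Fin m) K) = C by rw [Matrix.mul_assoc, e2, mul_one],
      show (A : Matrix (Fin m) (Fin m) K) * (a * B) = B by rw [← Matrix.mul_assoc, e1, one_mul], hD,
      ← Matrix.mul_assoc]
  refine ⟨_, _, lo_mem_sp.2 hP, ?_, e⟩
  have : upG (a * B) = (loG (C * a) * levGL m A)⁻¹ * g := by rw [e]; group
  rw [this]
  exact mul_mem (inv_mem (mul_mem (lo_mem_sp.2 hP) (lev_mem_sp A))) hH

theorem conj_up (S : Matrix (Fin m) (Fin m) K) {g : GL (Fin m ⊕ Fin m) K} {A B C D : Matrix (Fin m) (Fin m) K}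
    (hg : (g : Matrix (Fin m ⊕ Fin m) (Fin m ⊕ Fin m) K) = fromBlocks A B C D) :
    ((upG S * g * (upG S)⁻¹ : GL (Fin m ⊕ Fin m) K) : Matrix (Fin m ⊕ Fin m) (Fin m ⊕ Fin m) K)
      = fromBlocks (A + S * C) (B + S * D - (A + S * C) * S) C (D - C * S) := by
  rw [upG_inv, Units.val_mul, Units.val_mul, hg, coe_upG, coe_upG]
  simp [fromBlocks_multiply, sub_eq_add_neg, add_comm]

theorem conj_lo (S : Matrix (Fin m) (Fin m) K) {g : GL (Fin m ⊕ Fin m) K} {A B C D : Matrix (Fin m) (Fin m) K}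
    (hg : (g : Matrix (Fin m ⊕ Fin m) (Fin m ⊕ Fin m) K) = fromBlocks A B C D) :
    ((loG S * g * (loG S)⁻¹ : GL (Fin m ⊕ Fin m) K) : Matrix (Fin m ⊕ Fin m) (Fin m ⊕ Fin m) K)
      = fromBlocks (A - B * S) B (C + S * A - (D + S * B) * S) (D + S * B) := by
  rw [loG_inv, Units.val_mul, Units.val_mul, hg, coe_loG, coe_loG]
  simp [fromBlocks_multiply, sub_eq_add_neg, add_comm]

theorem exists_scalar_ne [Fintype K] (hK : 4 ≤ Fintype.card K) (s : Finset K) (hs : s.card ≤ 3) : ∃ x : K, x ∉ s := by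
  obtain ⟨x, -, hx⟩ := Finset.exists_mem_notMem_of_card_lt_card (s := s) (t := (Finset.univ : Finset K))
    (by rw [Finset.card_univ]; omega)
  exact ⟨x, hx⟩

/-- Symmetric perturbations with any determinant. -/
theorem sp_det_any {P : Matrix (Fin m) (Fin m) K} (hP : Pᵀ = P) (h0 : P ≠ 0) {d : K} :
    ∃ S : Matrix (Fin m) (Fin m) K, Sᵀ = S ∧ (1 + S * P).det = d := by
  have hvm : ∀ x : Fin m → K, x ᵥ* P = P *ᵥ x := fun x => by rw [← Matrix.mulVec_transpose, hP]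
  by_cases h : ∃ v, v ⬝ᵥ P *ᵥ v ≠ 0
  · obtain ⟨v, hv⟩ := h
    refine ⟨((d - 1) / (v ⬝ᵥ P *ᵥ v)) • vecMulVec v v, by simp, ?_⟩
    rw [smul_mul_assoc, Matrix.vecMulVec_mul, hvm, ← Matrix.smul_vecMulVec,
      show vecMulVec (((d - 1) / (v ⬝ᵥ P *ᵥ v)) • v) (P *ᵥ v)
        = vecMulVec (((d - 1) / (v ⬝ᵥ P *ᵥ v)) • v) (P *ᵥ v) + vecMulVec (0 : Fin m → K) (0 : Fin m → K) by simp,
      det_plane]
    simp [dotProduct_comm (P *ᵥ v), hv]
  · push Not at h
    obtain ⟨i, j, hij⟩ : ∃ i j, P i j ≠ 0 := by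
      by_contra! hz
      exact h0 (Matrix.ext hz)
    have hd : ∀ k, P k k = 0 := fun k => by simpa [single_dotProduct] using h (Pi.single k 1)
    have hji : P j i = P i j := congrFun (congrFun hP i) j
    refine ⟨vecMulVec (Pi.single i 1) (Pi.single i 1) + ((1 - d) / (P i j * P i j)) • vecMulVec (Pi.single j 1) (Pi.single j 1),
      by simp, ?_⟩
    rw [add_mul, smul_mul_assoc, Matrix.vecMulVec_mul, Matrix.vecMulVec_mul, ← Matrix.smul_vecMulVec, det_plane,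
      hvm, hvm]
    simp [hd, hji, hij]
    field_simp
    ring

/-- Symmetric perturbations of determinant one which are not scalar. -/
theorem sp_nonscalar [Fintype K] (hK : 4 ≤ Fintype.card K) (hm : 2 ≤ m) {P : Matrix (Fin m) (Fin m) K} (hP : Pᵀ = P)
    (h0 : P ≠ 0) :
    ∃ S : Matrix (Fin m) (Fin m) K, Sᵀ = S ∧ (1 + S * P).det = 1 ∧ ∀ c : K, S * P ≠ c • 1 := by
  classical
  have hvm : ∀ x : Fin m → K, x ᵥ* P = P *ᵥ x := fun x => by rw [← Matrix.mulVec_transpose, hP]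
  have hsym : ∀ x y : Fin m → K, (P *ᵥ x) ⬝ᵥ y = x ⬝ᵥ P *ᵥ y := fun x y => by
    rw [Matrix.dotProduct_mulVec, hvm]
  have key : ∀ {S : Matrix (Fin m) (Fin m) K} {x : Fin m → K} {y z : Fin m → K},
      (S * P) *ᵥ x = y → (S * P) *ᵥ y = z → z = 0 → y ≠ 0 → ∀ c : K, S * P ≠ c • 1 := by
    intro S x y z hx hy hz hy0 c hc
    rw [hc, Matrix.smul_mulVec, Matrix.one_mulVec] at hx hy
    rw [hz] at hy
    have : c = 0 := (smul_eq_zero.1 hy).resolve_right hy0
    exact hy0 (by rw [← hx, this, zero_smul])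
  by_cases hk : ∃ z, z ≠ 0 ∧ P *ᵥ z = 0
  · obtain ⟨z, hz, hPz⟩ := hk
    obtain ⟨i, hi⟩ : ∃ i, P *ᵥ (Pi.single i (1 : K)) ≠ 0 := by
      by_contra! hzero
      exact h0 (Matrix.ext fun a b => by simpa using congrFun (hzero b) a)
    obtain ⟨j, hj⟩ := Function.ne_iff.1 hi
    set w : Fin m → K := Pi.single i 1 with hw
    refine ⟨vecMulVec z w + vecMulVec w z, by simp [add_comm], ?_, ?_⟩
    · rw [add_mul, Matrix.vecMulVec_mul, Matrix.vecMulVec_mul, det_plane, hvm, hvm, hPz]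
      simp [hsym, hPz]
    · have e : ∀ x, ((vecMulVec z w + vecMulVec w z) * P) *ᵥ x = ((P *ᵥ w) ⬝ᵥ x) • z := fun x => by
        rw [add_mul, Matrix.vecMulVec_mul, Matrix.vecMulVec_mul, hvm, hvm, hPz, Matrix.vecMulVec_zero, add_zero,
          Matrix.vecMulVec_mulVec]
        simp
      refine key (x := Pi.single j ((P *ᵥ w) j)⁻¹) (y := z) (e _ |>.trans ?_) (e z) ?_ hz
      · simp [dotProduct_single, mul_inv_cancel₀ (show (P *ᵥ w) j ≠ 0 from hj)]
      · rw [hsym, hPz]; simp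
  push Not at hk
  by_cases hiso : ∃ v, v ≠ 0 ∧ v ⬝ᵥ P *ᵥ v = 0
  · obtain ⟨v, hv, hvv⟩ := hiso
    obtain ⟨j, hj⟩ := Function.ne_iff.1 (hk v hv)
    refine ⟨vecMulVec v v, by simp, ?_, ?_⟩
    · rw [Matrix.vecMulVec_mul, hvm, show vecMulVec v (P *ᵥ v) = vecMulVec v (P *ᵥ v)
        + vecMulVec (0 : Fin m → K) (0 : Fin m → K) by simp, det_plane]
      simp [dotProduct_comm (P *ᵥ v), hvv]
    · have e : ∀ x, (vecMulVec v v * P) *ᵥ x = ((P *ᵥ v) ⬝ᵥ x) • v := fun x => by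
        rw [Matrix.vecMulVec_mul, hvm, Matrix.vecMulVec_mulVec]; simp
      refine key (x := Pi.single j ((P *ᵥ v) j)⁻¹) (y := v) (e _ |>.trans ?_) (e v) ?_ hv
      · simp [dotProduct_single, mul_inv_cancel₀ (show (P *ᵥ v) j ≠ 0 from hj)]
      · rw [hsym, hvv, zero_smul]
  push Not at hiso
  haveI : NeZero m := ⟨by omega⟩
  set u : Fin m → K := Pi.single 0 1 with hu
  have hu0 : u ≠ 0 := fun h => one_ne_zero (α := K) (by simpa [hu] using congrFun h 0)
  obtain ⟨w, hw0, hwu⟩ : ∃ w : Fin m → K, w ≠ 0 ∧ (P *ᵥ u) ⬝ᵥ w = 0 := by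
    set q := P *ᵥ u with hq
    by_cases hq1 : q ⟨1, by omega⟩ = 0
    · refine ⟨Pi.single ⟨1, by omega⟩ 1, fun h => ?_, by simp [hq1]⟩
      simpa using congrFun h ⟨1, by omega⟩
    · refine ⟨Pi.single 0 (q ⟨1, by omega⟩) - Pi.single ⟨1, by omega⟩ (q 0), fun h => hq1 ?_, ?_⟩
      · simpa [Fin.ext_iff] using congrFun h 0
      · simp [dotProduct_sub, mul_comm]
  obtain ⟨x, hx⟩ := exists_scalar_ne hK {0, -1, -2} Finset.card_le_three
  simp only [Finset.mem_insert, Finset.mem_singleton, not_or] at hx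
  obtain ⟨hx0, hx1, hx2⟩ := hx
  have hx1' : 1 + x ≠ 0 := fun h => hx1 (eq_neg_of_add_eq_zero_right h)
  set α := u ⬝ᵥ P *ᵥ u with hα
  set β := w ⬝ᵥ P *ᵥ w with hβ
  have hα0 : α ≠ 0 := hiso u hu0
  have hβ0 : β ≠ 0 := hiso w hw0
  refine ⟨(x / α) • vecMulVec u u + (-x / (1 + x) / β) • vecMulVec w w, by simp, ?_, fun c hc => ?_⟩
  · rw [add_mul, smul_mul_assoc, smul_mul_assoc, Matrix.vecMulVec_mul, Matrix.vecMulVec_mul, ← Matrix.smul_vecMulVec,
      ← Matrix.smul_vecMulVec, det_plane, hvm, hvm]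
    have hwu' : (P *ᵥ w) ⬝ᵥ u = 0 := by rw [hsym, dotProduct_comm, hwu]
    simp only [dotProduct_smul, hwu, hwu', dotProduct_comm (P *ᵥ u) u, dotProduct_comm (P *ᵥ w) w, ← hα, ← hβ,
      smul_eq_mul, mul_zero, zero_mul, sub_zero]
    field_simp
    ring
  · have hwu' : (P *ᵥ w) ⬝ᵥ u = 0 := by rw [hsym, dotProduct_comm, hwu]
    have e : ∀ z, (c : K) • z = (x / α * ((P *ᵥ u) ⬝ᵥ z)) • u + (-x / (1 + x) / β * ((P *ᵥ w) ⬝ᵥ z)) • w := fun z => by
      have := congrArg (· *ᵥ z) hc.symm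
      simp only [Matrix.smul_mulVec, Matrix.one_mulVec] at this
      rw [this, add_mul, smul_mul_assoc, smul_mul_assoc, Matrix.vecMulVec_mul, Matrix.vecMulVec_mul, hvm, hvm,
        Matrix.add_mulVec, Matrix.smul_mulVec, Matrix.smul_mulVec, Matrix.vecMulVec_mulVec, Matrix.vecMulVec_mulVec]
      simp [smul_smul, mul_comm]
    have h1 := e u
    have h2 := e w
    rw [hwu', dotProduct_comm (P *ᵥ u) u, ← hα, div_mul_cancel₀ x hα0, mul_zero, zero_smul, add_zero] at h1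
    rw [hwu, dotProduct_comm (P *ᵥ w) w, ← hβ, div_mul_cancel₀ _ hβ0, mul_zero, zero_smul, zero_add] at h2
    have ec := smul_left_injective K hu0 h1
    have ec' := smul_left_injective K hw0 h2
    -- the two eigenvalues
    rw [ec, eq_div_iff hx1'] at ec'
    have : x * (2 + x) = 0 := by linear_combination ec'
    rcases mul_eq_zero.1 this with h | h
    · exact hx0 h
    · exact hx2 (eq_neg_of_add_eq_zero_right h)

theorem exists_conj_lower {g : ↥(spGL m K).range} (hm : 2 ≤ m) [Fintype K] (hK : 4 ≤ Fintype.card K)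
    (hns : ¬ ∃ c : K, ((g : GL (Fin m ⊕ Fin m) K) : Matrix (Fin m ⊕ Fin m) (Fin m ⊕ Fin m) K) = c • 1) :
    ∃ g', IsConj g g' ∧ ((g' : GL (Fin m ⊕ Fin m) K) : Matrix (Fin m ⊕ Fin m) (Fin m ⊕ Fin m) K).toBlocks₂₁ ≠ 0 := by
  classical
  by_contra! hall
  set M := ((g : GL (Fin m ⊕ Fin m) K) : Matrix (Fin m ⊕ Fin m) (Fin m ⊕ Fin m) K) with hM
  have hC := hall g (IsConj.refl g)
  have hg : M = fromBlocks M.toBlocks₁₁ M.toBlocks₁₂ 0 M.toBlocks₂₂ := by
    conv_lhs => rw [← fromBlocks_toBlocks M]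
    rw [hC]
  set A := M.toBlocks₁₁ with hA
  set B := M.toBlocks₁₂ with hB
  set D := M.toBlocks₂₂ with hD
  have h : ∀ S : Matrix (Fin m) (Fin m) K, Sᵀ = S → S * A - D * S = 0 ∧ S * B * S = 0 := fun S hS => by
    have key : ∀ t : K, t • (S * A - D * S) - (t * t) • (S * B * S) = 0 := fun t => by
      have h1 := hall (⟨_, lo_mem_sp.2 (show (t • S)ᵀ = t • S by rw [Matrix.transpose_smul, hS])⟩ * g *
        (⟨_, lo_mem_sp.2 (show (t • S)ᵀ = t • S by rw [Matrix.transpose_smul, hS])⟩)⁻¹) (isConj_iff.2 ⟨_, rfl⟩)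
      rw [Subgroup.coe_mul, Subgroup.coe_mul, InvMemClass.coe_inv, conj_lo _ hg, toBlocks_fromBlocks₂₁] at h1
      rw [← h1]
      simp [add_mul, smul_sub, smul_smul]
      abel
    obtain ⟨t, ht⟩ := exists_scalar_ne hK {0, 1} (Finset.card_le_two.trans (by norm_num))
    simp only [Finset.mem_insert, Finset.mem_singleton, not_or] at ht
    have h1 := key 1
    rw [one_smul, one_mul, one_smul, sub_eq_zero] at h1
    have h2 := key t
    rw [h1, ← sub_smul, smul_eq_zero] at h2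
    have h3 : S * B * S = 0 := h2.resolve_left fun h => by
      have : t * (1 - t) = 0 := by linear_combination h
      rcases mul_eq_zero.1 this with h | h
      exacts [ht.1 h, ht.2 (sub_eq_zero.1 h).symm]
    exact ⟨by rw [h1, h3], h3⟩
  have hsym : ∀ i j : Fin m, (single i j (1 : K) + single j i 1)ᵀ = single i j (1 : K) + single j i 1 := fun i j => by
    simp [add_comm]
  have hB0 : B = 0 := by
    ext i j
    rcases eq_or_ne i j with rfl | hij
    · have := congrFun (congrFun (h (single i i 1) (by simp)).2 i) i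
      simpa [Matrix.single_mul_mul_single] using this
    · have := congrFun (congrFun (h _ (hsym i j)).2 j) i
      simpa [add_mul, mul_add, Matrix.single_mul_mul_single, hij, Ne.symm hij] using this
  have hDA : D = A := by
    have := (h 1 Matrix.transpose_one).1
    rw [one_mul, mul_one, sub_eq_zero] at this
    exact this.symm
  have hcom : ∀ S : Matrix (Fin m) (Fin m) K, Sᵀ = S → S * A = A * S := fun S hS => by
    have := (h S hS).1
    rwa [hDA, sub_eq_zero] at this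
  haveI : NeZero m := ⟨by omega⟩
  have hoff : ∀ i j, i ≠ j → A i j = 0 := fun i j hij => by
    have := congrFun (congrFun (hcom (single i i 1) (by simp)) i) j
    simpa [Matrix.mul_single_apply_of_ne, Ne.symm hij] using this
  refine hns ⟨A 0 0, ?_⟩
  rw [hg, hB0, hDA, show A = A 0 0 • 1 from ?_]
  · ext i j
    rcases i with i | i <;> rcases j with j | j <;> simp [Matrix.one_apply]
  ext i j
  rcases eq_or_ne i j with rfl | hij
  · rcases eq_or_ne i 0 with rfl | hi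
    · simp
    · have := congrFun (congrFun (hcom _ (hsym i 0)) i) 0
      simpa [add_mul, mul_add, hi, Ne.symm hi, hoff _ _ hi] using this.symm
  · simp [hoff i j hij, hij]

theorem exists_conj_corner [Fintype K] (hK : 4 ≤ Fintype.card K) (hm : 2 ≤ m) {g : ↥(spGL m K).range}
    (hns : ¬ ∃ c : K, ((g : GL (Fin m ⊕ Fin m) K) : Matrix (Fin m ⊕ Fin m) (Fin m ⊕ Fin m) K) = c • 1) :
    ∃ g', IsConj g g' ∧ ((g' : GL (Fin m ⊕ Fin m) K) : Matrix (Fin m ⊕ Fin m) (Fin m ⊕ Fin m) K).toBlocks₂₁ ≠ 0 ∧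
      IsUnit ((g' : GL (Fin m ⊕ Fin m) K) : Matrix (Fin m ⊕ Fin m) (Fin m ⊕ Fin m) K).toBlocks₁₁.det := by
  classical
  suffices h : ∀ (n : ℕ) (g₁ : ↥(spGL m K).range), IsConj g g₁ →
      ((g₁ : GL (Fin m ⊕ Fin m) K) : Matrix (Fin m ⊕ Fin m) (Fin m ⊕ Fin m) K).toBlocks₂₁ ≠ 0 →
      m ≤ ((g₁ : GL (Fin m ⊕ Fin m) K) : Matrix (Fin m ⊕ Fin m) (Fin m ⊕ Fin m) K).toBlocks₁₁.rank + n →
      ∃ g', IsConj g g' ∧ ((g' : GL (Fin m ⊕ Fin m) K) : Matrix (Fin m ⊕ Fin m) (Fin m ⊕ Fin m) K).toBlocks₂₁ ≠ 0 ∧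
      IsUnit ((g' : GL (Fin m ⊕ Fin m) K) : Matrix (Fin m ⊕ Fin m) (Fin m ⊕ Fin m) K).toBlocks₁₁.det by
    obtain ⟨g₁, hc, hC⟩ := exists_conj_lower hm hK hns
    exact h m g₁ hc hC (Nat.le_add_left _ _)
  intro n
  induction n using Nat.strong_induction_on with
  | h n ih =>
    intro g₁ hc hC hn
    set M := ((g₁ : GL (Fin m ⊕ Fin m) K) : Matrix (Fin m ⊕ Fin m) (Fin m ⊕ Fin m) K) with hM
    have hg : M = fromBlocks M.toBlocks₁₁ M.toBlocks₁₂ M.toBlocks₂₁ M.toBlocks₂₂ := (fromBlocks_toBlocks M).symm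
    set A := M.toBlocks₁₁ with hA
    set C := M.toBlocks₂₁ with hC'
    by_cases hu : IsUnit A.det
    · exact ⟨g₁, hc, hC, hu⟩
    obtain ⟨x, hx0, hAx⟩ := Matrix.exists_mulVec_eq_zero_iff.2 (by rwa [isUnit_iff_ne_zero, not_not] at hu)
    have hCx : C *ᵥ x ≠ 0 := fun h0 => hx0 (by
      have e : M *ᵥ Sum.elim x 0 = 0 := by
        rw [hg, fromBlocks_mulVec]
        simp [hAx, h0]
      have := congrArg (fun v => ((g₁ : GL (Fin m ⊕ Fin m) K)⁻¹ : GL (Fin m ⊕ Fin m) K).val *ᵥ v) e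
      simp only [hM, Matrix.mulVec_mulVec, Units.inv_mul, Matrix.one_mulVec, Matrix.mulVec_zero] at this
      exact funext fun i => congrFun this (Sum.inl i))
    obtain ⟨v, hv1, hv2⟩ : ∃ v, v ∉ LinearMap.range A.mulVecLin ∧ v ⬝ᵥ C *ᵥ x ≠ 0 := by
      obtain ⟨v0, hv0⟩ : ∃ v0, v0 ∉ LinearMap.range A.mulVecLin := by
        by_contra! hall
        exact hu ((Matrix.isUnit_iff_isUnit_det A).1 (Matrix.mulVec_surjective_iff_isUnit.1 fun y => hall y))
      obtain ⟨i, hi⟩ := Function.ne_iff.1 hCx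
      by_cases h1 : v0 ⬝ᵥ C *ᵥ x = 0
      swap
      · exact ⟨v0, hv0, h1⟩
      by_cases h2 : (Pi.single i (1 : K) : Fin m → K) ∈ LinearMap.range A.mulVecLin
      · refine ⟨v0 + Pi.single i 1, fun h => hv0 ?_, ?_⟩
        · simpa using Submodule.sub_mem _ h h2
        · rw [add_dotProduct, h1, zero_add, single_dotProduct, one_mul]; exact hi
      · exact ⟨_, h2, by rw [single_dotProduct, one_mul]; exact hi⟩
    let s : ↥(spGL m K).range := ⟨_, up_mem_sp.2 (show (vecMulVec v v)ᵀ = vecMulVec v v by simp)⟩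
    have hM' : ((s * g₁ * s⁻¹ : ↥(spGL m K).range) : GL (Fin m ⊕ Fin m) K).val = _ := conj_up (vecMulVec v v) hg
    have hlt : A.rank < (A + vecMulVec v v * C).rank := by
      have hx' : (A + vecMulVec v v * C) *ᵥ x = (v ⬝ᵥ C *ᵥ x) • v := by
        rw [Matrix.add_mulVec, hAx, zero_add, ← Matrix.mulVec_mulVec, Matrix.vecMulVec_mulVec]; simp
      have hv' : v ∈ LinearMap.range (A + vecMulVec v v * C).mulVecLin :=
        ⟨(v ⬝ᵥ C *ᵥ x)⁻¹ • x, by rw [Matrix.mulVecLin_apply, Matrix.mulVec_smul, hx', smul_smul, inv_mul_cancel₀ hv2, one_smul]⟩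
      refine rank_lt_of_image (fun y => ?_) hv' hv1
      have : A *ᵥ y = (A + vecMulVec v v * C) *ᵥ y - (v ⬝ᵥ C *ᵥ y) • v := by
        rw [Matrix.add_mulVec, ← Matrix.mulVec_mulVec, Matrix.vecMulVec_mulVec]; simp
      rw [this]
      exact Submodule.sub_mem _ ⟨y, rfl⟩ (Submodule.smul_mem _ _ hv')
    refine ih (n - 1) (by
      have h1 := (A + vecMulVec v v * C).rank_le_height
      omega) (s * g₁ * s⁻¹) (hc.trans (isConj_iff.2 ⟨s, rfl⟩)) ?_ ?_
    · rw [hM', toBlocks_fromBlocks₂₁]; exact hC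
    · rw [hM', toBlocks_fromBlocks₁₁]; omega

/-- A scalar matrix as a unit. -/
def scGL (n : ℕ) (ζ : Kˣ) : GL (Fin n) K := Units.map (Matrix.scalar (Fin n)).toMonoidHom ζ

theorem coe_scGL (n : ℕ) (ζ : Kˣ) : (scGL n ζ : Matrix (Fin n) (Fin n) K) = (ζ : K) • 1 := by
  show Matrix.scalar (Fin n) (ζ : K) = _
  rw [Matrix.scalar_apply, Matrix.smul_one_eq_diagonal]

theorem scGL_commute (n : ℕ) (ζ : Kˣ) (g : GL (Fin n) K) : Commute (scGL n ζ) g :=
  Units.ext (by rw [Units.val_mul, Units.val_mul, coe_scGL, smul_mul_assoc, one_mul, mul_smul_comm, mul_one])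

theorem pow_char_ne_one {p : ℕ} [Fact p.Prime] [CharP K p] {x : K} (hx : x ≠ 1) (N : ℕ) : x ^ p ^ N ≠ 1 := fun h =>
  hx (iterateFrobenius_inj K p N (by rw [iterateFrobenius_def, iterateFrobenius_def, one_pow, h]))

theorem exists_transpose_conj (n : ℕ) : ∃ P : GL (Fin n) K,
    (P : Matrix (Fin n) (Fin n) K) * (jGL n K : Matrix (Fin n) (Fin n) K)
      = (jGL n K : Matrix (Fin n) (Fin n) K)ᵀ * (P : Matrix (Fin n) (Fin n) K) := by
  let P : GL (Fin n) K :=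
    { val := (1 : Matrix (Fin n) (Fin n) K).submatrix Fin.rev id
      inv := (1 : Matrix (Fin n) (Fin n) K).submatrix Fin.rev id
      val_inv := by ext i j; simp [Matrix.mul_apply, Matrix.one_apply, Fin.rev_eq_iff]
      inv_val := by ext i j; simp [Matrix.mul_apply, Matrix.one_apply, Fin.rev_eq_iff] }
  refine ⟨P, ?_⟩
  ext i j
  have hl : ((1 : Matrix (Fin n) (Fin n) K).submatrix Fin.rev id * jmat n K) i j = jmat n K i.rev j := by
    simp [Matrix.mul_apply, Matrix.one_apply]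
  have hr : ((jmat n K)ᵀ * (1 : Matrix (Fin n) (Fin n) K).submatrix Fin.rev id) i j = jmat n K j.rev i := by
    simp [Matrix.mul_apply, Matrix.one_apply, Fin.rev_eq_iff]
  show ((1 : Matrix (Fin n) (Fin n) K).submatrix Fin.rev id * jmat n K) i j
    = ((jmat n K)ᵀ * (1 : Matrix (Fin n) (Fin n) K).submatrix Fin.rev id) i j
  rw [hl, hr]
  have hi := i.isLt
  have hj := j.isLt
  simp only [jmat, Matrix.of_apply, Fin.ext_iff, Fin.val_rev]
  split_ifs <;> first | rfl | omega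

/-- A class of `PSp` whose square is everything. -/
theorem psp_square [Fintype K] (hK : 9 ≤ Fintype.card K) (hm : 2 ≤ m) :
    ∃ c : Cfsg.PSp m K, ∀ g : Cfsg.PSp m K, ∃ x y : Cfsg.PSp m K, g = (x * c * x⁻¹) * (y * c * y⁻¹) := by
  classical
  obtain ⟨p, hp⟩ := CharP.exists K
  haveI : Fact p.Prime := ⟨(CharP.char_is_prime_or_zero K p).resolve_right (CharP.char_ne_zero_of_finite K p)⟩
  obtain ⟨ζ, hζ⟩ : ∃ ζ : Kˣ, (ζ : K) ^ 2 ≠ 1 := by
    obtain ⟨x, hx⟩ := exists_scalar_ne (K := K) (by omega) {0, 1, -1} Finset.card_le_three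
    simp only [Finset.mem_insert, Finset.mem_singleton, not_or] at hx
    exact ⟨Units.mk0 x hx.1, fun h => by
      rcases sq_eq_one_iff.1 (show x ^ 2 = 1 from h) with e | e
      exacts [hx.2.1 e, hx.2.2 e]⟩
  obtain ⟨N, hN⟩ := jGL_pow (K := K) (n := m) p
  set X : GL (Fin m) K := scGL m ζ * jGL m K with hX
  have hpow : (X : Matrix (Fin m) (Fin m) K) ^ p ^ N = diagonal fun _ => (ζ : K) ^ p ^ N := by
    rw [← Units.val_pow_eq_pow_val, hX, (scGL_commute m ζ _).mul_pow, hN, mul_one, Units.val_pow_eq_pow_val,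
      coe_scGL, smul_pow, one_pow, Matrix.smul_one_eq_diagonal]
  have hne : (ζ : K) ^ p ^ N * (ζ : K) ^ p ^ N ≠ 1 := by
    rw [← mul_pow]; exact pow_char_ne_one (by rwa [← sq]) N
  let e : ↥(Matrix.symplecticGroup (Fin m) K) ≃* ↥(spGL m K).range :=
    MonoidHom.ofInjective spGL_injective
  let π : ↥(spGL m K).range →* Cfsg.PSp m K := (QuotientGroup.mk' _).comp e.symm.toMonoidHom
  have hπ : ∀ {g : ↥(spGL m K).range} {r : K},
      ((g : GL (Fin m ⊕ Fin m) K) : Matrix (Fin m ⊕ Fin m) (Fin m ⊕ Fin m) K) = r • 1 → π g = 1 := fun {g r} hg => by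
    obtain ⟨s, rfl⟩ := e.surjective g
    refine (QuotientGroup.eq_one_iff _).2 ?_
    show e.symm (e s) ∈ _
    rw [e.symm_apply_apply, Subgroup.mem_center_iff]
    intro t
    refine Subtype.ext ?_
    show (t : Matrix (Fin m ⊕ Fin m) (Fin m ⊕ Fin m) K) * (s : Matrix (Fin m ⊕ Fin m) (Fin m ⊕ Fin m) K) = _ * _
    rw [show (s : Matrix (Fin m ⊕ Fin m) (Fin m ⊕ Fin m) K) = r • 1 from hg, mul_smul_comm, mul_one, smul_mul_assoc,
      one_mul]
  have hps : Function.Surjective π := (QuotientGroup.mk'_surjective _).comp e.symm.surjective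
  let c : ↥(spGL m K).range := ⟨_, lev_mem_sp X⟩
  refine square_of_cover π hps (c := c) ?_ fun g => ?_
  · rw [← map_inv]
    refine π.map_isConj ?_
    have hJ : Matrix.J (Fin m) K ∈ Matrix.symplecticGroup (Fin m) K := SymplecticGroup.J_mem _ _
    let w : ↥(spGL m K).range := ⟨_, ⟨⟨_, hJ⟩, rfl⟩⟩
    obtain ⟨P, hP⟩ := exists_transpose_conj (K := K) m
    let q : ↥(spGL m K).range := ⟨_, lev_mem_sp P⟩
    -- the transpose of the class is conjugate to it, and the long element inverts and transposes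
    have h1 : levGL m X⁻¹ * (w : GL (Fin m ⊕ Fin m) K) * levGL m P = (w : GL (Fin m ⊕ Fin m) K) * levGL m P * levGL m X := by
      refine Units.ext ?_
      have hw : ((w : GL (Fin m ⊕ Fin m) K) : Matrix (Fin m ⊕ Fin m) (Fin m ⊕ Fin m) K) = fromBlocks 0 (-1) 1 0 := rfl
      have hx : (X : Matrix (Fin m) (Fin m) K)ᵀ * (P : Matrix (Fin m) (Fin m) K)
          = (P : Matrix (Fin m) (Fin m) K) * (X : Matrix (Fin m) (Fin m) K) := by
        simp [hX, coe_scGL, Matrix.transpose_mul, hP]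
      simp only [Units.val_mul, coe_levGL, hw, fromBlocks_multiply, inv_inv, zero_mul, mul_zero, add_zero, zero_add,
        neg_mul, mul_neg, one_mul, mul_one, hx]
      rw [show ((X⁻¹ : GL (Fin m) K) : Matrix (Fin m) (Fin m) K) * ((P⁻¹ : GL (Fin m) K) : Matrix (Fin m) (Fin m) K)ᵀ
        = ((P⁻¹ : GL (Fin m) K) : Matrix (Fin m) (Fin m) K)ᵀ * ((X⁻¹ : GL (Fin m) K) : Matrix (Fin m) (Fin m) K)ᵀ from ?_]
      · rw [neg_zero]
      rw [← Matrix.transpose_inj]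
      simp only [Matrix.transpose_mul, Matrix.transpose_transpose]
      set x' := ((X⁻¹ : GL (Fin m) K) : Matrix (Fin m) (Fin m) K)
      set p' := ((P⁻¹ : GL (Fin m) K) : Matrix (Fin m) (Fin m) K)
      have f1 : x'ᵀ * (X : Matrix (Fin m) (Fin m) K)ᵀ = 1 := by rw [← Matrix.transpose_mul, X.mul_inv, Matrix.transpose_one]
      have h3 : x'ᵀ * (P : Matrix (Fin m) (Fin m) K) = (P : Matrix (Fin m) (Fin m) K) * x' := by
        have h2 := congrArg (fun Z => x'ᵀ * Z * x') hx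
        simp only [← Matrix.mul_assoc, f1, one_mul] at h2
        simp only [Matrix.mul_assoc, show (X : Matrix (Fin m) (Fin m) K) * x' = 1 from X.mul_inv, mul_one] at h2
        exact h2.symm
      calc p' * x'ᵀ = p' * (x'ᵀ * (P : Matrix (Fin m) (Fin m) K)) * p' := by
            simp only [Matrix.mul_assoc, show (P : Matrix (Fin m) (Fin m) K) * p' = 1 from P.mul_inv, mul_one]
        _ = x' * p' := by
            rw [h3, ← Matrix.mul_assoc, show p' * (P : Matrix (Fin m) (Fin m) K) = 1 from P.inv_mul, one_mul]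
    refine isConj_iff.2 ⟨w * q, Subtype.ext ?_⟩
    simp only [Subgroup.coe_mul, InvMemClass.coe_inv, mul_inv_eq_iff_eq_mul, c, q]
    rw [← map_inv, ← h1, mul_assoc]
  · by_cases hns : ∃ r : K, ((g : GL (Fin m ⊕ Fin m) K) : Matrix (Fin m ⊕ Fin m) (Fin m ⊕ Fin m) K) = r • 1
    · obtain ⟨r, hr⟩ := hns
      exact Or.inl (hπ hr)
    refine Or.inr ⟨1, map_one _, ?_⟩
    rw [one_mul]
    obtain ⟨g₁, hc1, hC, hu⟩ := exists_conj_corner (by omega) hm hns
    refine IsPair.of_isConj hc1.symm ?_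
    set M := ((g₁ : GL (Fin m ⊕ Fin m) K) : Matrix (Fin m ⊕ Fin m) (Fin m ⊕ Fin m) K) with hM
    have hg : M = fromBlocks M.toBlocks₁₁ M.toBlocks₁₂ M.toBlocks₂₁ M.toBlocks₂₂ := (fromBlocks_toBlocks M).symm
    set A := M.toBlocks₁₁ with hA
    set C := M.toBlocks₂₁ with hC'
    -- adjust the corner
    have adj : ∀ g₂ : ↥(spGL m K).range, ∀ A' : GL (Fin m) K,
        ((g₂ : GL (Fin m ⊕ Fin m) K) : Matrix (Fin m ⊕ Fin m) (Fin m ⊕ Fin m) K).toBlocks₁₁ = A' →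
        ((A' : Matrix (Fin m) (Fin m) K).det = 1) →
        (¬ ∃ r : K, (A' : Matrix (Fin m) (Fin m) K) = r • 1) → IsPair c g₂ := fun g₂ A' h11 hdet hA' => by
      obtain ⟨P, Q, hP, hQ, hPQ⟩ := sp_decomp (A := A') (g := (g₂ : GL (Fin m ⊕ Fin m) K))
        (by rw [← h11]; exact (fromBlocks_toBlocks _).symm) g₂.2
      obtain ⟨x, y, hxy⟩ := sl_pair (by omega) A' (Or.inl hA') hdet
      refine isPair_lev _ (lev_mem_sp X) (fun S _ h => Matrix.ext fun i j => cong_fixed_zero hpow h hne)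
        (fun S _ h => Matrix.ext fun i j => cong_fixed_zero' hpow h hne) hP hQ (lev_mem_sp x) (lev_mem_sp y) ?_ hPQ
      rw [hxy, hX, ← mul_assoc x, ← mul_assoc y, ← (scGL_commute m ζ x).eq, ← (scGL_commute m ζ y).eq]
      simp only [mul_assoc]
      rw [mul_inv_rev (scGL m ζ)]
      have hc := (scGL_commute m ζ (x * (jGL m K * x⁻¹) * (y * (jGL m K * y⁻¹))⁻¹)).eq
      simp only [← mul_assoc] at hc ⊢
      rw [hc, mul_inv_cancel_right]
    let a : GL (Fin m) K := Matrix.nonsingInvUnit A hu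
    set T := C * ((a⁻¹ : GL (Fin m) K) : Matrix (Fin m) (Fin m) K) with hT
    have hTA : T * A = C := by rw [hT, Matrix.mul_assoc]; exact (congrArg (C * ·) a.inv_mul).trans (mul_one C)
    have hTs : Tᵀ = T := by
      obtain ⟨P, Q, hP, hQ, hPQ⟩ := sp_decomp (A := a) (g := (g₁ : GL (Fin m ⊕ Fin m) K)) hg g₁.2
      have := congrArg (fun Z : GL (Fin m ⊕ Fin m) K => (Z : Matrix (Fin m ⊕ Fin m) (Fin m ⊕ Fin m) K).toBlocks₂₁) hPQ
      simp [coe_loG, coe_levGL, coe_upG, fromBlocks_multiply, ← hM, ← hC'] at this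
      rw [hT, this, Matrix.mul_assoc, a.mul_inv, mul_one]
      exact lo_mem_sp.1 hP
    have hT0 : T ≠ 0 := fun h => hC (by rw [← hTA, h, zero_mul])
    obtain ⟨S₀, hS₀, hdet₀⟩ := sp_det_any hTs hT0 (d := A.det⁻¹)
    -- first make the determinant one
    let s₀ : ↥(spGL m K).range := ⟨_, up_mem_sp.2 hS₀⟩
    refine IsPair.of_isConj (isConj_iff.2 ⟨s₀⁻¹, by group⟩ : IsConj (s₀ * g₁ * s₀⁻¹) g₁) ?_
    have hM₀ : ((s₀ * g₁ * s₀⁻¹ : ↥(spGL m K).range) : GL (Fin m ⊕ Fin m) K).val = _ := conj_up S₀ hg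
    have e₀ : A + S₀ * C = (1 + S₀ * T) * A := by rw [add_mul, one_mul, Matrix.mul_assoc, hTA]
    have hd₀ : (A + S₀ * C).det = 1 := by rw [e₀, Matrix.det_mul, hdet₀, inv_mul_cancel₀ hu.ne_zero]
    let a₀ : GL (Fin m) K := Matrix.nonsingInvUnit _ (by rw [hd₀]; exact isUnit_one : IsUnit (A + S₀ * C).det)
    by_cases hsc : ∃ r : K, A + S₀ * C = r • 1
    swap
    · exact adj _ a₀ (by rw [hM₀, toBlocks_fromBlocks₁₁]; rfl) hd₀ hsc
    obtain ⟨r, hr⟩ := hsc
    have hr0 : r ≠ 0 := fun h => by rw [hr, h, zero_smul, Matrix.det_eq_zero_of_row_eq_zero (⟨0, by omega⟩ : Fin m) fun _ => rfl] at hd₀; exact zero_ne_one hd₀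
    obtain ⟨S₁, hS₁, hdet₁, hns₁⟩ := sp_nonscalar (by omega) hm (P := r⁻¹ • C) (by
      have h := mem_spGL.1 (s₀ * g₁ * s₀⁻¹).2
      rw [hM₀, mem_sp_blocks, hr] at h
      have h1 := h.1
      simp at h1
      rw [Matrix.transpose_smul, smul_right_injective _ hr0 h1]) (smul_ne_zero (inv_ne_zero hr0) hC)
    let s₁ : ↥(spGL m K).range := ⟨_, up_mem_sp.2 hS₁⟩
    refine IsPair.of_isConj (isConj_iff.2 ⟨s₁⁻¹, by group⟩ : IsConj (s₁ * (s₀ * g₁ * s₀⁻¹) * s₁⁻¹) _) ?_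
    have hM₁ : ((s₁ * (s₀ * g₁ * s₀⁻¹) * s₁⁻¹ : ↥(spGL m K).range) : GL (Fin m ⊕ Fin m) K).val = _ := conj_up S₁ hM₀
    have e₁ : A + S₀ * C + S₁ * C = r • (1 + S₁ * (r⁻¹ • C)) := by
      rw [hr, smul_add, mul_smul_comm, smul_smul, mul_inv_cancel₀ hr0, one_smul]
    have hd₁ : (A + S₀ * C + S₁ * C).det = 1 := by
      rw [e₁, Matrix.det_smul, hdet₁, mul_one]
      rw [hr, Matrix.det_smul, Matrix.det_one, mul_one] at hd₀
      exact hd₀
    refine adj _ (Matrix.nonsingInvUnit _ (by rw [hd₁]; exact isUnit_one : IsUnit (A + S₀ * C + S₁ * C).det))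
      (by rw [hM₁, toBlocks_fromBlocks₁₁]; rfl) hd₁ fun ⟨q, hq⟩ => hns₁ (q / r - 1) ?_
    have hq' : r • (1 + S₁ * (r⁻¹ • C)) = q • (1 : Matrix (Fin m) (Fin m) K) := e₁ ▸ hq
    have := congrArg (r⁻¹ • ·) hq'
    simp only [smul_smul, inv_mul_cancel₀ hr0, one_smul] at this
    rw [sub_smul, one_smul, div_eq_inv_mul, ← this, add_sub_cancel_left]

end Cfsg.Lib.ClassSquare
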