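import Cfsg.Agent.Lib.ClassSquare.PSL
import Cfsg.Agent.Lib.ClassSquare.Sp
import Cfsg.Agent.Lib.Linear.OrthParity

/-!
# A class of `PΩ⁺` whose square is the whole group
-/

set_option autoImplicit false

namespace Cfsg.Lib.ClassSquare

open Matrix Cfsg.Lib.Linear.Orth Module
open scoped commutatorElement

variable {K : Type*} [Field K] {m : ℕ}

/-- Alternating matrices. -/
def IsAltM (S : Matrix (Fin m) (Fin m) K) : Prop := ∀ v : Fin m → K, v ⬝ᵥ S *ᵥ v = 0

theorem IsAltM.diag {S : Matrix (Fin m) (Fin m) K} (h : IsAltM S) (i : Fin m) : S i i = 0 := by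
  simpa [single_dotProduct] using h (Pi.single i 1)

theorem IsAltM.swap {S : Matrix (Fin m) (Fin m) K} (h : IsAltM S) (i j : Fin m) : S j i = -S i j := by
  have := h (Pi.single i 1 + Pi.single j 1)
  simp [add_dotProduct, Matrix.mulVec_add, single_dotProduct, h.diag] at this
  linear_combination this

theorem IsAltM.smul {S : Matrix (Fin m) (Fin m) K} (h : IsAltM S) (t : K) : IsAltM (t • S) := fun v => by
  rw [Matrix.smul_mulVec, dotProduct_smul, h v, smul_zero]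

theorem IsAltM.congr {S : Matrix (Fin m) (Fin m) K} (h : IsAltM S) (P : Matrix (Fin m) (Fin m) K) :
    IsAltM (Pᵀ * S * P) := fun v => by
  rw [← Matrix.mulVec_mulVec, ← Matrix.mulVec_mulVec, Matrix.dotProduct_mulVec, Matrix.vecMul_transpose]
  exact h _

theorem isAltM_plane (u w : Fin m → K) : IsAltM (vecMulVec u w - vecMulVec w u) := fun v => by
  simp [Matrix.sub_mulVec, Matrix.vecMulVec_mulVec, dotProduct_comm u v, dotProduct_comm w v]
  ring

/-- `Ω⁺` among the invertible matrices. -/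
abbrev omP (m : ℕ) (K : Type*) [Field K] : Subgroup (GL (Fin m ⊕ Fin m) K) :=
  Cfsg.Geo.omegaGL (Cfsg.quadFormPlus m K)

theorem omP_le {g : GL (Fin m ⊕ Fin m) K} (h : g ∈ omP m K) : g ∈ isometryGroup K (Cfsg.quadFormPlus m K) := by
  obtain ⟨x, -, rfl⟩ := h
  exact x.2

theorem iso_blocks {g : GL (Fin m ⊕ Fin m) K} {A B C D : Matrix (Fin m) (Fin m) K}
    (hg : (g : Matrix (Fin m ⊕ Fin m) (Fin m ⊕ Fin m) K) = fromBlocks A B C D)
    (h : g ∈ isometryGroup K (Cfsg.quadFormPlus m K)) :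
    IsAltM (Aᵀ * C) ∧ IsAltM (Bᵀ * D) ∧ Aᵀ * D + Cᵀ * B = 1 := by
  have hQ : ∀ x y, (A *ᵥ x + B *ᵥ y) ⬝ᵥ (C *ᵥ x + D *ᵥ y) = x ⬝ᵥ y := fun x y => by
    have := mem_iso.1 h (Sum.elim x y)
    rw [quadFormPlus_eq, quadFormPlus_eq, hg, fromBlocks_mulVec] at this
    simpa using this
  have h1 : IsAltM (Aᵀ * C) := fun x => by
    have := hQ x 0
    simp at this
    rwa [← Matrix.mulVec_mulVec, Matrix.dotProduct_mulVec, Matrix.vecMul_transpose]
  have h2 : IsAltM (Bᵀ * D) := fun y => by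
    have := hQ 0 y
    simp at this
    rwa [← Matrix.mulVec_mulVec, Matrix.dotProduct_mulVec, Matrix.vecMul_transpose]
  have key : ∀ x y, x ⬝ᵥ (Aᵀ * D + Cᵀ * B) *ᵥ y = x ⬝ᵥ y := fun x y => by
    have e1 := h1 x
    have e2 := h2 y
    rw [← Matrix.mulVec_mulVec, Matrix.dotProduct_mulVec, Matrix.vecMul_transpose] at e1 e2
    have := hQ x y
    rw [add_dotProduct, dotProduct_add, dotProduct_add, e1, e2, zero_add, add_zero, dotProduct_comm (B *ᵥ y)] at this
    rw [Matrix.add_mulVec, dotProduct_add, ← Matrix.mulVec_mulVec, ← Matrix.mulVec_mulVec,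
      Matrix.dotProduct_mulVec x Aᵀ, Matrix.dotProduct_mulVec x Cᵀ, Matrix.vecMul_transpose, Matrix.vecMul_transpose]
    exact this
  refine ⟨h1, h2, Matrix.ext fun i j => ?_⟩
  simpa [single_dotProduct, Pi.single_apply, Matrix.one_apply, eq_comm] using key (Pi.single i 1) (Pi.single j 1)

theorem up_mem_iso {S : Matrix (Fin m) (Fin m) K} :
    upG S ∈ isometryGroup K (Cfsg.quadFormPlus m K) ↔ IsAltM S := by
  refine ⟨fun h => ?_, fun h => mem_iso.2 fun v => ?_⟩
  · have := (iso_blocks (coe_upG S) h).2.1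
    intro v
    have e := this v
    rw [mul_one] at e
    rwa [Matrix.dotProduct_mulVec, Matrix.vecMul_transpose, dotProduct_comm] at e
  · rw [quadFormPlus_eq, quadFormPlus_eq, coe_upG, fromBlocks_mulVec]
    simp [add_dotProduct, dotProduct_comm (S *ᵥ _), h (v ∘ Sum.inr)]

theorem lo_mem_iso {S : Matrix (Fin m) (Fin m) K} :
    loG S ∈ isometryGroup K (Cfsg.quadFormPlus m K) ↔ IsAltM S := by
  refine ⟨fun h => ?_, fun h => mem_iso.2 fun v => ?_⟩
  · simpa using (iso_blocks (coe_loG S) h).1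
  · rw [quadFormPlus_eq, quadFormPlus_eq, coe_loG, fromBlocks_mulVec]
    simp [dotProduct_add, h (v ∘ Sum.inl)]

theorem comm_mem_omP {a b : GL (Fin m ⊕ Fin m) K} (ha : a ∈ isometryGroup K (Cfsg.quadFormPlus m K))
    (hb : b ∈ isometryGroup K (Cfsg.quadFormPlus m K)) : ⁅a, b⁆ ∈ omP m K :=
  ⟨⁅(⟨a, ha⟩ : ↥(isometryGroup K (Cfsg.quadFormPlus m K))), ⟨b, hb⟩⁆,
    Subgroup.commutator_mem_commutator (Subgroup.mem_top _) (Subgroup.mem_top _), rfl⟩

theorem lev_mem_omP [Fintype K] (hK : 4 ≤ Fintype.card K) (hm : 1 ≤ m) {A : GL (Fin m) K} :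
    levGL m A ∈ omP m K ↔ IsSquare (A : Matrix (Fin m) (Fin m) K).det := by
  rw [← lev_mem_omega_iff hm (Or.inl (by omega)) A]
  refine ⟨fun ⟨x, hx, e⟩ => ?_, fun h => ⟨_, h, rfl⟩⟩
  rwa [show lev m A = x from Subtype.ext e.symm]

theorem up_mem_omP [Fintype K] (hK : 4 ≤ Fintype.card K) {S : Matrix (Fin m) (Fin m) K} :
    (upG S ∈ omP m K ↔ IsAltM S) ∧ (loG S ∈ omP m K ↔ IsAltM S) := by
  classical
  obtain ⟨x, hx⟩ := exists_scalar_ne (K := K) hK {0, 1, -1} Finset.card_le_three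
  simp only [Finset.mem_insert, Finset.mem_singleton, not_or] at hx
  have hx2 : x * x - 1 ≠ 0 := fun h => by
    rcases mul_self_eq_one_iff.1 (sub_eq_zero.1 h) with e | e
    exacts [hx.2.1 e, hx.2.2 e]
  let a : GL (Fin m) K := scGL m (Units.mk0 x hx.1)
  have hai : ((a⁻¹ : GL (Fin m) K) : Matrix (Fin m) (Fin m) K) = x⁻¹ • 1 := by
    rw [show a⁻¹ = scGL m (Units.mk0 x hx.1)⁻¹ from (map_inv _ _).symm, coe_scGL]
    simp
  have hx2' : x⁻¹ * x⁻¹ - 1 ≠ 0 := fun h => hx2 (by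
    rw [sub_eq_zero, ← mul_inv, inv_eq_one] at h
    rw [h, sub_self])
  refine ⟨⟨fun h => up_mem_iso.1 (omP_le h), fun h => ?_⟩, ⟨fun h => lo_mem_iso.1 (omP_le h), fun h => ?_⟩⟩
  · have := comm_mem_omP (levGL_mem a) (up_mem_iso.2 (h.smul (x * x - 1)⁻¹))
    rw [commutatorElement_def, lev_up, upG_inv] at this
    have e : upG ((a : Matrix (Fin m) (Fin m) K) * ((x * x - 1)⁻¹ • S) * (a : Matrix (Fin m) (Fin m) K)ᵀ)
        * upG (-((x * x - 1)⁻¹ • S)) = upG S := by
      rw [upG, upG, upG, ← map_mul, ← ofAdd_add]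
      congr 2
      simp only [a, coe_scGL, Units.val_mk0, Matrix.transpose_smul, Matrix.transpose_one, smul_mul_assoc, one_mul,
        mul_smul_comm, mul_one, smul_smul, ← neg_smul, ← add_smul]
      rw [show x * ((x * x - 1)⁻¹ * x) + -(x * x - 1)⁻¹ = (x * x - 1)⁻¹ * (x * x - 1) by ring, inv_mul_cancel₀ hx2,
        one_smul]
    rwa [← e]
  · have := comm_mem_omP (levGL_mem a) (lo_mem_iso.2 (h.smul (x⁻¹ * x⁻¹ - 1)⁻¹))
    rw [commutatorElement_def, lev_lo, loG_inv] at this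
    have e : loG (((a⁻¹ : GL (Fin m) K) : Matrix (Fin m) (Fin m) K)ᵀ * ((x⁻¹ * x⁻¹ - 1)⁻¹ • S)
        * ((a⁻¹ : GL (Fin m) K) : Matrix (Fin m) (Fin m) K)) * loG (-((x⁻¹ * x⁻¹ - 1)⁻¹ • S)) = loG S := by
      rw [loG, loG, loG, ← map_mul, ← ofAdd_add]
      congr 2
      simp only [hai, Matrix.transpose_smul, Matrix.transpose_one, smul_mul_assoc, one_mul,
        mul_smul_comm, mul_one, smul_smul, ← neg_smul, ← add_smul]
      rw [show x⁻¹ * ((x⁻¹ * x⁻¹ - 1)⁻¹ * x⁻¹) + -(x⁻¹ * x⁻¹ - 1)⁻¹ = (x⁻¹ * x⁻¹ - 1)⁻¹ * (x⁻¹ * x⁻¹ - 1) by ring,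
        inv_mul_cancel₀ hx2', one_smul]
    rwa [← e]

theorem op_decomp [Fintype K] (hK : 4 ≤ Fintype.card K) (hm : 1 ≤ m) {A : GL (Fin m) K}
    {g : GL (Fin m ⊕ Fin m) K} {B C D : Matrix (Fin m) (Fin m) K}
    (hg : (g : Matrix (Fin m ⊕ Fin m) (Fin m ⊕ Fin m) K) = fromBlocks (A : Matrix (Fin m) (Fin m) K) B C D)
    (hH : g ∈ omP m K) :
    ∃ P Q, P * (A : Matrix (Fin m) (Fin m) K) = C ∧ IsAltM P ∧ loG P ∈ omP m K ∧ upG Q ∈ omP m K ∧
      IsSquare (A : Matrix (Fin m) (Fin m) K).det ∧ g = loG P * levGL m A * upG Q := by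
  obtain ⟨h1, -, h3⟩ := iso_blocks hg (omP_le hH)
  set a := ((A⁻¹ : GL (Fin m) K) : Matrix (Fin m) (Fin m) K) with ha
  have e1 : (A : Matrix (Fin m) (Fin m) K) * a = 1 := A.mul_inv
  have e2 : a * (A : Matrix (Fin m) (Fin m) K) = 1 := A.inv_mul
  have e3 : aᵀ * (A : Matrix (Fin m) (Fin m) K)ᵀ = 1 := by rw [← Matrix.transpose_mul, e1, Matrix.transpose_one]
  have hP : IsAltM (C * a) := by
    have := h1.congr a
    rwa [← Matrix.mul_assoc, e3, one_mul] at this
  have hPt : (C * a)ᵀ = -(C * a) := Matrix.ext fun i j => hP.swap i j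
  have hD : D = C * a * B + aᵀ := by
    calc D = aᵀ * ((A : Matrix (Fin m) (Fin m) K)ᵀ * D) := by rw [← Matrix.mul_assoc, e3, one_mul]
      _ = aᵀ * (1 - Cᵀ * B) := by rw [← h3]; simp
      _ = aᵀ - (C * a)ᵀ * B := by rw [Matrix.transpose_mul, Matrix.mul_sub, Matrix.mul_assoc, mul_one]
      _ = _ := by rw [hPt, neg_mul, sub_neg_eq_add, add_comm]
  have e : g = loG (C * a) * levGL m A * upG (a * B) := by
    refine Units.ext ?_
    rw [hg, Units.val_mul, Units.val_mul, coe_loG, coe_levGL, coe_upG, ← ha]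
    simp only [fromBlocks_multiply, mul_zero, zero_mul, add_zero, zero_add, one_mul, mul_one]
    rw [show C * a * (A : Matrix (Fin m) (Fin m) K) = C by rw [Matrix.mul_assoc, e2, mul_one],
      show (A : Matrix (Fin m) (Fin m) K) * (a * B) = B by rw [← Matrix.mul_assoc, e1, one_mul], hD,
      ← Matrix.mul_assoc]
  have hiso : upG (a * B) ∈ isometryGroup K (Cfsg.quadFormPlus m K) := by
    rw [show upG (a * B) = (loG (C * a) * levGL m A)⁻¹ * g by rw [e]; group]
    exact mul_mem (inv_mem (mul_mem (lo_mem_iso.2 hP) (levGL_mem A))) (omP_le hH)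
  have hu := (up_mem_omP hK).1.2 (up_mem_iso.1 hiso)
  have hl := (up_mem_omP hK).2.2 hP
  refine ⟨_, _, by rw [Matrix.mul_assoc, e2, mul_one], hP, hl, hu, (lev_mem_omP hK hm).1 ?_, e⟩
  rw [show levGL m A = (loG (C * a))⁻¹ * g * (upG (a * B))⁻¹ by rw [e]; group]
  exact mul_mem (mul_mem (inv_mem hl) hH) (inv_mem hu)

theorem op_det_any {P : Matrix (Fin m) (Fin m) K} (hP : IsAltM P) (h0 : P ≠ 0) (s : K) :
    ∃ S : Matrix (Fin m) (Fin m) K, IsAltM S ∧ (1 + S * P).det = s * s := by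
  obtain ⟨i, j, hij⟩ : ∃ i j, P i j ≠ 0 := by
    by_contra! hz
    exact h0 (Matrix.ext hz)
  refine ⟨((1 - s) / P i j) • (vecMulVec (Pi.single i 1) (Pi.single j 1) - vecMulVec (Pi.single j 1) (Pi.single i 1)),
    (isAltM_plane _ _).smul _, ?_⟩
  rw [smul_mul_assoc, sub_mul, Matrix.vecMulVec_mul, Matrix.vecMulVec_mul, smul_sub, ← Matrix.smul_vecMulVec,
    ← Matrix.smul_vecMulVec, sub_eq_add_neg, ← Matrix.neg_vecMulVec, det_plane]
  simp [hP.diag, hP.swap i j]
  field_simp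
  ring

theorem op_nonscalar (hm : 3 ≤ m) {P : Matrix (Fin m) (Fin m) K} (hP : IsAltM P) (h0 : P ≠ 0) :
    ∃ S : Matrix (Fin m) (Fin m) K, IsAltM S ∧ (1 + S * P).det = 1 ∧ ∀ c : K, S * P ≠ c • 1 := by
  obtain ⟨i, j, hij⟩ : ∃ i j, P i j ≠ 0 := by
    by_contra! hz
    exact h0 (Matrix.ext hz)
  obtain ⟨k, hki, hkj⟩ : ∃ k : Fin m, k ≠ i ∧ k ≠ j := by
    obtain ⟨k, -, hk⟩ := Finset.exists_mem_notMem_of_card_lt_card (s := ({i, j} : Finset (Fin m)))
      (t := (Finset.univ : Finset (Fin m))) (by rw [Finset.card_univ, Fintype.card_fin]; exact Finset.card_le_two.trans_lt (by omega))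
    simp only [Finset.mem_insert, Finset.mem_singleton, not_or] at hk
    exact ⟨k, hk⟩
  set w : Fin m → K := P i j • Pi.single k 1 - P i k • Pi.single j 1 with hw
  refine ⟨vecMulVec (Pi.single i 1) w - vecMulVec w (Pi.single i 1), isAltM_plane _ _, ?_, fun c hc => ?_⟩
  · rw [sub_mul, Matrix.vecMulVec_mul, Matrix.vecMulVec_mul, sub_eq_add_neg, ← Matrix.neg_vecMulVec, det_plane]
    simp [hw, Matrix.sub_vecMul, Matrix.smul_vecMul, dotProduct_sub, hP.diag, hP.swap i k, hP.swap i j, hki, hkj]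
    ring
  · have := congrFun (congrFun hc k) j
    simp [hw, Matrix.mul_apply, Matrix.sub_apply, vecMulVec_apply, hki, hkj, Matrix.one_apply, Finset.sum_sub_distrib,
      Pi.single_apply] at this
    exact hij this

theorem op_conj_lower [Fintype K] (hK : 4 ≤ Fintype.card K) (hm : 3 ≤ m) {g : ↥(omP m K)}
    (hns : ¬ ∃ c : K, ((g : GL (Fin m ⊕ Fin m) K) : Matrix (Fin m ⊕ Fin m) (Fin m ⊕ Fin m) K) = c • 1) :
    ∃ g', IsConj g g' ∧ ((g' : GL (Fin m ⊕ Fin m) K) : Matrix (Fin m ⊕ Fin m) (Fin m ⊕ Fin m) K).toBlocks₂₁ ≠ 0 := by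
  classical
  by_contra! hall
  set M := ((g : GL (Fin m ⊕ Fin m) K) : Matrix (Fin m ⊕ Fin m) (Fin m ⊕ Fin m) K) with hM
  have hC := hall g (IsConj.refl g)
  have hg : M = fromBlocks M.toBlocks₁₁ M.toBlocks₁₂ 0 M.toBlocks₂₂ := by
    conv_lhs => rw [← fromBlocks_toBlocks M]
    rw [hC]
  set A := M.toBlocks₁₁ with hA
  set B := M.toBlocks₁₂ with hB
  set D := M.toBlocks₂₂ with hD
  have h : ∀ S : Matrix (Fin m) (Fin m) K, IsAltM S → S * A - D * S = 0 ∧ S * B * S = 0 := fun S hS => by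
    have key : ∀ t : K, t • (S * A - D * S) - (t * t) • (S * B * S) = 0 := fun t => by
      have h1 := hall (⟨_, (up_mem_omP hK).2.2 (hS.smul t)⟩ * g * (⟨_, (up_mem_omP hK).2.2 (hS.smul t)⟩)⁻¹)
        (isConj_iff.2 ⟨_, rfl⟩)
      rw [Subgroup.coe_mul, Subgroup.coe_mul, InvMemClass.coe_inv, conj_lo _ hg, toBlocks_fromBlocks₂₁] at h1
      rw [← h1]
      simp [add_mul, smul_sub, smul_smul]
      abel
    obtain ⟨t, ht⟩ := exists_scalar_ne hK {0, 1} (Finset.card_le_two.trans (by norm_num))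
    simp only [Finset.mem_insert, Finset.mem_singleton, not_or] at ht
    have h1 := key 1
    rw [one_smul, one_mul, one_smul, sub_eq_zero] at h1
    have h2 := key t
    rw [h1, ← sub_smul, smul_eq_zero] at h2
    have h3 : S * B * S = 0 := h2.resolve_left fun h => by
      have : t * (1 - t) = 0 := by linear_combination h
      rcases mul_eq_zero.1 this with h | h
      exacts [ht.1 h, ht.2 (sub_eq_zero.1 h).symm]
    exact ⟨by rw [h1, h3], h3⟩
  have halt : ∀ i j : Fin m, IsAltM (single i j (1 : K) - single j i 1) := fun i j => by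
    simpa [Matrix.single_eq_single_vecMulVec_single] using isAltM_plane (Pi.single i (1 : K)) (Pi.single j 1)
  have third : ∀ i k : Fin m, ∃ j : Fin m, j ≠ i ∧ j ≠ k := fun i k => by
    obtain ⟨j, -, hj⟩ := Finset.exists_mem_notMem_of_card_lt_card (s := ({i, k} : Finset (Fin m)))
      (t := (Finset.univ : Finset (Fin m))) (by rw [Finset.card_univ, Fintype.card_fin]; exact Finset.card_le_two.trans_lt (by omega))
    simp only [Finset.mem_insert, Finset.mem_singleton, not_or] at hj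
    exact ⟨j, hj⟩
  have hB0 : B = 0 := by
    ext j i
    rcases eq_or_ne i j with rfl | hij
    · obtain ⟨k, hki, -⟩ := third i i
      have := congrFun (congrFun (h _ (halt k i)).2 k) k
      simpa [sub_mul, mul_sub, Matrix.single_mul_mul_single, hki, Ne.symm hki] using this
    · have := congrFun (congrFun (h _ (halt i j)).2 i) j
      simpa [sub_mul, mul_sub, Matrix.single_mul_mul_single, hij, Ne.symm hij] using this
  -- the other corner is the inverse transpose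
  have hAD : Aᵀ * D = 1 := by
    have := (iso_blocks hg (omP_le g.2)).2.2
    simpa using this
  have hcom : ∀ i j : Fin m, Aᵀ * (single i j (1 : K) - single j i 1) = (single i j (1 : K) - single j i 1) * Dᵀ :=
    fun i j => by
      have h1 := congrArg Matrix.transpose (sub_eq_zero.1 (h _ (halt j i)).1)
      simp only [Matrix.transpose_mul, Matrix.transpose_sub, Matrix.transpose_single] at h1
      exact h1
  have hdiag : ∀ i k, k ≠ i → A i k = 0 := fun i k hki => by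
    obtain ⟨j, hji, hjk⟩ := third i k
    have := congrFun (congrFun (hcom i j) k) j
    simpa [sub_mul, mul_sub, hki, Ne.symm hki, hji, Ne.symm hji, hjk, Ne.symm hjk,
      Matrix.single_mul_apply_of_ne] using this
  have hrel : ∀ i j, i ≠ j → A i i = D j j := fun i j hij => by
    have := congrFun (congrFun (hcom i j) i) j
    simpa [sub_mul, mul_sub, hij, Ne.symm hij] using this
  haveI : NeZero m := ⟨by omega⟩
  have hconst : ∀ i, A i i = A 0 0 := fun i => by
    obtain ⟨j, hji, hj0⟩ := third i 0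
    rw [hrel i j (Ne.symm hji), hrel 0 j (Ne.symm hj0)]
  have hA' : A = A 0 0 • 1 := Matrix.ext fun i j => by
    rcases eq_or_ne i j with rfl | hij
    · simp [hconst i]
    · simp [hdiag i j (Ne.symm hij), hij]
  have hD' : D = A 0 0 • 1 := Matrix.ext fun i j => by
    rcases eq_or_ne i j with rfl | hij
    · obtain ⟨j, hji, -⟩ := third i i
      simp [← hrel j i hji, hconst j]
    · have h0 : A 0 0 ≠ 0 := fun h0 => by
        rw [hA', h0, zero_smul, Matrix.transpose_zero, zero_mul] at hAD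
        exact zero_ne_one (congrFun (congrFun hAD i) i |>.trans (Matrix.one_apply_eq i))
      rw [hA', Matrix.transpose_smul, Matrix.transpose_one, smul_mul_assoc, one_mul] at hAD
      have := congrFun (congrFun hAD i) j
      simp [hij, h0] at this
      simp [this, hij]
  refine hns ⟨A 0 0, ?_⟩
  rw [hg, hB0, hA', hD']
  ext i j
  rcases i with i | i <;> rcases j with j | j <;> simp [Matrix.one_apply]

theorem op_conj_corner [Fintype K] (hK : 4 ≤ Fintype.card K) (hm : 3 ≤ m) {g : ↥(omP m K)}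
    (hns : ¬ ∃ c : K, ((g : GL (Fin m ⊕ Fin m) K) : Matrix (Fin m ⊕ Fin m) (Fin m ⊕ Fin m) K) = c • 1) :
    ∃ g', IsConj g g' ∧ ((g' : GL (Fin m ⊕ Fin m) K) : Matrix (Fin m ⊕ Fin m) (Fin m ⊕ Fin m) K).toBlocks₂₁ ≠ 0 ∧
      IsUnit ((g' : GL (Fin m ⊕ Fin m) K) : Matrix (Fin m ⊕ Fin m) (Fin m ⊕ Fin m) K).toBlocks₁₁.det := by
  classical
  suffices h : ∀ (n : ℕ) (g₁ : ↥(omP m K)), IsConj g g₁ →
      ((g₁ : GL (Fin m ⊕ Fin m) K) : Matrix (Fin m ⊕ Fin m) (Fin m ⊕ Fin m) K).toBlocks₂₁ ≠ 0 →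
      m ≤ ((g₁ : GL (Fin m ⊕ Fin m) K) : Matrix (Fin m ⊕ Fin m) (Fin m ⊕ Fin m) K).toBlocks₁₁.rank + n →
      ∃ g', IsConj g g' ∧ ((g' : GL (Fin m ⊕ Fin m) K) : Matrix (Fin m ⊕ Fin m) (Fin m ⊕ Fin m) K).toBlocks₂₁ ≠ 0 ∧
      IsUnit ((g' : GL (Fin m ⊕ Fin m) K) : Matrix (Fin m ⊕ Fin m) (Fin m ⊕ Fin m) K).toBlocks₁₁.det by
    obtain ⟨g₁, hc, hC⟩ := op_conj_lower hK hm hns
    exact h m g₁ hc hC (Nat.le_add_left _ _)
  intro n
  induction n using Nat.strong_induction_on with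
  | h n ih =>
    intro g₁ hc hC hn
    set M := ((g₁ : GL (Fin m ⊕ Fin m) K) : Matrix (Fin m ⊕ Fin m) (Fin m ⊕ Fin m) K) with hM
    have hg : M = fromBlocks M.toBlocks₁₁ M.toBlocks₁₂ M.toBlocks₂₁ M.toBlocks₂₂ := (fromBlocks_toBlocks M).symm
    set A := M.toBlocks₁₁ with hA
    set C := M.toBlocks₂₁ with hC'
    by_cases hu : IsUnit A.det
    · exact ⟨g₁, hc, hC, hu⟩
    obtain ⟨x, hx0, hAx⟩ := Matrix.exists_mulVec_eq_zero_iff.2 (by rwa [isUnit_iff_ne_zero, not_not] at hu)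
    have hinj : ∀ y, A *ᵥ y = 0 → C *ᵥ y = 0 → y = 0 := fun y hAy hCy => by
      have e : M *ᵥ Sum.elim y 0 = 0 := by
        rw [hg, fromBlocks_mulVec]
        simp [hAy, hCy]
      have e' : Sum.elim y (0 : Fin m → K) = 0 := by
        rw [hM] at e
        rw [← inv_act (g₁ : GL (Fin m ⊕ Fin m) K) (Sum.elim y 0), e, Matrix.mulVec_zero]
      exact funext fun i => congrFun e' (Sum.inl i)
    -- a second independent vector of the kernel
    have hpar : finrank K (LinearMap.ker A.mulVecLin) % 2 = 0 := by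
      obtain ⟨Bf, CC⟩ := exists_space_plus (F := K) m
      let L : (Fin m → K) →ₗ[K] (Fin m ⊕ Fin m → K) :=
        { toFun := fun y => Sum.elim y 0
          map_add' := fun a b => by funext i; rcases i with i | i <;> simp
          map_smul' := fun r a => by funext i; rcases i with i | i <;> simp }
      let R : (Fin m → K) →ₗ[K] (Fin m ⊕ Fin m → K) :=
        { toFun := fun y => Sum.elim 0 y
          map_add' := fun a b => by funext i; rcases i with i | i <;> simp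
          map_smul' := fun r a => by funext i; rcases i with i | i <;> simp }
      have hLi : Function.Injective L := fun a b h => funext fun i => congrFun h (Sum.inl i)
      have hRi : Function.Injective R := fun a b h => funext fun i => congrFun h (Sum.inr i)
      have hL : IsHalf (Cfsg.quadFormPlus m K) (LinearMap.range L) := by
        refine ⟨?_, by rw [LinearMap.finrank_range_of_inj hLi]; simp; omega⟩
        rintro _ ⟨y, rfl⟩
        simp [L, Cfsg.quadFormPlus]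
      have hR : IsHalf (Cfsg.quadFormPlus m K) (LinearMap.range R) := by
        refine ⟨?_, by rw [LinearMap.finrank_range_of_inj hRi]; simp; omega⟩
        rintro _ ⟨y, rfl⟩
        simp [R, Cfsg.quadFormPlus]
      have hp := omega_parity CC (by simp; omega) g₁.2 hR hL
      have e0 : LinearMap.range R ⊓ LinearMap.range L = ⊥ := by
        rw [eq_bot_iff]
        rintro z ⟨⟨a, ha⟩, ⟨b, hb⟩⟩
        refine (Submodule.mem_bot K).2 (funext fun i => ?_)
        rcases i with i | i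
        · rw [← ha]; rfl
        · rw [← hb]; rfl
      have e1 : LinearMap.range R ⊓ img (g₁ : GL (Fin m ⊕ Fin m) K) (LinearMap.range L)
          = (LinearMap.ker A.mulVecLin).map ((Matrix.mulVecLin M).comp L) := by
        ext z
        constructor
        · rintro ⟨⟨a, ha⟩, ⟨_, ⟨b, rfl⟩, hb⟩⟩
          refine ⟨b, LinearMap.mem_ker.2 (funext fun i => ?_), hb⟩
          have := congrFun (hb.trans ha.symm) (Sum.inl i)
          rw [Matrix.mulVecLin_apply, ← hM, hg, fromBlocks_mulVec] at this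
          simpa [L, R] using this
        · rintro ⟨b, hb, rfl⟩
          refine ⟨⟨C *ᵥ b, ?_⟩, ⟨L b, ⟨b, rfl⟩, rfl⟩⟩
          show Sum.elim (0 : Fin m → K) (C *ᵥ b) = M *ᵥ Sum.elim b (0 : Fin m → K)
          rw [hg, fromBlocks_mulVec]
          simp [show A *ᵥ b = 0 from LinearMap.mem_ker.1 hb, ← hC']
      rw [e0, finrank_bot, e1, ← (Submodule.equivMapOfInjective ((Matrix.mulVecLin M).comp L)
        (by rw [LinearMap.coe_comp]; exact (act_injective (g₁ : GL (Fin m ⊕ Fin m) K)).comp hLi) _).finrank_eq] at hp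
      simpa using hp
    obtain ⟨i, hi⟩ := Function.ne_iff.1 (show C *ᵥ x ≠ 0 from fun h => hx0 (hinj x hAx h))
    obtain ⟨y, hy0, hAy, hyi⟩ : ∃ y, y ≠ 0 ∧ A *ᵥ y = 0 ∧ (C *ᵥ y) i = 0 := by
      by_contra! hno
      have hle : finrank K (LinearMap.ker A.mulVecLin) ≤ 1 := by
        refine finrank_le_one (⟨x, LinearMap.mem_ker.2 hAx⟩ : LinearMap.ker A.mulVecLin) fun y => ⟨(C *ᵥ y.1) i / (C *ᵥ x) i, ?_⟩
        refine Subtype.ext ?_
        by_contra hne
        refine hno (y.1 - ((C *ᵥ y.1) i / (C *ᵥ x) i) • x) (sub_ne_zero.2 (Ne.symm hne)) ?_ ?_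
        · rw [Matrix.mulVec_sub, Matrix.mulVec_smul, hAx, smul_zero, sub_zero]
          exact LinearMap.mem_ker.1 y.2
        · simp [Matrix.mulVec_sub, Matrix.mulVec_smul, div_mul_cancel₀ _ hi]
      have h1 : 0 < finrank K (LinearMap.ker A.mulVecLin) :=
        finrank_pos_iff_exists_ne_zero.2 ⟨⟨x, LinearMap.mem_ker.2 hAx⟩, fun h => hx0 (congrArg Subtype.val h)⟩
      omega
    obtain ⟨j, hj⟩ := Function.ne_iff.1 (show C *ᵥ y ≠ 0 from fun h => hy0 (hinj y hAy h))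
    set u : Fin m → K := ((C *ᵥ x) i)⁻¹ • Pi.single i 1 with hu'
    set v : Fin m → K := ((C *ᵥ y) j)⁻¹ • (Pi.single j 1 - ((C *ᵥ x) j / (C *ᵥ x) i) • Pi.single i 1) with hv'
    have hux : u ⬝ᵥ C *ᵥ x = 1 := by simp [hu', inv_mul_cancel₀ hi]
    have huy : u ⬝ᵥ C *ᵥ y = 0 := by simp [hu', hyi]
    have hvx : v ⬝ᵥ C *ᵥ x = 0 := by simp [hv', sub_dotProduct, div_mul_cancel₀ _ hi]
    have hvy : v ⬝ᵥ C *ᵥ y = 1 := by simp [hv', sub_dotProduct, hyi, inv_mul_cancel₀ hj]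
    set S := vecMulVec u v - vecMulVec v u with hS
    let s : ↥(omP m K) := ⟨_, (up_mem_omP hK).1.2 (show IsAltM S from isAltM_plane u v)⟩
    have hM' : ((s * g₁ * s⁻¹ : ↥(omP m K)) : GL (Fin m ⊕ Fin m) K).val = _ := conj_up S hg
    have hlt : A.rank < (A + S * C).rank := by
      have hz : ∀ z, (A + S * C) *ᵥ z = A *ᵥ z + ((v ⬝ᵥ C *ᵥ z) • u - (u ⬝ᵥ C *ᵥ z) • v) := fun z => by
        rw [Matrix.add_mulVec, ← Matrix.mulVec_mulVec, hS, Matrix.sub_mulVec, Matrix.vecMulVec_mulVec,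
          Matrix.vecMulVec_mulVec]
        simp
      have hu1 : u ∈ LinearMap.range (A + S * C).mulVecLin :=
        ⟨y, by rw [Matrix.mulVecLin_apply, hz, hAy, hvy, huy]; simp⟩
      have hv1 : v ∈ LinearMap.range (A + S * C).mulVecLin :=
        ⟨-x, by rw [Matrix.mulVecLin_apply, Matrix.mulVec_neg, hz, hAx, hvx, hux]; simp⟩
      refine rank_lt_of_image (fun z => ?_) hu1 ?_
      · have : A *ᵥ z = (A + S * C) *ᵥ z - ((v ⬝ᵥ C *ᵥ z) • u - (u ⬝ᵥ C *ᵥ z) • v) := by rw [hz]; abel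
        rw [this]
        exact Submodule.sub_mem _ ⟨z, rfl⟩ (Submodule.sub_mem _ (Submodule.smul_mem _ _ hu1) (Submodule.smul_mem _ _ hv1))
      · rintro ⟨z, hz'⟩
        have key : ∀ q, (A *ᵥ q) ⬝ᵥ (C *ᵥ q) = 0 := fun q => by
          have h := (iso_blocks hg (omP_le g₁.2)).1 q
          rwa [← Matrix.mulVec_mulVec, Matrix.dotProduct_mulVec, Matrix.vecMul_transpose] at h
        have hAz : A *ᵥ z = u := hz'
        have k1 := key (z + x)
        have k2 := key z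
        rw [Matrix.mulVec_add, Matrix.mulVec_add, hAx, add_zero, hAz, dotProduct_add, hux] at k1
        rw [hAz] at k2
        rw [k2, zero_add] at k1
        exact one_ne_zero k1
    refine ih (n - 1) (by
      have h1 := (A + S * C).rank_le_height
      omega) (s * g₁ * s⁻¹) (hc.trans (isConj_iff.2 ⟨s, rfl⟩)) ?_ ?_
    · rw [hM', toBlocks_fromBlocks₂₁]; exact hC
    · rw [hM', toBlocks_fromBlocks₁₁]; omega

/-- The exceptional rank one targets and the others. -/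
theorem isPair_cMid [Fintype K] (hK : 9 ≤ Fintype.card K) {k : ℕ} {ζ : Kˣ} (hζ : (ζ : K) ^ 2 ≠ 1)
    (A : GL (Fin (k + 1)) K) (hdet : (A : Matrix (Fin (k + 1)) (Fin (k + 1)) K).det = 1)
    (hns : ¬ ∃ c : K, (A : Matrix (Fin (k + 1)) (Fin (k + 1)) K) = c • 1) : IsPair (cMid k ζ) A := by
  by_cases hex : ∀ ν : K, ν ≠ 1 → ν ^ k = 1 → 2 ≤ k → 2 ≤ ((A : Matrix (Fin (k + 1)) (Fin (k + 1)) K) - ν • 1).rank
  · exact isPair_mid hK hζ A hdet (Or.inr ⟨hns, hex⟩)
  push Not at hex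
  obtain ⟨ν, hν1, hνk, hk, hr⟩ := hex
  have hν0 : ν ≠ 0 := fun h => by rw [h, zero_pow (by omega : k ≠ 0)] at hνk; exact zero_ne_one hνk
  have h2 : ((ζ⁻¹ : Kˣ) : K) ≠ 1 := fun h => hζ (by
    have := ζ.mul_inv
    rw [h, mul_one] at this
    rw [this, one_pow])
  obtain ⟨B, e, c⟩ := exists_bidi_bord (α := ζ⁻¹) (A := jGL k K) (d := fun _ => 1)
    (by rw [coe_jGL, jmat_eq_bidi]) fun _ => Ne.symm h2
  refine isPair_rankOne c e A (μ := Units.mk0 ν hν0) (by simpa using Nat.le_of_lt_succ hr) hdet ?_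
  simpa [pow_succ, hνk] using hν1

/-- The swaps of coordinate pairs. -/
def swM (T : Finset (Fin m)) : Matrix (Fin m ⊕ Fin m) (Fin m ⊕ Fin m) K :=
  fromBlocks (diagonal fun i => if i ∈ T then 0 else 1) (diagonal fun i => if i ∈ T then 1 else 0)
    (diagonal fun i => if i ∈ T then 1 else 0) (diagonal fun i => if i ∈ T then 0 else 1)

theorem swM_sq (T : Finset (Fin m)) : swM (K := K) T * swM T = 1 := by
  rw [swM, fromBlocks_multiply, ← fromBlocks_one]
  simp only [diagonal_mul_diagonal, diagonal_add, ← diagonal_one, ← diagonal_zero]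
  congr 1 <;> congr 1 <;> funext i <;> split_ifs <;> simp

/-- The swap as a unit. -/
def swG (T : Finset (Fin m)) : GL (Fin m ⊕ Fin m) K := ⟨swM T, swM T, swM_sq T, swM_sq T⟩

theorem swG_mem (T : Finset (Fin m)) : (swG T : GL (Fin m ⊕ Fin m) K) ∈ isometryGroup K (Cfsg.quadFormPlus m K) :=
  mem_iso.2 fun v => by
    rw [show (swG T : GL (Fin m ⊕ Fin m) K).val = swM T from rfl, swM, quadFormPlus_eq, quadFormPlus_eq,
      fromBlocks_mulVec]
    simp only [Sum.elim_comp_inl, Sum.elim_comp_inr, dotProduct, Pi.add_apply, mulVec_diagonal, Function.comp_apply]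
    exact Finset.sum_congr rfl fun i _ => by
      simp only [Sum.elim_inl, Sum.elim_inr, Pi.add_apply, mulVec_diagonal, Function.comp_apply]
      split_ifs <;> ring

theorem swG_union {S T : Finset (Fin m)} (h : Disjoint S T) :
    (swG (S ∪ T) : GL (Fin m ⊕ Fin m) K) = swG S * swG T := by
  refine Units.ext ?_
  show swM (S ∪ T) = swM S * swM T
  rw [swM, swM, swM, fromBlocks_multiply]
  simp only [diagonal_mul_diagonal, diagonal_add]
  congr 1 <;> congr 1 <;> funext i <;>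
    by_cases h1 : i ∈ S <;> by_cases h2 : i ∈ T <;>
    first | exact absurd h2 (Finset.disjoint_left.1 h h1) | simp [h1, h2]

theorem swG_pair_mem {i j : Fin m} (hij : i ≠ j) : (swG {i, j} : GL (Fin m ⊕ Fin m) K) ∈ omP m K := by
  let σ : Equiv.Perm (Fin m) := Equiv.swap i j
  let p : GL (Fin m) K :=
    { val := (1 : Matrix (Fin m) (Fin m) K).submatrix σ id
      inv := (1 : Matrix (Fin m) (Fin m) K).submatrix σ id
      val_inv := by ext a b; simp [Matrix.mul_apply, Matrix.one_apply, Equiv.swap_apply_eq_iff, σ]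
      inv_val := by ext a b; simp [Matrix.mul_apply, Matrix.one_apply, Equiv.swap_apply_eq_iff, σ] }
  have hpv : (levGL m p : GL (Fin m ⊕ Fin m) K).val = (1 : Matrix (Fin m ⊕ Fin m) (Fin m ⊕ Fin m) K).submatrix
      (Equiv.sumCongr σ σ) id := by
    rw [coe_levGL]
    ext a b
    have hs : ∀ a b : Fin m, (b = σ a ↔ a = σ b) := fun a b => by
      constructor <;> rintro rfl <;> simp [σ]
    have hs' : ∀ a b : Fin m, (σ a = b ↔ a = σ b) := fun a b => by simp [σ, Equiv.swap_apply_eq_iff]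
    rcases a with a | a <;> rcases b with b | b <;>
      simp [p, Matrix.one_apply, Matrix.inv_def, hs, hs']
  have hl : ∀ (X : Matrix (Fin m ⊕ Fin m) (Fin m ⊕ Fin m) K) a b,
      ((levGL m p : GL (Fin m ⊕ Fin m) K).val * X) a b = X (Equiv.sumCongr σ σ a) b := fun X a b => by
    rw [hpv]; simp [Matrix.mul_apply, Matrix.one_apply]
  have hr : ∀ (X : Matrix (Fin m ⊕ Fin m) (Fin m ⊕ Fin m) K) a b,
      (X * (levGL m p : GL (Fin m ⊕ Fin m) K).val) a b = X a (Equiv.sumCongr σ σ b) := fun X a b => by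
    rw [hpv]
    rcases b with b | b <;>
      simp [Matrix.mul_apply, Matrix.one_apply, Fintype.sum_sum_type, Equiv.swap_apply_eq_iff, σ]
  have hconj : levGL m p * (swG {i} : GL (Fin m ⊕ Fin m) K) * (levGL m p)⁻¹ = swG {j} := by
    refine mul_inv_eq_iff_eq_mul.2 (Units.ext ?_)
    rw [Units.val_mul, Units.val_mul]
    ext a b
    rw [hl, hr]
    show swM {i} (Equiv.sumCongr σ σ a) b = swM {j} a (Equiv.sumCongr σ σ b)
    have e : ∀ x, σ x = i ↔ x = j := fun x => by simp [σ, Equiv.swap_apply_eq_iff]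
    have e' : ∀ x y, σ x = y ↔ x = σ y := fun x y => by simp [σ, Equiv.swap_apply_eq_iff]
    have hss : ∀ x, σ (σ x) = x := fun x => Equiv.swap_apply_self _ _ _
    rcases a with a | a <;> rcases b with b | b <;>
      simp only [swM, Equiv.sumCongr_apply, Sum.map_inl, Sum.map_inr, fromBlocks_apply₁₁, fromBlocks_apply₁₂,
        fromBlocks_apply₂₁, fromBlocks_apply₂₂, Matrix.diagonal_apply, Finset.mem_singleton] <;>
      by_cases h : σ a = b
    all_goals first
      | (subst h; rw [hss, if_pos rfl, if_pos rfl]; simp only [e])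
      | rw [if_neg h, if_neg fun h' => h ((e' a b).2 h')]
  have := comm_mem_omP (swG_mem (K := K) {i}) (levGL_mem p)
  have hsi : ((swG {i} : GL (Fin m ⊕ Fin m) K))⁻¹ = swG {i} := Units.ext rfl
  rw [commutatorElement_def, hsi, mul_assoc, mul_assoc, ← mul_assoc (levGL m p), hconj,
    ← swG_union (by simpa using hij)] at this
  rwa [Finset.insert_eq]

theorem swG_even_mem : ∀ (n : ℕ) (T : Finset (Fin m)), T.card = 2 * n → (swG T : GL (Fin m ⊕ Fin m) K) ∈ omP m K := by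
  intro n
  induction n with
  | zero =>
    intro T hT
    rw [Finset.card_eq_zero.1 hT, show (swG ∅ : GL (Fin m ⊕ Fin m) K) = 1 from Units.ext (by
      show swM ∅ = 1
      simp [swM])]
    exact one_mem _
  | succ n ih =>
    intro T hT
    obtain ⟨i, hi⟩ := Finset.card_pos.1 (show 0 < T.card by omega)
    obtain ⟨j, hj⟩ := Finset.card_pos.1 (show 0 < (T.erase i).card by rw [Finset.card_erase_of_mem hi]; omega)
    obtain ⟨hji, hjT⟩ := Finset.mem_erase.1 hj
    have e : T = {i, j} ∪ (T.erase i).erase j := by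
      ext x
      by_cases h1 : x = i <;> by_cases h2 : x = j <;> simp [h1, h2, hi, hjT]
    rw [e, swG_union (by simp)]
    exact mul_mem (swG_pair_mem (Ne.symm hji)) (ih _ (by
      rw [Finset.card_erase_of_mem hj, Finset.card_erase_of_mem hi]; omega))

theorem bord_one_single {k : ℕ} (B : GL (Fin (k + 1)) K) (h : ∃ A : Matrix (Fin k) (Fin k) K,
    (B : Matrix (Fin (k + 1)) (Fin (k + 1)) K) = bmat 1 0 0 A) :
    single (0 : Fin (k + 1)) 0 (1 : K) * (B : Matrix (Fin (k + 1)) (Fin (k + 1)) K) = single 0 0 1 ∧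
      (B : Matrix (Fin (k + 1)) (Fin (k + 1)) K) * single 0 0 1 = single 0 0 1 := by
  obtain ⟨A, hA⟩ := h
  constructor <;> ext i j <;>
    rcases Fin.eq_zero_or_eq_succ i with rfl | ⟨i, rfl⟩ <;>
    rcases Fin.eq_zero_or_eq_succ j with rfl | ⟨j, rfl⟩ <;>
    simp [hA, Matrix.mul_apply, Fin.sum_univ_succ, Matrix.single_apply, Fin.succ_ne_zero, (Fin.succ_ne_zero _).symm]

set_option synthInstance.maxHeartbeats 400000 in
set_option maxHeartbeats 1000000 in
/-- A class of `PΩ⁺` whose square is everything. -/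
theorem pomega_plus_square [Fintype K] (hK : 9 ≤ Fintype.card K) {k : ℕ} (hm : 3 ≤ k + 1) :
    ∃ c : Cfsg.POmega K (Cfsg.quadFormPlus (k + 1) K), ∀ g : Cfsg.POmega K (Cfsg.quadFormPlus (k + 1) K),
      ∃ x y : Cfsg.POmega K (Cfsg.quadFormPlus (k + 1) K), g = (x * c * x⁻¹) * (y * c * y⁻¹) := by
  classical
  obtain ⟨p, hp⟩ := CharP.exists K
  haveI : Fact p.Prime := ⟨(CharP.char_is_prime_or_zero K p).resolve_right (CharP.char_ne_zero_of_finite K p)⟩
  obtain ⟨η, hη⟩ : ∃ η : Kˣ, ((η : K) ^ 2) ^ 2 ≠ 1 := by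
    obtain ⟨x, -, hx⟩ := Finset.exists_mem_notMem_of_card_lt_card
      (s := insert (0 : K) (Polynomial.nthRoots 4 (1 : K)).toFinset) (t := (Finset.univ : Finset K)) (by
        have := (Multiset.toFinset_card_le _).trans (Polynomial.card_nthRoots 4 (1 : K))
        have := Finset.card_insert_le (0 : K) (Polynomial.nthRoots 4 (1 : K)).toFinset
        rw [Finset.card_univ]
        omega)
    simp only [Finset.mem_insert, Multiset.mem_toFinset, Polynomial.mem_nthRoots (show 0 < 4 by norm_num), not_or] at hx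
    exact ⟨Units.mk0 x hx.1, fun h => hx.2 (by rw [← h]; simp [← pow_mul])⟩
  set ζ : Kˣ := η ^ 2 with hζdef
  have hζv : (ζ : K) = (η : K) ^ 2 := by rw [hζdef, Units.val_pow_eq_pow_val]
  have hζ : (ζ : K) ^ 2 ≠ 1 := by rw [hζv]; exact hη
  have hζ1 : (ζ : K) ≠ 1 := fun h => hζ (by rw [h, one_pow])
  obtain ⟨N, hN⟩ := jGL_pow (K := K) (n := k) p
  set X : GL (Fin (k + 1)) K := scGL (k + 1) ζ * cMid k ζ with hX
  have hpow : (X : Matrix (Fin (k + 1)) (Fin (k + 1)) K) ^ p ^ N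
      = diagonal (Fin.cases 1 fun _ => (ζ : K) ^ p ^ N) := by
    rw [← Units.val_pow_eq_pow_val, hX, (scGL_commute _ ζ _).mul_pow, cMid, bord, ← map_pow bordHom, Prod.pow_mk,
      Units.val_mul, Units.val_pow_eq_pow_val, coe_scGL, smul_pow, one_pow, smul_mul_assoc, one_mul, hN]
    ext i j
    rcases Fin.eq_zero_or_eq_succ i with rfl | ⟨i, rfl⟩ <;> rcases Fin.eq_zero_or_eq_succ j with rfl | ⟨j, rfl⟩
    · simp [bordHom, ← mul_pow]
    · simp [bordHom, (Fin.succ_ne_zero j).symm]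
    · simp [bordHom, Fin.succ_ne_zero i]
    · simp [bordHom, Matrix.one_apply, Matrix.diagonal_apply]
  have hq1 : (ζ : K) ^ p ^ N ≠ 1 := pow_char_ne_one hζ1 N
  have hq2 : (ζ : K) ^ p ^ N * (ζ : K) ^ p ^ N ≠ 1 := by rw [← mul_pow]; exact pow_char_ne_one (by rwa [← sq]) N
  have hfix : ∀ i j : Fin (k + 1), i = j ∨
      (Fin.cases 1 (fun _ => (ζ : K) ^ p ^ N) i : K) * Fin.cases 1 (fun _ => (ζ : K) ^ p ^ N) j ≠ 1 := fun i j => by
    rcases Fin.eq_zero_or_eq_succ i with rfl | ⟨i, rfl⟩ <;> rcases Fin.eq_zero_or_eq_succ j with rfl | ⟨j, rfl⟩ <;>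
      simp [hq1, hq2]
  have hXdet : (X : Matrix (Fin (k + 1)) (Fin (k + 1)) K).det = ((η : K) ^ k) * (η : K) ^ k := by
    rw [hX, Units.val_mul, coe_scGL, Matrix.det_mul, Matrix.det_smul, Matrix.det_one, mul_one, Fintype.card_fin, cMid,
      coe_bord, det_bmat_low, coe_jGL, det_jmat, mul_one, pow_succ, mul_assoc, ζ.mul_inv, mul_one, hζv, ← mul_pow, sq]
  have hXm : levGL (k + 1) X ∈ omP (k + 1) K := (lev_mem_omP (by omega) (by omega)).2 ⟨_, hXdet⟩
  have one_lev : ∀ x : GL (Fin (k + 1)) K, (x : Matrix (Fin (k + 1)) (Fin (k + 1)) K).det = 1 →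
      levGL (k + 1) x ∈ omP (k + 1) K := fun x h => (lev_mem_omP (by omega) (by omega)).2 (h ▸ IsSquare.one)
  let H := omP (k + 1) K
  let c : ↥H := ⟨_, hXm⟩
  let e : ↥(Cfsg.Omega K (Cfsg.quadFormPlus (k + 1) K)) ≃* ↥H :=
    Subgroup.equivMapOfInjective _ _ (Subgroup.subtype_injective _)
  let π : ↥H →* Cfsg.POmega K (Cfsg.quadFormPlus (k + 1) K) := (QuotientGroup.mk' _).comp e.symm.toMonoidHom
  have hπ : ∀ {g : ↥H} {r : K}, ((g : GL (Fin (k + 1) ⊕ Fin (k + 1)) K) :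
      Matrix (Fin (k + 1) ⊕ Fin (k + 1)) (Fin (k + 1) ⊕ Fin (k + 1)) K) = r • 1 → π g = 1 := fun {g r} hg => by
    obtain ⟨s, rfl⟩ := e.surjective g
    refine (QuotientGroup.eq_one_iff _).2 ?_
    show e.symm (e s) ∈ _
    rw [e.symm_apply_apply, Subgroup.mem_center_iff]
    intro t
    refine Subtype.ext (Subtype.ext (Units.ext ?_))
    have hg' : ((s : ↥(isometryGroup K (Cfsg.quadFormPlus (k + 1) K))) : GL (Fin (k + 1) ⊕ Fin (k + 1)) K).val = r • 1 := hg
    simp only [Subgroup.coe_mul, Units.val_mul, hg', mul_smul_comm, mul_one, smul_mul_assoc, one_mul]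
  have hps : Function.Surjective π := (QuotientGroup.mk'_surjective _).comp e.symm.surjective
  refine square_of_cover π hps (c := c) ?_ fun g => ?_
  · rw [← map_inv]
    refine π.map_isConj ?_
    obtain ⟨P₀, hP₀⟩ := exists_transpose_conj (K := K) k
    set P : GL (Fin (k + 1)) K := bord (Matrix.GeneralLinearGroup.det P₀)⁻¹ P₀ with hP
    have hPd : (P : Matrix (Fin (k + 1)) (Fin (k + 1)) K).det = 1 := by
      rw [hP, coe_bord, det_bmat_low]
      exact (Matrix.GeneralLinearGroup.det P₀).inv_mul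
    have hx : (X : Matrix (Fin (k + 1)) (Fin (k + 1)) K)ᵀ * (P : Matrix (Fin (k + 1)) (Fin (k + 1)) K)
        = (P : Matrix (Fin (k + 1)) (Fin (k + 1)) K) * (X : Matrix (Fin (k + 1)) (Fin (k + 1)) K) := by
      rw [hX, hP, Units.val_mul, coe_scGL, cMid, coe_bord, coe_bord]
      simp only [smul_mul_assoc, one_mul, Matrix.transpose_smul, mul_smul_comm]
      congr 1
      ext i j
      have hJ := fun a b => congrFun (congrFun hP₀ a) b
      simp only [Matrix.mul_apply] at hJ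
      rcases Fin.eq_zero_or_eq_succ i with rfl | ⟨i, rfl⟩ <;> rcases Fin.eq_zero_or_eq_succ j with rfl | ⟨j, rfl⟩ <;>
        simp [Matrix.mul_apply, Fin.sum_univ_succ, mul_comm]
      simpa [mul_comm] using (hJ i j).symm
    obtain ⟨T, hT, hT'⟩ : ∃ T : Finset (Fin (k + 1)), (∃ n, T.card = 2 * n) ∧
        (T = Finset.univ ∨ T = Finset.univ.erase 0) := by
      rcases Nat.even_or_odd k with ⟨a, ha⟩ | ⟨a, ha⟩
      · exact ⟨_, ⟨a, by rw [Finset.card_erase_of_mem (Finset.mem_univ _), Finset.card_univ, Fintype.card_fin]; omega⟩, Or.inr rfl⟩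
      · exact ⟨_, ⟨a + 1, by rw [Finset.card_univ, Fintype.card_fin]; omega⟩, Or.inl rfl⟩
    obtain ⟨n, hn⟩ := hT
    -- the long element transposes and inverts, the short swap fixes the class
    set xt := (X : Matrix (Fin (k + 1)) (Fin (k + 1)) K)ᵀ with hxt
    let Xt : GL (Fin (k + 1)) K := ⟨xt, ((X⁻¹ : GL (Fin (k + 1)) K) : Matrix (Fin (k + 1)) (Fin (k + 1)) K)ᵀ,
      by rw [hxt, ← Matrix.transpose_mul, X.inv_mul, Matrix.transpose_one],
      by rw [hxt, ← Matrix.transpose_mul, X.mul_inv, Matrix.transpose_one]⟩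
    have hPX : levGL (k + 1) P * levGL (k + 1) X * (levGL (k + 1) P)⁻¹ = levGL (k + 1) Xt := by
      rw [← map_inv, ← map_mul, ← map_mul]
      exact congrArg _ (mul_inv_eq_iff_eq_mul.2 (Units.ext hx.symm))
    have hw : (swG Finset.univ : GL (Fin (k + 1) ⊕ Fin (k + 1)) K) * levGL (k + 1) Xt * (swG Finset.univ)⁻¹
        = levGL (k + 1) X⁻¹ := by
      refine mul_inv_eq_iff_eq_mul.2 (Units.ext ?_)
      show swM Finset.univ * fromBlocks xt 0 0 (((X⁻¹ : GL (Fin (k + 1)) K) : Matrix (Fin (k + 1)) (Fin (k + 1)) K)ᵀ)ᵀ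
        = fromBlocks ((X⁻¹ : GL (Fin (k + 1)) K) : Matrix (Fin (k + 1)) (Fin (k + 1)) K) 0 0
          ((X⁻¹⁻¹ : GL (Fin (k + 1)) K) : Matrix (Fin (k + 1)) (Fin (k + 1)) K)ᵀ * swM Finset.univ
      simp [swM, fromBlocks_multiply, inv_inv, hxt]
    have hs0 : (swG {0} : GL (Fin (k + 1) ⊕ Fin (k + 1)) K) * levGL (k + 1) Xt * (swG {0})⁻¹ = levGL (k + 1) Xt := by
      refine mul_inv_eq_iff_eq_mul.2 (Units.ext ?_)
      have hb : ∀ Y : GL (Fin k) K, ∃ A : Matrix (Fin k) (Fin k) K,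
          ((scGL (k + 1) ζ * bord ζ⁻¹ Y : GL (Fin (k + 1)) K) : Matrix (Fin (k + 1)) (Fin (k + 1)) K) = bmat 1 0 0 A :=
        fun Y => ⟨(ζ : K) • (Y : Matrix (Fin k) (Fin k) K), by
          rw [Units.val_mul, coe_scGL, coe_bord, smul_mul_assoc, one_mul]
          refine bmat_ext ?_ (fun j => ?_) (fun i => ?_) fun i j => ?_ <;> simp⟩
      obtain ⟨l1, r1⟩ := bord_one_single X (by rw [hX]; exact hb _)
      obtain ⟨l2, r2⟩ := bord_one_single X⁻¹ (by
        obtain ⟨A, hA⟩ := hb (jGL k K)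
        refine ⟨((ζ⁻¹ : Kˣ) : K) • ((jGL k K)⁻¹ : GL (Fin k) K), ?_⟩
        rw [hX, _root_.mul_inv_rev, show (scGL (k + 1) ζ)⁻¹ = scGL (k + 1) ζ⁻¹ from (map_inv _ _).symm,
          ← (scGL_commute (k + 1) ζ⁻¹ (cMid k ζ)⁻¹).eq, cMid, bord, ← map_inv bordHom, Prod.inv_mk, inv_inv, Units.val_mul, coe_scGL,
          smul_mul_assoc, one_mul]
        refine bmat_ext ?_ (fun j => ?_) (fun i => ?_) fun i j => ?_ <;> simp [bordHom])
      have t1 := congrArg Matrix.transpose l1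
      have t2 := congrArg Matrix.transpose r1
      simp only [Matrix.transpose_mul, Matrix.transpose_single] at t1 t2
      show swM {0} * fromBlocks xt 0 0 (((X⁻¹ : GL (Fin (k + 1)) K) : Matrix (Fin (k + 1)) (Fin (k + 1)) K)ᵀ)ᵀ
        = fromBlocks xt 0 0 (((X⁻¹ : GL (Fin (k + 1)) K) : Matrix (Fin (k + 1)) (Fin (k + 1)) K)ᵀ)ᵀ * swM {0}
      have d1 : (diagonal fun i : Fin (k + 1) => if i = 0 then (1 : K) else 0) = single 0 0 1 := by
        ext a b
        rcases eq_or_ne a b with rfl | hab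
        · by_cases ha : a = 0 <;> simp [ha, Matrix.single_apply, eq_comm]
        · simp [hab, Matrix.single_apply]; rintro rfl; exact fun h => hab h
      have d0 : (diagonal fun i : Fin (k + 1) => if i = 0 then (0 : K) else 1) = 1 - single 0 0 1 := by
        rw [← d1, ← diagonal_one, diagonal_sub]
        congr 1; funext i; split_ifs <;> simp
      simp only [swM, Finset.mem_singleton]
      rw [d0, d1]
      simp only [fromBlocks_multiply, Matrix.transpose_transpose, hxt, sub_mul, mul_sub, one_mul, mul_one, mul_zero, zero_mul, add_zero, zero_add, t1, t2, l2, r2, sub_zero]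
    have hh : ∃ w : GL (Fin (k + 1) ⊕ Fin (k + 1)) K, w ∈ H ∧ w * levGL (k + 1) Xt * w⁻¹ = levGL (k + 1) X⁻¹ := by
      refine ⟨swG T, swG_even_mem n T hn, ?_⟩
      rcases hT' with rfl | rfl
      · exact hw
      · have : (swG Finset.univ : GL (Fin (k + 1) ⊕ Fin (k + 1)) K) = swG (Finset.univ.erase 0) * swG {0} := by
          rw [← swG_union (by simp)]
          congr 1
          ext a
          by_cases ha : a = 0 <;> simp [ha]
        have hs : swG (Finset.univ.erase 0) = (swG Finset.univ : GL (Fin (k + 1) ⊕ Fin (k + 1)) K) * (swG {0})⁻¹ := by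
          rw [this, mul_inv_cancel_right]
        rw [hs]
        conv_lhs => rw [show levGL (k + 1) Xt = swG {0} * levGL (k + 1) Xt * (swG {0})⁻¹ from hs0.symm]
        rw [← hw]
        group
    obtain ⟨w, hwH, hwc⟩ := hh
    refine isConj_iff.2 ⟨⟨_, hwH⟩ * ⟨_, one_lev P hPd⟩, Subtype.ext ?_⟩
    show w * levGL (k + 1) P * levGL (k + 1) X * (w * levGL (k + 1) P)⁻¹ = (levGL (k + 1) X)⁻¹
    rw [← map_inv (levGL (k + 1)) X, ← hwc, ← hPX]
    group
  · by_cases hns : ∃ r : K, ((g : GL (Fin (k + 1) ⊕ Fin (k + 1)) K) :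
        Matrix (Fin (k + 1) ⊕ Fin (k + 1)) (Fin (k + 1) ⊕ Fin (k + 1)) K) = r • 1
    · obtain ⟨r, hr⟩ := hns
      exact Or.inl (hπ hr)
    refine Or.inr ⟨1, map_one _, ?_⟩
    rw [one_mul]
    obtain ⟨g₁, hc1, hC, hu⟩ := op_conj_corner (by omega) hm hns
    refine IsPair.of_isConj hc1.symm ?_
    set M := ((g₁ : GL (Fin (k + 1) ⊕ Fin (k + 1)) K) :
      Matrix (Fin (k + 1) ⊕ Fin (k + 1)) (Fin (k + 1) ⊕ Fin (k + 1)) K) with hM
    have hg : M = fromBlocks M.toBlocks₁₁ M.toBlocks₁₂ M.toBlocks₂₁ M.toBlocks₂₂ := (fromBlocks_toBlocks M).symm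
    set A := M.toBlocks₁₁ with hA
    set C := M.toBlocks₂₁ with hC'
    -- conjugators of determinant one
    have fix1 : ∀ {b : GL (Fin (k + 1)) K}, IsConj (cMid k ζ) b → ∃ x : GL (Fin (k + 1)) K,
        (x : Matrix (Fin (k + 1)) (Fin (k + 1)) K).det = 1 ∧ x * cMid k ζ * x⁻¹ = b := fun {b} hb => by
      obtain ⟨x, hx⟩ := isConj_iff.1 hb
      set d : Kˣ := Matrix.GeneralLinearGroup.det x
      have hD : Commute (bord d⁻¹ (1 : GL (Fin k) K)) (cMid k ζ) := by
        show bordHom (d⁻¹, 1) * bordHom (ζ⁻¹, jGL k K) = bordHom (ζ⁻¹, jGL k K) * bordHom (d⁻¹, 1)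
        rw [← map_mul, ← map_mul, Prod.mk_mul_mk, Prod.mk_mul_mk, mul_comm d⁻¹, one_mul, mul_one]
      refine ⟨x * bord d⁻¹ 1, ?_, ?_⟩
      · rw [Units.val_mul, Matrix.det_mul, coe_bord, det_bmat_low, Units.val_one, Matrix.det_one, mul_one]
        exact d.mul_inv
      · rw [← hx, _root_.mul_inv_rev, mul_assoc x, hD.eq]
        group
    have adj : ∀ g₂ : ↥H, ∀ A' : GL (Fin (k + 1)) K,
        ((g₂ : GL (Fin (k + 1) ⊕ Fin (k + 1)) K) :
          Matrix (Fin (k + 1) ⊕ Fin (k + 1)) (Fin (k + 1) ⊕ Fin (k + 1)) K).toBlocks₁₁ = A' →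
        ((A' : Matrix (Fin (k + 1)) (Fin (k + 1)) K).det = 1) →
        (¬ ∃ r : K, (A' : Matrix (Fin (k + 1)) (Fin (k + 1)) K) = r • 1) → IsPair c g₂ := fun g₂ A' h11 hdet hA' => by
      obtain ⟨P, Q, -, -, hP, hQ, -, hPQ⟩ := op_decomp (by omega) (by omega) (A := A')
        (g := (g₂ : GL (Fin (k + 1) ⊕ Fin (k + 1)) K)) (by rw [← h11]; exact (fromBlocks_toBlocks _).symm) g₂.2
      obtain ⟨a, b, ha, hb, hab⟩ := isPair_cMid hK hζ A' hdet hA'
      obtain ⟨x, hxd, rfl⟩ := fix1 ha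
      obtain ⟨y, hyd, rfl⟩ := fix1 hb
      have zero_of : ∀ {S : Matrix (Fin (k + 1)) (Fin (k + 1)) K}, IsAltM S →
          (∀ i j, (Fin.cases 1 (fun _ => (ζ : K) ^ p ^ N) i : K) * Fin.cases 1 (fun _ => (ζ : K) ^ p ^ N) j ≠ 1 →
            S i j = 0) → S = 0 := fun {S} hS h => Matrix.ext fun i j => by
        rcases hfix i j with rfl | h'
        · exact hS.diag i
        · exact h i j h'
      refine isPair_lev _ hXm (fun S hS h => zero_of ((up_mem_omP (by omega)).1.1 hS) fun i j h' => cong_fixed_zero hpow h h')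
        (fun S hS h => zero_of ((up_mem_omP (by omega)).2.1 hS) fun i j h' => cong_fixed_zero' hpow h h')
        hP hQ (one_lev x hxd) (one_lev y hyd) ?_ hPQ
      rw [hab, hX, ← mul_assoc x, ← mul_assoc y, ← (scGL_commute _ ζ x).eq, ← (scGL_commute _ ζ y).eq]
      simp only [mul_assoc]
      rw [_root_.mul_inv_rev (scGL (k + 1) ζ)]
      have hc := (scGL_commute _ ζ (x * (cMid k ζ * x⁻¹) * (y * (cMid k ζ * y⁻¹))⁻¹)).eq
      simp only [← mul_assoc] at hc ⊢
      rw [hc, mul_inv_cancel_right]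
    let a : GL (Fin (k + 1)) K := Matrix.nonsingInvUnit A hu
    obtain ⟨T, Q₀, hTA, hTa, -, -, ⟨r₀, hr₀⟩, -⟩ :=
      op_decomp (by omega) (by omega) (A := a) (g := (g₁ : GL (Fin (k + 1) ⊕ Fin (k + 1)) K)) hg g₁.2
    replace hTA : T * A = C := hTA
    replace hr₀ : A.det = r₀ * r₀ := hr₀
    have hT0 : T ≠ 0 := fun h => hC (by rw [← hTA, h, zero_mul])
    obtain ⟨S₀, hS₀, hdet₀⟩ := op_det_any hTa hT0 r₀⁻¹
    -- first make the determinant one
    let s₀ : ↥H := ⟨_, (up_mem_omP (by omega)).1.2 hS₀⟩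
    refine IsPair.of_isConj (isConj_iff.2 ⟨s₀⁻¹, by group⟩ : IsConj (s₀ * g₁ * s₀⁻¹) g₁) ?_
    have hM₀ : ((s₀ * g₁ * s₀⁻¹ : ↥H) : GL (Fin (k + 1) ⊕ Fin (k + 1)) K).val = _ := conj_up S₀ hg
    have e₀ : A + S₀ * C = (1 + S₀ * T) * A := by rw [add_mul, one_mul, Matrix.mul_assoc, hTA]
    have hd₀ : (A + S₀ * C).det = 1 := by
      rw [e₀, Matrix.det_mul, hdet₀, ← mul_inv, ← hr₀, inv_mul_cancel₀ hu.ne_zero]
    let a₀ : GL (Fin (k + 1)) K := Matrix.nonsingInvUnit _ (by rw [hd₀]; exact isUnit_one : IsUnit (A + S₀ * C).det)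
    by_cases hsc : ∃ r : K, A + S₀ * C = r • 1
    swap
    · exact adj _ a₀ (by rw [hM₀, toBlocks_fromBlocks₁₁]; rfl) hd₀ hsc
    obtain ⟨r, hr⟩ := hsc
    have hr0 : r ≠ 0 := fun h => by
      rw [hr, h, zero_smul, Matrix.det_eq_zero_of_row_eq_zero (0 : Fin (k + 1)) fun _ => rfl] at hd₀
      exact zero_ne_one hd₀
    obtain ⟨S₁, hS₁, hdet₁, hns₁⟩ := op_nonscalar hm (P := r⁻¹ • C) (by
      have h := (iso_blocks hM₀ (omP_le (s₀ * g₁ * s₀⁻¹).2)).1
      rw [hr, Matrix.transpose_smul, Matrix.transpose_one, smul_mul_assoc, one_mul] at h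
      have := h.smul (r⁻¹ * r⁻¹)
      rwa [smul_smul, mul_assoc, inv_mul_cancel₀ hr0, mul_one] at this) (smul_ne_zero (inv_ne_zero hr0) hC)
    let s₁ : ↥H := ⟨_, (up_mem_omP (by omega)).1.2 hS₁⟩
    refine IsPair.of_isConj (isConj_iff.2 ⟨s₁⁻¹, by group⟩ : IsConj (s₁ * (s₀ * g₁ * s₀⁻¹) * s₁⁻¹) _) ?_
    have hM₁ : ((s₁ * (s₀ * g₁ * s₀⁻¹) * s₁⁻¹ : ↥H) : GL (Fin (k + 1) ⊕ Fin (k + 1)) K).val = _ := conj_up S₁ hM₀
    have e₁ : A + S₀ * C + S₁ * C = r • (1 + S₁ * (r⁻¹ • C)) := by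
      rw [hr, smul_add, mul_smul_comm, smul_smul, mul_inv_cancel₀ hr0, one_smul]
    have hd₁ : (A + S₀ * C + S₁ * C).det = 1 := by
      rw [e₁, Matrix.det_smul, hdet₁, mul_one]
      rw [hr, Matrix.det_smul, Matrix.det_one, mul_one] at hd₀
      exact hd₀
    refine adj _ (Matrix.nonsingInvUnit _ (by rw [hd₁]; exact isUnit_one : IsUnit (A + S₀ * C + S₁ * C).det))
      (by rw [hM₁, toBlocks_fromBlocks₁₁]; rfl) hd₁ fun ⟨q, hq⟩ => hns₁ (q / r - 1) ?_
    have hq' : r • (1 + S₁ * (r⁻¹ • C)) = q • (1 : Matrix (Fin (k + 1)) (Fin (k + 1)) K) := e₁ ▸ hq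
    have := congrArg (r⁻¹ • ·) hq'
    simp only [smul_smul, inv_mul_cancel₀ hr0, one_smul] at this
    rw [sub_smul, one_smul, div_eq_inv_mul, ← this, add_sub_cancel_left]

end Cfsg.Lib.ClassSquare
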