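import Cfsg.Agent.Lib.ClassSquare.RankOne

/-!
# A class of `PSL_n` whose square is the whole group
-/

set_option autoImplicit false

namespace Cfsg.Lib.ClassSquare

open Matrix
open scoped MatrixGroups

variable {K : Type*} [Field K]

/-- A field with at least nine elements has a unit avoiding three given values of degree at most two. -/
theorem exists_unit_sq_ne [Fintype K] (hK : 5 ≤ Fintype.card K) : ∃ ζ : Kˣ, (ζ : K) ^ 2 ≠ 1 := by
  classical
  obtain ⟨x, -, hx⟩ := Finset.exists_mem_notMem_of_card_lt_card (s := ({0, 1, -1} : Finset K))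
    (t := (Finset.univ : Finset K)) (by
      rw [Finset.card_univ]
      exact lt_of_le_of_lt Finset.card_le_three (by omega))
  simp only [Finset.mem_insert, Finset.mem_singleton, not_or] at hx
  exact ⟨Units.mk0 x hx.1, fun h => by
    rcases sq_eq_one_iff.1 (show x ^ 2 = 1 from h) with e | e
    exacts [hx.2.1 e, hx.2.2 e]⟩

theorem card_roots_le (j : ℕ) (hj : 0 < j) (s : Finset K) (hs : ∀ x ∈ s, x ^ j = 1) : s.card ≤ j := by
  classical
  have hsub : s ⊆ (Polynomial.nthRoots j (1 : K)).toFinset := fun x hx => by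
    rw [Multiset.mem_toFinset, Polynomial.mem_nthRoots hj]
    exact hs x hx
  exact (Finset.card_le_card hsub).trans ((Multiset.toFinset_card_le _).trans (Polynomial.card_nthRoots j 1))

/-- The inner block of the class. -/
noncomputable def cMid (k : ℕ) (ζ : Kˣ) : GL (Fin (k + 1)) K := bord ζ⁻¹ (jGL k K)

/-- The class of `SL_n`. -/
noncomputable def cOut (k : ℕ) (ζ : Kˣ) : GL (Fin (k + 2)) K := bord ζ (cMid k ζ)

theorem jGL_sub_isUnit {k : ℕ} {α : K} (hα : α ≠ 1) :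
    IsUnit ((jGL k K : Matrix (Fin k) (Fin k) K) - α • 1).det := by
  rw [coe_jGL, jmat_eq_bidi, det_bidi_sub, isUnit_iff_ne_zero]
  exact Finset.prod_ne_zero_iff.2 fun i _ => sub_ne_zero.2 (Ne.symm hα)

theorem cMid_sub_isUnit {k : ℕ} {ζ : Kˣ} (hζ : (ζ : K) ^ 2 ≠ 1) :
    IsUnit ((cMid k ζ : Matrix (Fin (k + 1)) (Fin (k + 1)) K) - (ζ : K) • 1).det := by
  have h1 : (ζ : K) ≠ 1 := fun h => hζ (by rw [h, one_pow])
  have e : (cMid k ζ : Matrix (Fin (k + 1)) (Fin (k + 1)) K) - (ζ : K) • 1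
      = bmat (((ζ⁻¹ : Kˣ) : K) - ζ) 0 0 ((jGL k K : Matrix (Fin k) (Fin k) K) - (ζ : K) • 1) := by
    rw [cMid, coe_bord]
    refine bmat_ext ?_ (fun j => ?_) (fun i => ?_) fun i j => ?_
    · simp
    · simp [(Fin.succ_ne_zero j).symm]
    · simp [Fin.succ_ne_zero i]
    · simp [Matrix.one_apply]
  rw [e, det_bmat_low]
  refine IsUnit.mul (isUnit_iff_ne_zero.2 (sub_ne_zero.2 fun h => hζ ?_)) (jGL_sub_isUnit h1)
  rw [sq]
  nth_rewrite 1 [← h]
  exact ζ.inv_mul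

theorem det_cOut (k : ℕ) (ζ : Kˣ) : (cOut k ζ : Matrix (Fin (k + 2)) (Fin (k + 2)) K).det = 1 := by
  rw [cOut, coe_bord, det_bmat_low, cMid, coe_bord, det_bmat_low, coe_jGL, det_jmat, mul_one]
  exact ζ.mul_inv

theorem cOut_isConj_bidi {k : ℕ} {ζ : Kˣ} (hζ : (ζ : K) ^ 2 ≠ 1) : ∃ (B : GL (Fin (k + 2)) K) (d : Fin (k + 2) → K),
    (B : Matrix (Fin (k + 2)) (Fin (k + 2)) K) = bidi d ∧ IsConj (cOut k ζ) B := by
  have h1 : (ζ : K) ≠ 1 := fun h => hζ (by rw [h, one_pow])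
  have h2 : ((ζ⁻¹ : Kˣ) : K) ≠ 1 := fun h => h1 (by
    have := ζ.mul_inv
    rwa [h, mul_one] at this)
  obtain ⟨B₁, e₁, c₁⟩ := exists_bidi_bord (α := ζ⁻¹) (A := jGL k K) (d := fun _ => 1)
    (by rw [coe_jGL, jmat_eq_bidi]) fun _ => Ne.symm h2
  obtain ⟨B₂, e₂, c₂⟩ := exists_bidi_bord (α := ζ) e₁ fun i => by
    refine Fin.cases ?_ ?_ i
    · simp only [Fin.cons_zero]
      intro h
      exact hζ (by rw [sq]; nth_rewrite 1 [← h]; exact ζ.inv_mul)
    · intro i; simpa using Ne.symm h1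
  obtain ⟨g, hg⟩ := isConj_iff.1 c₁
  refine ⟨B₂, _, e₂, IsConj.trans (isConj_iff.2 ⟨bord 1 g, ?_⟩) c₂⟩
  rw [← hg, cOut, cMid]
  simp only [bord, ← map_inv, ← map_mul, Prod.inv_mk, Prod.mk_mul_mk, inv_one, one_mul, mul_one]

theorem det_coe_inv {m : ℕ} {g : GL (Fin m) K} (h : (g : Matrix (Fin m) (Fin m) K).det = 1) :
    ((g⁻¹ : GL (Fin m) K) : Matrix (Fin m) (Fin m) K).det = 1 := by
  rw [Matrix.coe_units_inv, Matrix.det_nonsing_inv, h, Ring.inverse_one]

theorem scalar_fin_one (S : Matrix (Fin 1) (Fin 1) K) (h : S.det = 1) : S = 1 := by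
  ext i j
  obtain rfl := Subsingleton.elim i 0
  obtain rfl := Subsingleton.elim j 0
  rw [Matrix.det_fin_one] at h
  simp [h]

variable [Fintype K]

/-- The second step: the Schur complement. -/
theorem isPair_mid (hK : 9 ≤ Fintype.card K) {k : ℕ} {ζ : Kˣ} (hζ : (ζ : K) ^ 2 ≠ 1) (S : GL (Fin (k + 1)) K)
    (hdet : (S : Matrix (Fin (k + 1)) (Fin (k + 1)) K).det = 1)
    (hS : S = 1 ∨ (¬ ∃ c : K, (S : Matrix (Fin (k + 1)) (Fin (k + 1)) K) = c • 1) ∧
      ∀ ν : K, ν ≠ 1 → ν ^ k = 1 → 2 ≤ k → 2 ≤ ((S : Matrix (Fin (k + 1)) (Fin (k + 1)) K) - ν • 1).rank) :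
    IsPair (cMid k ζ) S := by
  classical
  rcases hS with rfl | ⟨hns, hrk⟩
  · exact isPair_one _
  have hk : 1 ≤ k := by
    rcases Nat.eq_zero_or_pos k with rfl | h
    · exact absurd ⟨1, by rw [one_smul]; exact scalar_fin_one _ hdet⟩ hns
    · exact h
  let s : Finset K := Finset.univ.filter fun ν => ν ≠ 1 ∧ ν ^ k = 1
  have hs : ∀ ν ∈ s, ν ≠ 0 := fun ν hν h => by
    obtain ⟨-, -, hν⟩ := Finset.mem_filter.1 hν
    rw [h, zero_pow (by omega : k ≠ 0)] at hν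
    exact zero_ne_one hν
  obtain ⟨P, h00, hP⟩ := exists_peel (by omega) hk _ hns (one_ne_zero (α := K)) s ∅ hs
    (fun h2 => (card_roots_le k (by omega) _ fun x hx => (Finset.mem_filter.1 hx).2.2).trans h2) (by simp)
  refine IsPair.of_isConj (isConj_iff.2 ⟨P⁻¹, by group⟩ : IsConj (P * S * P⁻¹) S) ?_
  have h1 : ((P * S * P⁻¹ : GL (Fin (k + 1)) K) : Matrix (Fin (k + 1)) (Fin (k + 1)) K) 0 0 = 1 := h00
  have hd : (schur ((P * S * P⁻¹ : GL (Fin (k + 1)) K) : Matrix (Fin (k + 1)) (Fin (k + 1)) K)).det = 1 := by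
    rw [det_schur _ h1, Units.val_mul, Units.val_mul, Matrix.det_mul, Matrix.det_mul, hdet, mul_one,
      ← Matrix.det_mul, Units.mul_inv, Matrix.det_one]
  let S' : GL (Fin k) K := schurGL _ (by rw [hd]; exact isUnit_one)
  have h2 : ((ζ⁻¹ : Kˣ) : K) ≠ 1 := fun h => hζ (by
    have := ζ.mul_inv
    rw [h, mul_one] at this
    rw [this, one_pow])
  refine isPair_bord (jGL_sub_isUnit h2) h1 (coe_schurGL _ (by rw [hd]; exact isUnit_one)) ?_
  by_cases hsc : ∃ c : K, (S' : Matrix (Fin k) (Fin k) K) = c • 1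
  · obtain ⟨c, hc⟩ := hsc
    have hck : c ^ k = 1 := by
      have := hd
      rw [show schur _ = c • (1 : Matrix (Fin k) (Fin k) K) from hc, Matrix.det_smul, Matrix.det_one, mul_one,
        Fintype.card_fin] at this
      exact this
    rcases eq_or_ne c 1 with rfl | hc1
    · have : S' = 1 := Units.ext (by rw [hc, one_smul]; rfl)
      rw [show schurGL _ _ = S' from rfl, this]
      exact isPair_one _
    · exfalso
      rcases eq_or_lt_of_le hk with e | e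
      · subst e
        exact hc1 (by simpa using hck)
      · have := (hP c (Finset.mem_filter.2 ⟨Finset.mem_univ _, hc1, hck⟩) (hrk c hc1 hck e) e).1
        have hc' : schur ((P * S * P⁻¹ : GL (Fin (k + 1)) K) : Matrix (Fin (k + 1)) (Fin (k + 1)) K) = c • 1 := hc
        simp only [Units.val_mul] at this hc'
        rw [hc', sub_self, Matrix.rank_zero] at this
        omega
  · obtain ⟨P', Q', h⟩ := sl_pair (by omega) S' (Or.inl hsc) hd
    exact ⟨_, _, isConj_iff.2 ⟨P', rfl⟩, isConj_iff.2 ⟨Q', rfl⟩, h⟩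

/-- The first step, away from the rank one exceptions. -/
theorem isPair_out (hK : 9 ≤ Fintype.card K) {k : ℕ} {ζ : Kˣ} (hζ : (ζ : K) ^ 2 ≠ 1) (M : GL (Fin (k + 2)) K)
    (hdet : (M : Matrix (Fin (k + 2)) (Fin (k + 2)) K).det = 1)
    (hns : ¬ ∃ c : K, (M : Matrix (Fin (k + 2)) (Fin (k + 2)) K) = c • 1)
    (hrk : ∀ ν : K, ν ≠ 0 → ν ≠ 1 → 1 ≤ k → 2 ≤ ((M : Matrix (Fin (k + 2)) (Fin (k + 2)) K) - ν • 1).rank) :
    IsPair (cOut k ζ) M := by
  classical
  let s : Finset K := Finset.univ.filter fun ν => ν ≠ 0 ∧ ν ≠ 1 ∧ (0 < k ∧ ν ^ k = 1 ∨ ν ^ (k + 1) = 1)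
  let T : Finset K := Finset.univ.filter fun ν => ν ≠ 1 ∧ 0 < k ∧ ν ^ k = 1
  have hcard : k ≤ 1 → s.card ≤ 2 := fun hk1 => by
    refine card_roots_le 2 (by norm_num) _ fun x hx => ?_
    obtain ⟨-, -, hx1, hx⟩ := Finset.mem_filter.1 hx
    rcases hx with ⟨h0, h⟩ | h
    · obtain rfl : k = 1 := by omega
      exact absurd (by simpa using h) hx1
    · interval_cases k
      · exact absurd (by simpa using h) hx1
      · exact h
  obtain ⟨P, h00, hP⟩ := exists_peel (n := k + 1) (by omega) (by omega) _ hns (one_ne_zero (α := K)) s T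
    (fun ν hν => (Finset.mem_filter.1 hν).2.1) (fun h => hcard (by omega)) (fun h => by
      obtain rfl : k = 2 := by omega
      have h2 : (insert 1 T).card ≤ 2 := card_roots_le 2 (by norm_num) _ fun x hx => by
        rcases Finset.mem_insert.1 hx with rfl | hx
        · simp
        · exact (Finset.mem_filter.1 hx).2.2.2
      rw [Finset.card_insert_of_notMem (fun h => (Finset.mem_filter.1 h).2.1 rfl)] at h2
      omega)
  refine IsPair.of_isConj (isConj_iff.2 ⟨P⁻¹, by group⟩ : IsConj (P * M * P⁻¹) M) ?_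
  have h1 : ((P * M * P⁻¹ : GL (Fin (k + 2)) K) : Matrix (Fin (k + 2)) (Fin (k + 2)) K) 0 0 = 1 := h00
  have hd : (schur ((P * M * P⁻¹ : GL (Fin (k + 2)) K) : Matrix (Fin (k + 2)) (Fin (k + 2)) K)).det = 1 := by
    rw [det_schur _ h1, Units.val_mul, Units.val_mul, Matrix.det_mul, Matrix.det_mul, hdet, mul_one,
      ← Matrix.det_mul, Units.mul_inv, Matrix.det_one]
  refine isPair_bord (cMid_sub_isUnit hζ) h1 (coe_schurGL _ (by rw [hd]; exact isUnit_one))
    (isPair_mid hK hζ _ hd ?_)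
  by_cases hsc : ∃ c : K, schur ((P * M * P⁻¹ : GL (Fin (k + 2)) K) : Matrix (Fin (k + 2)) (Fin (k + 2)) K) = c • 1
  · refine Or.inl (Units.ext ?_)
    obtain ⟨c, hc⟩ := hsc
    have hck : c ^ (k + 1) = 1 := by
      have := hd
      rwa [hc, Matrix.det_smul, Matrix.det_one, mul_one, Fintype.card_fin] at this
    rcases eq_or_ne c 1 with rfl | hc1
    · rw [coe_schurGL, hc, one_smul]; rfl
    · exfalso
      have hc0 : c ≠ 0 := fun h => by rw [h, zero_pow (Nat.succ_ne_zero k)] at hck; exact zero_ne_one hck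
      rcases Nat.eq_zero_or_pos k with rfl | hk
      · exact hc1 (by simpa using hck)
      · have := (hP c (Finset.mem_filter.2 ⟨Finset.mem_univ _, hc0, hc1, Or.inr hck⟩) (hrk c hc0 hc1 hk) (by omega)).1
        have hc' : schur ((P * M * P⁻¹ : GL (Fin (k + 2)) K) : Matrix (Fin (k + 2)) (Fin (k + 2)) K) = c • 1 := hc
        simp only [Units.val_mul] at this hc'
        rw [hc', sub_self, Matrix.rank_zero] at this
        omega
  · refine Or.inr ⟨hsc, fun ν hν1 hνk hk2 => ?_⟩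
    have hν0 : ν ≠ 0 := fun h => by rw [h, zero_pow (by omega : k ≠ 0)] at hνk; exact zero_ne_one hνk
    exact (hP ν (Finset.mem_filter.2 ⟨Finset.mem_univ _, hν0, hν1, Or.inl ⟨by omega, hνk⟩⟩) (hrk ν hν0 hν1 (by omega))
      (by omega)).2 (Finset.mem_filter.2 ⟨Finset.mem_univ _, hν1, by omega, hνk⟩) (by omega)

/-- The cover at the level of invertible matrices of determinant one. -/
theorem gl_cover (hK : 9 ≤ Fintype.card K) {k : ℕ} {ζ : Kˣ} (hζ : (ζ : K) ^ 2 ≠ 1) (M : GL (Fin (k + 2)) K)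
    (hdet : (M : Matrix (Fin (k + 2)) (Fin (k + 2)) K).det = 1) :
    (∃ c : K, (M : Matrix (Fin (k + 2)) (Fin (k + 2)) K) = c • 1) ∨
      ∃ (z : GL (Fin (k + 2)) K), (∃ c : K, (z : Matrix (Fin (k + 2)) (Fin (k + 2)) K) = c • 1) ∧
        (z : Matrix (Fin (k + 2)) (Fin (k + 2)) K).det = 1 ∧ IsPair (cOut k ζ) (z * M) := by
  classical
  by_cases hsc : ∃ c : K, (M : Matrix (Fin (k + 2)) (Fin (k + 2)) K) = c • 1
  · exact Or.inl hsc
  refine Or.inr ?_
  have h1 : ∃ c : K, ((1 : GL (Fin (k + 2)) K) : Matrix (Fin (k + 2)) (Fin (k + 2)) K) = c • 1 :=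
    ⟨1, (one_smul K _).symm⟩
  by_cases hex : ∃ ν : Kˣ, ((M : Matrix (Fin (k + 2)) (Fin (k + 2)) K) - (ν : K) • 1).rank ≤ 1
  swap
  · push Not at hex
    refine ⟨1, h1, by simp, ?_⟩
    rw [one_mul]
    exact isPair_out hK hζ M hdet hsc fun ν hν0 _ _ => hex (Units.mk0 ν hν0)
  obtain ⟨ν, hν⟩ := hex
  by_cases hνn : (ν : K) ^ (k + 2) = 1
  swap
  · obtain ⟨B, d, hB, hc⟩ := cOut_isConj_bidi (k := k) hζ
    refine ⟨1, h1, by simp, ?_⟩
    rw [one_mul]
    exact isPair_rankOne hc hB M hν hdet hνn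
  let z : GL (Fin (k + 2)) K :=
    { val := ((ν⁻¹ : Kˣ) : K) • 1
      inv := (ν : K) • 1
      val_inv := by simp [smul_smul]
      inv_val := by simp [smul_smul] }
  have hzd : (z : Matrix (Fin (k + 2)) (Fin (k + 2)) K).det = 1 := by
    show ((((ν⁻¹ : Kˣ) : K)) • (1 : Matrix (Fin (k + 2)) (Fin (k + 2)) K)).det = 1
    rw [Matrix.det_smul, Matrix.det_one, mul_one, Fintype.card_fin, Units.val_inv_eq_inv_val, inv_pow, hνn, inv_one]
  have hzM : ((z * M : GL (Fin (k + 2)) K) : Matrix (Fin (k + 2)) (Fin (k + 2)) K)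
      = ((ν⁻¹ : Kˣ) : K) • (M : Matrix (Fin (k + 2)) (Fin (k + 2)) K) := by
    rw [Units.val_mul, show (z : Matrix (Fin (k + 2)) (Fin (k + 2)) K) = ((ν⁻¹ : Kˣ) : K) • 1 from rfl,
      smul_mul_assoc, one_mul]
  refine ⟨z, ⟨_, rfl⟩, hzd, isPair_out hK hζ (z * M) (by rw [Units.val_mul, Matrix.det_mul, hzd, hdet, one_mul])
    (fun ⟨c, hc⟩ => hsc ⟨ν * c, ?_⟩) fun μ hμ0 hμ1 hk => ?_⟩
  · rw [← smul_smul, ← hc, hzM, smul_smul, ν.mul_inv, one_smul]
  · have hscal : ∀ (a : K) (X : Matrix (Fin (k + 2)) (Fin (k + 2)) K), a ≠ 0 → (a • X).rank = X.rank := fun a X ha => by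
      refine le_antisymm ?_ ?_
      · rw [show a • X = (a • (1 : Matrix (Fin (k + 2)) (Fin (k + 2)) K)) * X by rw [smul_mul_assoc, one_mul]]
        exact Matrix.rank_mul_le_right _ _
      · conv_lhs => rw [show X = (a⁻¹ • (1 : Matrix (Fin (k + 2)) (Fin (k + 2)) K)) * (a • X) by
          rw [smul_mul_assoc, one_mul, smul_smul, inv_mul_cancel₀ ha, one_smul]]
        exact Matrix.rank_mul_le_right _ _
    have e : ((z * M : GL (Fin (k + 2)) K) : Matrix (Fin (k + 2)) (Fin (k + 2)) K) - μ • 1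
        = ((ν⁻¹ : Kˣ) : K) • ((M : Matrix (Fin (k + 2)) (Fin (k + 2)) K) - ((ν : K) * μ) • 1) := by
      rw [hzM, smul_sub, smul_smul, ← mul_assoc, ν.inv_mul, one_mul]
    rw [e, hscal _ _ (Units.ne_zero _)]
    by_contra hlt
    have hne : (ν : K) ≠ (ν : K) * μ := fun h => hμ1 ((mul_eq_left₀ ν.ne_zero).1 h.symm)
    have hadd : ∀ X Y : Matrix (Fin (k + 2)) (Fin (k + 2)) K, (X + Y).rank ≤ X.rank + Y.rank := fun X Y => by
      unfold Matrix.rank
      rw [Matrix.mulVecLin_add]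
      refine (Submodule.finrank_mono ?_).trans (Submodule.finrank_add_le_finrank_add_finrank _ _)
      rintro _ ⟨v, rfl⟩
      exact Submodule.add_mem_sup (LinearMap.mem_range_self X.mulVecLin v) (LinearMap.mem_range_self Y.mulVecLin v)
    have h3 := hadd ((M : Matrix (Fin (k + 2)) (Fin (k + 2)) K) - ((ν : K) * μ) • 1)
      (-((M : Matrix (Fin (k + 2)) (Fin (k + 2)) K) - (ν : K) • 1))
    rw [show (M : Matrix (Fin (k + 2)) (Fin (k + 2)) K) - ((ν : K) * μ) • 1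
        + -((M : Matrix (Fin (k + 2)) (Fin (k + 2)) K) - (ν : K) • 1) = ((ν : K) - (ν : K) * μ) • 1 by
        rw [sub_smul]; abel, hscal _ _ (sub_ne_zero.2 hne), Matrix.rank_one, Fintype.card_fin,
      show -((M : Matrix (Fin (k + 2)) (Fin (k + 2)) K) - (ν : K) • 1)
        = (-1 : K) • ((M : Matrix (Fin (k + 2)) (Fin (k + 2)) K) - (ν : K) • 1) from (neg_one_smul K _).symm,
      hscal (-1) _ (neg_ne_zero.2 one_ne_zero)] at h3
    omega

theorem isConj_SL {k : ℕ} {ζ : Kˣ} {c g : SpecialLinearGroup (Fin (k + 2)) K}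
    (hc : (c : Matrix (Fin (k + 2)) (Fin (k + 2)) K) = (cOut k ζ : Matrix (Fin (k + 2)) (Fin (k + 2)) K))
    (h : IsConj (cOut k ζ) (Matrix.SpecialLinearGroup.toGL g)) : IsConj c g := by
  obtain ⟨P, hP⟩ := isConj_iff.1 h
  set d : Kˣ := Matrix.GeneralLinearGroup.det P
  have hD : Commute (bord d⁻¹ (1 : GL (Fin (k + 1)) K)) (cOut k ζ) := by
    show bordHom (d⁻¹, 1) * bordHom (ζ, cMid k ζ) = bordHom (ζ, cMid k ζ) * bordHom (d⁻¹, 1)
    rw [← map_mul, ← map_mul, Prod.mk_mul_mk, Prod.mk_mul_mk, mul_comm d⁻¹, one_mul, mul_one]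
  have hdet : ((P * bord d⁻¹ 1 : GL (Fin (k + 2)) K) : Matrix (Fin (k + 2)) (Fin (k + 2)) K).det = 1 := by
    rw [Units.val_mul, Matrix.det_mul, coe_bord, det_bmat_low, Units.val_one, Matrix.det_one, mul_one]
    exact d.mul_inv
  let D : SpecialLinearGroup (Fin (k + 2)) K := ⟨_, hdet⟩
  refine isConj_iff.2 ⟨D, Matrix.SpecialLinearGroup.toGL_injective ?_⟩
  rw [map_mul, map_mul, map_inv, ← hP, show Matrix.SpecialLinearGroup.toGL c = cOut k ζ from Units.ext hc,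
    show Matrix.SpecialLinearGroup.toGL D = P * bord d⁻¹ 1 from
      Units.ext rfl]
  calc P * bord d⁻¹ 1 * cOut k ζ * (P * bord d⁻¹ 1)⁻¹
      = P * (bord d⁻¹ 1 * cOut k ζ) * (bord d⁻¹ 1)⁻¹ * P⁻¹ := by group
    _ = P * (cOut k ζ * bord d⁻¹ 1) * (bord d⁻¹ 1)⁻¹ * P⁻¹ := by rw [hD.eq]
    _ = _ := by group

theorem cOut_inv_isConj {k : ℕ} (ζ : Kˣ) : IsConj (cOut k ζ) (cOut k ζ)⁻¹ := by
  obtain ⟨P, hP⟩ := exists_jGL_conj_inv (K := K) (n := k)
  have h1 : IsConj (cOut k ζ) (bord ζ (bord ζ⁻¹ (jGL k K)⁻¹)) := isConj_iff.2 ⟨bord 1 (bord 1 P), by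
    rw [cOut, cMid, hP]
    simp only [bord, ← map_inv, ← map_mul, Prod.inv_mk, Prod.mk_mul_mk, inv_one, one_mul, mul_one]⟩
  refine h1.trans ?_
  let σ : Equiv.Perm (Fin (k + 2)) := Equiv.swap 0 1
  let S : GL (Fin (k + 2)) K :=
    { val := (1 : Matrix (Fin (k + 2)) (Fin (k + 2)) K).submatrix σ id
      inv := (1 : Matrix (Fin (k + 2)) (Fin (k + 2)) K).submatrix σ id
      val_inv := by ext i j; simp [Matrix.mul_apply, Matrix.one_apply, Equiv.swap_apply_eq_iff, σ]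
      inv_val := by ext i j; simp [Matrix.mul_apply, Matrix.one_apply, Equiv.swap_apply_eq_iff, σ] }
  refine isConj_iff.2 ⟨S, ?_⟩
  rw [mul_inv_eq_iff_eq_mul, cOut, cMid]
  simp only [bord, ← map_inv, Prod.inv_mk, inv_inv]
  refine Units.ext ?_
  simp only [Units.val_mul, bordHom, MonoidHom.coe_mk, OneHom.coe_mk, S]
  have h01 : ∀ i : Fin k, σ i.succ.succ = i.succ.succ := fun i =>
    Equiv.swap_apply_of_ne_of_ne (Fin.succ_ne_zero _) fun h => Fin.succ_ne_zero i (Fin.succ_injective _ h)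
  have hs0 : σ 0 = 1 := Equiv.swap_apply_left _ _
  have hs1 : σ (0 : Fin (k + 1)).succ = 0 := Equiv.swap_apply_right _ _
  have hl : ∀ (X : Matrix (Fin (k + 2)) (Fin (k + 2)) K) i j,
      ((1 : Matrix (Fin (k + 2)) (Fin (k + 2)) K).submatrix σ id * X) i j = X (σ i) j := fun X i j => by
    simp [Matrix.mul_apply, Matrix.one_apply]
  have hr : ∀ (X : Matrix (Fin (k + 2)) (Fin (k + 2)) K) i j,
      (X * (1 : Matrix (Fin (k + 2)) (Fin (k + 2)) K).submatrix σ id) i j = X i (σ j) := fun X i j => by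
    simp [Matrix.mul_apply, Matrix.one_apply, Equiv.swap_apply_eq_iff, σ]
  ext i j
  rw [hl, hr]
  revert i j
  have e1 : (1 : Fin (k + 2)) = (0 : Fin (k + 1)).succ := rfl
  intro i j
  refine Fin.cases ?_ (fun i => Fin.cases ?_ (fun i => ?_) i) i <;>
    refine Fin.cases ?_ (fun j => Fin.cases ?_ (fun j => ?_) j) j
  all_goals simp only [h01, hs0, hs1, e1, bmat_00, bmat_0s, bmat_s0, bmat_ss, Pi.zero_apply]

/-- A class of `PSL_n` whose square is everything. -/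
theorem psl_square (hK : 9 ≤ Fintype.card K) (n : ℕ) (hn : 2 ≤ n) :
    ∃ c : Matrix.ProjectiveSpecialLinearGroup (Fin n) K, ∀ g : Matrix.ProjectiveSpecialLinearGroup (Fin n) K,
      ∃ x y : Matrix.ProjectiveSpecialLinearGroup (Fin n) K, g = (x * c * x⁻¹) * (y * c * y⁻¹) := by
  classical
  obtain ⟨k, rfl⟩ : ∃ k, n = k + 2 := ⟨n - 2, by omega⟩
  obtain ⟨ζ, hζ⟩ := exists_unit_sq_ne (K := K) (by omega)
  let c : SpecialLinearGroup (Fin (k + 2)) K := ⟨_, det_cOut k ζ⟩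
  let π := QuotientGroup.mk' (Subgroup.center (SpecialLinearGroup (Fin (k + 2)) K))
  have hcen : ∀ {h : SpecialLinearGroup (Fin (k + 2)) K} {r : K},
      (h : Matrix (Fin (k + 2)) (Fin (k + 2)) K) = r • 1 → π h = 1 := fun {h r} e => by
    refine (QuotientGroup.eq_one_iff h).2 (Matrix.SpecialLinearGroup.mem_center_iff.2 ⟨r, ?_, ?_⟩)
    · have := h.2
      rw [show (h.1 : Matrix (Fin (k + 2)) (Fin (k + 2)) K) = r • 1 from e, Matrix.det_smul, Matrix.det_one,
        mul_one] at this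
      exact this
    · rw [e, Matrix.scalar_apply, ← Matrix.smul_one_eq_diagonal]
  refine square_of_cover π (QuotientGroup.mk'_surjective _) (c := c) ?_ fun h => ?_
  · rw [← map_inv]
    refine π.map_isConj (isConj_SL rfl ?_)
    rw [map_inv, show Matrix.SpecialLinearGroup.toGL c = cOut k ζ from Units.ext rfl]
    exact cOut_inv_isConj ζ
  · rcases gl_cover hK hζ (Matrix.SpecialLinearGroup.toGL h) h.2 with ⟨r, hr⟩ | ⟨z, ⟨r, hr⟩, hz, a, b, ha, hb, e⟩
    · exact Or.inl (hcen hr)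
    · obtain ⟨a', rfl⟩ : ∃ a', Matrix.SpecialLinearGroup.toGL a' = a := by
        obtain ⟨g, hg⟩ := isConj_iff.1 ha
        refine ⟨⟨(a : Matrix (Fin (k + 2)) (Fin (k + 2)) K), ?_⟩, Units.ext rfl⟩
        rw [← hg, Units.val_mul, Units.val_mul, Matrix.det_mul, Matrix.det_mul, det_cOut, mul_one, ← Matrix.det_mul,
          Units.mul_inv, Matrix.det_one]
      obtain ⟨b', rfl⟩ : ∃ b', Matrix.SpecialLinearGroup.toGL b' = b := by
        obtain ⟨g, hg⟩ := isConj_iff.1 hb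
        refine ⟨⟨(b : Matrix (Fin (k + 2)) (Fin (k + 2)) K), ?_⟩, Units.ext rfl⟩
        rw [← hg, Units.val_mul, Units.val_mul, Matrix.det_mul, Matrix.det_mul, det_cOut, mul_one, ← Matrix.det_mul,
          Units.mul_inv, Matrix.det_one]
      let z' : SpecialLinearGroup (Fin (k + 2)) K := ⟨_, hz⟩
      refine Or.inr ⟨z', hcen (h := z') hr, a', b', isConj_SL rfl ha, isConj_SL rfl hb,
        Matrix.SpecialLinearGroup.toGL_injective ?_⟩
      rw [map_mul, map_mul, map_inv, ← e, show Matrix.SpecialLinearGroup.toGL z' = z from Units.ext rfl]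

end Cfsg.Lib.ClassSquare
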