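import Cfsg.Agent.Lib.ClassSquare.Border

/-!
# Cyclic classes meet their scalar multiples up to rank one
-/

set_option autoImplicit false

namespace Cfsg.Lib.ClassSquare

open Matrix Module

variable {K : Type*} [Field K] {n : ℕ}

/-- An upper bidiagonal matrix. -/
def bidi (d : Fin n → K) : Matrix (Fin n) (Fin n) K :=
  Matrix.of fun i j : Fin n => if i = j then d i else if j.val = i.val + 1 then 1 else 0

theorem jmat_eq_bidi : jmat n K = bidi fun _ => 1 := rfl

theorem bidi_cons (α : K) (d : Fin n → K) :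
    bidi (Fin.cons α d : Fin (n + 1) → K) = bmat α (fun j => if j.val = 0 then 1 else 0) 0 (bidi d) := by
  refine bmat_ext ?_ (fun j => ?_) (fun i => ?_) fun i j => ?_
  · simp [bidi]
  · simp [bidi, (Fin.succ_ne_zero j).symm]
  · simp [bidi, Fin.succ_ne_zero i]
  · simp [bidi]

theorem bidi_blockTriangular (d : Fin n → K) : (bidi d).BlockTriangular id := fun i j h => by
  have h1 : j.val < i.val := h
  simp [bidi, (ne_of_gt (h : j < i) : i ≠ j), show ¬ j.val = i.val + 1 by omega]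

theorem det_bidi_sub (d : Fin n → K) (α : K) : (bidi d - α • 1).det = ∏ i, (d i - α) := by
  rw [Matrix.det_of_upperTriangular]
  · exact Finset.prod_congr rfl fun i _ => by simp [bidi]
  · intro i j h
    have := bidi_blockTriangular d h
    have hne : i ≠ j := (ne_of_gt (h : j < i))
    show bidi d i j - α * (1 : Matrix (Fin n) (Fin n) K) i j = 0
    rw [this, Matrix.one_apply_ne hne, mul_zero, sub_zero]

theorem det_bidi (d : Fin n → K) : (bidi d).det = ∏ i, d i := by
  simpa using det_bidi_sub d 0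

/-- Bordering a bidiagonal element gives a bidiagonal element. -/
theorem exists_bidi_bord {α : Kˣ} {A : GL (Fin n) K} {d : Fin n → K} (hA : (A : Matrix (Fin n) (Fin n) K) = bidi d)
    (hd : ∀ i, d i ≠ α) : ∃ A' : GL (Fin (n + 1)) K,
      (A' : Matrix (Fin (n + 1)) (Fin (n + 1)) K) = bidi (Fin.cons (α : K) d) ∧ IsConj (bord α A) A' := by
  have hu : IsUnit ((A : Matrix (Fin n) (Fin n) K) - (α : K) • 1).det := by
    rw [hA, det_bidi_sub, isUnit_iff_ne_zero]
    exact Finset.prod_ne_zero_iff.2 fun i _ => sub_ne_zero.2 (hd i)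
  refine ⟨_, ?_, upp_conj_bord hu ((fun j : Fin n => if j.val = 0 then (1 : K) else 0) ᵥ* (A⁻¹ : GL (Fin n) K))⟩
  rw [Units.val_mul, coe_uppb, coe_bord, bmat_mul, bidi_cons, hA]
  refine bmat_ext ?_ (fun j => ?_) (fun i => ?_) fun i j => ?_
  · simp
  · rw [bmat_0s, bmat_0s, ← hA, Matrix.vecMul_vecMul, ← Units.val_mul, inv_mul_cancel]
    simp
  · simp
  · simp

/-- A basis moved along by a scaled bidiagonal matrix. -/
theorem exists_krylov (d : Fin (n + 1) → K) {μ : K} (hμ : μ ≠ 0) :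
    ∃ P : Matrix (Fin (n + 1)) (Fin (n + 1)) K, IsUnit P.det ∧
      ∀ (r j j' : Fin (n + 1)), j'.val = j.val + 1 → ((μ • bidi d) * P) r j = P r j' := by
  classical
  let v : ℕ → Fin (n + 1) → K := fun i => ((μ • bidi d) ^ i) *ᵥ Pi.single (Fin.last n) 1
  have hv : ∀ i, v (i + 1) = (μ • bidi d) *ᵥ v i := fun i => by
    simp only [v]
    rw [pow_succ', ← Matrix.mulVec_mulVec]
  have key : ∀ (i : ℕ), (∀ r : Fin (n + 1), r.val + i < n → v i r = 0) ∧
      ∀ r : Fin (n + 1), r.val + i = n → v i r = μ ^ i := by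
    intro i
    induction i with
    | zero =>
      refine ⟨fun r hr => ?_, fun r hr => ?_⟩
      · have : r ≠ Fin.last n := fun e => by subst e; simp at hr
        simp [v, this]
      · obtain rfl : r = Fin.last n := Fin.ext (by simpa using hr)
        simp [v]
    | succ i ih =>
      have hz : ∀ r l : Fin (n + 1), r.val + (i + 1) ≤ n → l.val + i < n → (μ • bidi d) r l * v i l = 0 :=
        fun r l _ hl => by rw [ih.1 l hl, mul_zero]
      refine ⟨fun r hr => ?_, fun r hr => ?_⟩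
      · rw [hv, Matrix.mulVec, dotProduct]
        refine Finset.sum_eq_zero fun l _ => ?_
        by_cases hl : l.val + i < n
        · exact hz r l hr.le hl
        · have hne : r ≠ l := fun e => by subst e; omega
          simp [bidi, hne, show ¬ l.val = r.val + 1 by omega]
      · rw [hv, Matrix.mulVec, dotProduct, Finset.sum_eq_single ⟨r.val + 1, by omega⟩]
        · rw [ih.2 _ (by simp only; omega), pow_succ']
          congr 1
          simp [bidi, Fin.ext_iff]
        · intro l _ hl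
          have hl' : l.val ≠ r.val + 1 := fun e => hl (Fin.ext e)
          by_cases hlr : l.val + i < n
          · exact hz r l hr.le hlr
          · have hne : r ≠ l := fun e => by subst e; omega
            simp [bidi, hne, hl']
        · simp
  refine ⟨Matrix.of fun r j => v j.val r, ?_, fun r j j' h => ?_⟩
  · rw [isUnit_iff_ne_zero]
    intro h0
    have e : (((Matrix.of fun r j : Fin (n + 1) => v j.val r).submatrix id Fin.revPerm)).det
        = ∏ j : Fin (n + 1), v (Fin.rev j).val j := by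
      rw [Matrix.det_of_lowerTriangular]
      · rfl
      · intro r j hrj
        have h1 : r.val < j.val := hrj
        exact (key _).1 r (by simp only [id_eq, Fin.revPerm_apply, Fin.val_rev]; omega)
    rw [Matrix.det_permute', h0, mul_zero, eq_comm, Finset.prod_eq_zero_iff] at e
    obtain ⟨j, -, hj⟩ := e
    rw [(key _).2 j (by simp only [Fin.val_rev]; omega)] at hj
    exact pow_ne_zero _ hμ hj
  · simp [Matrix.mul_apply, h, hv, Matrix.mulVec, dotProduct]

/-- A rank one perturbation of a scalar with a new eigenvalue is diagonalisable. -/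
theorem rankOne_conj (M : GL (Fin (n + 1)) K) {μ : K} (hμ : μ ≠ 0)
    (hr : ((M : Matrix (Fin (n + 1)) (Fin (n + 1)) K) - μ • 1).rank ≤ 1)
    (hdet : (M : Matrix (Fin (n + 1)) (Fin (n + 1)) K).det ≠ μ ^ (n + 1)) :
    ∃ D : GL (Fin (n + 1)) K, IsConj M D ∧ (D : Matrix (Fin (n + 1)) (Fin (n + 1)) K)
      = bmat ((M : Matrix (Fin (n + 1)) (Fin (n + 1)) K).det / μ ^ n) 0 0 (μ • 1) := by
  classical
  obtain ⟨X, hX⟩ : ∃ X, X = (M : Matrix (Fin (n + 1)) (Fin (n + 1)) K) - μ • 1 := ⟨_, rfl⟩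
  have hM : (M : Matrix (Fin (n + 1)) (Fin (n + 1)) K) = μ • 1 + X := by rw [hX]; abel
  obtain ⟨u, v, huv⟩ : ∃ u v, X = vecMulVec u v := by
    rw [← hX, Matrix.rank] at hr
    obtain ⟨⟨u, _⟩, hu⟩ := finrank_le_one_iff.1 hr
    choose c hc using fun j : Fin (n + 1) => hu ⟨X *ᵥ Pi.single j 1, ⟨Pi.single j 1, rfl⟩⟩
    refine ⟨u, c, Matrix.ext fun i j => ?_⟩
    have := congrFun (congrArg Subtype.val (hc j)) i
    simp at this
    rw [vecMulVec_apply, ← this, mul_comm]
  set s := v ⬝ᵥ u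
  have hd : (M : Matrix (Fin (n + 1)) (Fin (n + 1)) K).det = μ ^ n * (μ + s) := by
    have e : μ • (1 : Matrix (Fin (n + 1)) (Fin (n + 1)) K) + X
        = μ • (1 + replicateCol Unit (μ⁻¹ • u) * replicateRow Unit v) := by
      rw [smul_add, ← Matrix.vecMulVec_eq, huv, Matrix.smul_vecMulVec, smul_smul, mul_inv_cancel₀ hμ, one_smul]
    rw [hM, e, Matrix.det_smul, Matrix.det_one_add_replicateCol_mul_replicateRow, Fintype.card_fin, dotProduct_smul,
      smul_eq_mul, pow_succ]
    field_simp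
    ring
  have hs : s ≠ 0 := fun h => hdet (by rw [hd, h, add_zero, pow_succ])
  let φ : (Fin (n + 1) → K) →ₗ[K] K :=
    { toFun := fun x => v ⬝ᵥ x, map_add' := fun x y => dotProduct_add _ _ _,
      map_smul' := fun c x => by simp }
  have hφu : φ u = s := rfl
  have hker : finrank K (LinearMap.ker φ) = n := by
    have h := LinearMap.finrank_range_add_finrank_ker φ
    have hs' : LinearMap.range φ = ⊤ := LinearMap.range_eq_top.2 fun c => ⟨(c / s) • u, by simp [hφu, hs]⟩
    rw [hs', finrank_top, Module.finrank_self, Module.finrank_fin_fun] at h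
    omega
  let b : Basis (Fin (n + 1)) K (Fin (n + 1) → K) :=
    Basis.mkFinCons u (Module.finBasisOfFinrankEq K _ hker) (fun c x hx h => by
      simpa [hφu, LinearMap.mem_ker.1 hx, hs] using congrArg φ h)
      (fun y => ⟨-(φ y / s), by simp [hφu, hs]⟩)
  set B := LinearMap.toMatrix b (Pi.basisFun K (Fin (n + 1))) LinearMap.id
  have hB : IsUnit B.det := by
    refine Matrix.isUnit_det_of_right_inverse (B := LinearMap.toMatrix (Pi.basisFun K (Fin (n + 1))) b LinearMap.id) ?_
    rw [← LinearMap.toMatrix_comp, LinearMap.id_comp, LinearMap.toMatrix_id]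
  let Q : GL (Fin (n + 1)) K := Matrix.nonsingInvUnit B hB
  refine ⟨Q⁻¹ * M * Q, isConj_iff.2 ⟨Q⁻¹, by group⟩, ?_⟩
  have hcol : (M : Matrix (Fin (n + 1)) (Fin (n + 1)) K) * B
      = B * bmat ((M : Matrix (Fin (n + 1)) (Fin (n + 1)) K).det / μ ^ n) 0 0 (μ • 1) := by
    have hXb : ∀ x, (M : Matrix (Fin (n + 1)) (Fin (n + 1)) K) *ᵥ x = μ • x + φ x • u := fun x => by
      funext i
      rw [hM, Matrix.add_mulVec, Matrix.smul_mulVec, Matrix.one_mulVec, huv, Matrix.vecMulVec_mulVec]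
      simp [φ, mul_comm]
    have hBc : ∀ i j, B i j = b j i := fun i j => by simp [B, LinearMap.toMatrix_apply, Module.Basis.toMatrix_apply]
    ext i j
    have hl : ((M : Matrix (Fin (n + 1)) (Fin (n + 1)) K) * B) i j
        = ((M : Matrix (Fin (n + 1)) (Fin (n + 1)) K) *ᵥ b j) i := by
      simp [Matrix.mul_apply, Matrix.mulVec, dotProduct, hBc]
    rw [hl, hXb, Matrix.mul_apply, Fin.sum_univ_succ, hd, mul_div_cancel_left₀ _ (pow_ne_zero _ hμ)]
    refine Fin.cases ?_ (fun j => ?_) j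
    · have : b 0 = u := by simp [b]
      simp [hBc, this, hφu]
      ring
    · have : φ (b j.succ) = 0 := by simp [b]
      rw [Finset.sum_eq_single j (fun l _ hl => by simp [hl]) (by simp)]
      simp [hBc, this, mul_comm]
  rw [Units.val_mul, Units.val_mul, mul_assoc, show (Q : Matrix (Fin (n + 1)) (Fin (n + 1)) K) = B from rfl, hcol,
    ← mul_assoc, show B = (Q : Matrix (Fin (n + 1)) (Fin (n + 1)) K) from rfl, Units.inv_mul, one_mul]

/-- The rank one exceptions are covered by a cyclic class. -/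
theorem isPair_rankOne {c B : GL (Fin (n + 1)) K} (hc : IsConj c B) {d : Fin (n + 1) → K}
    (hB : (B : Matrix (Fin (n + 1)) (Fin (n + 1)) K) = bidi d) (M : GL (Fin (n + 1)) K) {μ : Kˣ}
    (hr : ((M : Matrix (Fin (n + 1)) (Fin (n + 1)) K) - (μ : K) • 1).rank ≤ 1)
    (hdet : (M : Matrix (Fin (n + 1)) (Fin (n + 1)) K).det = 1) (hμ : (μ : K) ^ (n + 1) ≠ 1) : IsPair c M := by
  classical
  obtain ⟨P₁, hP₁, e₁⟩ := exists_krylov d (one_ne_zero (α := K))
  obtain ⟨P₂, hP₂, e₂⟩ := exists_krylov d μ.ne_zero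
  let U₁ : GL (Fin (n + 1)) K := Matrix.nonsingInvUnit P₁ hP₁
  let U₂ : GL (Fin (n + 1)) K := Matrix.nonsingInvUnit P₂ hP₂
  obtain ⟨a, ha⟩ : ∃ a, a = U₁⁻¹ * B * U₁ := ⟨_, rfl⟩
  obtain ⟨b, hb⟩ : ∃ b, b = U₂⁻¹ * B * U₂ := ⟨_, rfl⟩
  have hconja : IsConj c a := hc.trans (isConj_iff.2 ⟨U₁⁻¹, by rw [ha]; group⟩)
  have hconjb : IsConj c b := hc.trans (isConj_iff.2 ⟨U₂⁻¹, by rw [hb]; group⟩)
  have hshift : ∀ (U : GL (Fin (n + 1)) K) (ν : K),
      (∀ r j j' : Fin (n + 1), j'.val = j.val + 1 →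
        ((ν • bidi d) * (U : Matrix (Fin (n + 1)) (Fin (n + 1)) K)) r j = (U : Matrix (Fin (n + 1)) (Fin (n + 1)) K) r j') →
      ∀ i j j' : Fin (n + 1), j'.val = j.val + 1 →
        (ν • ((U⁻¹ * B * U : GL (Fin (n + 1)) K) : Matrix (Fin (n + 1)) (Fin (n + 1)) K)) i j
          = (1 : Matrix (Fin (n + 1)) (Fin (n + 1)) K) i j' := by
    intro U ν h i j j' hj
    rw [Units.val_mul, Units.val_mul, hB, mul_assoc, ← mul_smul_comm, ← smul_mul_assoc, ← U.inv_mul,
      Matrix.mul_apply, Matrix.mul_apply]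
    exact Finset.sum_congr rfl fun r _ => by rw [h r j j' hj]
  have hab : ((a * b⁻¹ : GL (Fin (n + 1)) K) : Matrix (Fin (n + 1)) (Fin (n + 1)) K) - (μ : K) • 1
      = ((a : Matrix (Fin (n + 1)) (Fin (n + 1)) K) - (μ : K) • (b : Matrix (Fin (n + 1)) (Fin (n + 1)) K))
        * ((b⁻¹ : GL (Fin (n + 1)) K) : Matrix (Fin (n + 1)) (Fin (n + 1)) K) := by
    rw [Units.val_mul, sub_mul, smul_mul_assoc, Units.mul_inv]
  have hlast : ∀ i j : Fin (n + 1), j ≠ Fin.last n →
      ((a : Matrix (Fin (n + 1)) (Fin (n + 1)) K) - (μ : K) • (b : Matrix (Fin (n + 1)) (Fin (n + 1)) K)) i j = 0 := by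
    intro i j hj
    have hjlt : j.val < n := lt_of_le_of_ne (Nat.le_of_lt_succ j.2) fun e => hj (Fin.ext e)
    let j' : Fin (n + 1) := ⟨j.val + 1, by omega⟩
    have h1 := hshift U₁ 1 e₁ i j j' rfl
    have h2 := hshift U₂ μ e₂ i j j' rfl
    rw [one_smul, ← ha] at h1
    rw [← hb] at h2
    rw [Matrix.sub_apply, h1, h2, sub_self]
  have hrank : (((a * b⁻¹ : GL (Fin (n + 1)) K) : Matrix (Fin (n + 1)) (Fin (n + 1)) K) - (μ : K) • 1).rank ≤ 1 := by
    rw [hab]
    refine (Matrix.rank_mul_le_left _ _).trans ?_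
    have e : (a : Matrix (Fin (n + 1)) (Fin (n + 1)) K) - (μ : K) • (b : Matrix (Fin (n + 1)) (Fin (n + 1)) K)
        = vecMulVec (fun i => ((a : Matrix (Fin (n + 1)) (Fin (n + 1)) K)
            - (μ : K) • (b : Matrix (Fin (n + 1)) (Fin (n + 1)) K)) i (Fin.last n)) (Pi.single (Fin.last n) 1) := by
      ext i j
      rw [vecMulVec_apply]
      by_cases h : j = Fin.last n
      · subst h; simp
      · rw [hlast i j h]; simp [h]
    rw [e]
    exact Matrix.rank_vecMulVec_le _ _
  have hdet2 : ((a * b⁻¹ : GL (Fin (n + 1)) K) : Matrix (Fin (n + 1)) (Fin (n + 1)) K).det = 1 := by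
    have : Matrix.GeneralLinearGroup.det (a * b⁻¹) = 1 := by
      rw [ha, hb]
      simp [mul_comm, mul_left_comm]
    have := congrArg Units.val this
    simpa using this
  obtain ⟨D₁, hD₁, eD₁⟩ := rankOne_conj M μ.ne_zero hr (by rw [hdet]; exact fun h => hμ h.symm)
  obtain ⟨D₂, hD₂, eD₂⟩ := rankOne_conj (a * b⁻¹) μ.ne_zero hrank (by rw [hdet2]; exact fun h => hμ h.symm)
  have : D₁ = D₂ := Units.ext (by rw [eD₁, eD₂, hdet, hdet2])
  exact IsPair.of_isConj (hD₂.trans (this ▸ hD₁.symm)) ⟨a, b, hconja, hconjb, rfl⟩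

end Cfsg.Lib.ClassSquare
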