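import Cfsg.Agent.Lib.ClassSquare.OPlus
import Cfsg.Agent.Lib.Linear.OrthOdd

/-!
# Block calculus for the odd split orthogonal groups
-/

set_option autoImplicit false

namespace Cfsg.Lib.ClassSquare

open Matrix Cfsg.Lib.Linear.Orth Module
open scoped commutatorElement

variable {K : Type*} [Field K] {m : ℕ}

/-- The index type of the odd split space. -/
abbrev OI (m : ℕ) : Type := Unit ⊕ (Fin m ⊕ Fin m)

/-- A vector of the odd split space. -/
def vec3 (z : K) (x y : Fin m → K) : OI m → K := Sum.elim (fun _ => z) (Sum.elim x y)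

theorem vec3_eta (v : OI m → K) :
    v = vec3 (v (.inl ())) (fun i => v (.inr (.inl i))) (fun i => v (.inr (.inr i))) := by
  funext i
  rcases i with u | i | i <;> rfl

/-- A matrix of the odd split space from its blocks. -/
def mk3 (a : K) (p q e f : Fin m → K) (A B C D : Matrix (Fin m) (Fin m) K) : Matrix (OI m) (OI m) K :=
  fromBlocks (of fun _ _ => a) (of fun _ j => Sum.elim p q j) (of fun i _ => Sum.elim e f i) (fromBlocks A B C D)

theorem mk3_mulVec (a : K) (p q e f : Fin m → K) (A B C D : Matrix (Fin m) (Fin m) K) (z : K) (x y : Fin m → K) :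
    mk3 a p q e f A B C D *ᵥ vec3 z x y
      = vec3 (a * z + p ⬝ᵥ x + q ⬝ᵥ y) (z • e + A *ᵥ x + B *ᵥ y) (z • f + C *ᵥ x + D *ᵥ y) := by
  funext i
  rcases i with u | i | i <;>
    simp [mk3, vec3, Matrix.mulVec, dotProduct, Fintype.sum_sum_type, add_assoc, mul_comm]

theorem mk3_mul (a : K) (p q e f : Fin m → K) (A B C D : Matrix (Fin m) (Fin m) K)
    (a' : K) (p' q' e' f' : Fin m → K) (A' B' C' D' : Matrix (Fin m) (Fin m) K) :
    mk3 a p q e f A B C D * mk3 a' p' q' e' f' A' B' C' D'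
      = mk3 (a * a' + p ⬝ᵥ e' + q ⬝ᵥ f') (a • p' + p ᵥ* A' + q ᵥ* C') (a • q' + p ᵥ* B' + q ᵥ* D')
          (a' • e + A *ᵥ e' + B *ᵥ f') (a' • f + C *ᵥ e' + D *ᵥ f')
          (vecMulVec e p' + A * A' + B * C') (vecMulVec e q' + A * B' + B * D')
          (vecMulVec f p' + C * A' + D * C') (vecMulVec f q' + C * B' + D * D') := by
  ext i j
  rcases i with u | i | i <;> rcases j with u' | j | j <;>
    simp [mk3, Matrix.mul_apply, Fintype.sum_sum_type, Matrix.mulVec, Matrix.vecMul, dotProduct, vecMulVec_apply,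
      add_assoc, mul_comm]

theorem mk3_one : mk3 (1 : K) 0 0 0 0 1 0 0 (1 : Matrix (Fin m) (Fin m) K) = 1 := by
  ext i j
  rcases i with u | i | i <;> rcases j with u' | j | j <;> simp [mk3, Matrix.one_apply]

theorem mk3_eta (M : Matrix (OI m) (OI m) K) :
    M = mk3 (M (.inl ()) (.inl ())) (fun j => M (.inl ()) (.inr (.inl j))) (fun j => M (.inl ()) (.inr (.inr j)))
      (fun i => M (.inr (.inl i)) (.inl ())) (fun i => M (.inr (.inr i)) (.inl ()))
      M.toBlocks₂₂.toBlocks₁₁ M.toBlocks₂₂.toBlocks₁₂ M.toBlocks₂₂.toBlocks₂₁ M.toBlocks₂₂.toBlocks₂₂ := by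
  ext i j
  rcases i with u | i | i <;> rcases j with u' | j | j <;> rfl

theorem mk3_ext {a a' : K} {p q e f p' q' e' f' : Fin m → K} {A B C D A' B' C' D' : Matrix (Fin m) (Fin m) K}
    (h : mk3 a p q e f A B C D = mk3 a' p' q' e' f' A' B' C' D') :
    a = a' ∧ p = p' ∧ q = q' ∧ e = e' ∧ f = f' ∧ A = A' ∧ B = B' ∧ C = C' ∧ D = D' := by
  have h' := fun i j => congrFun (congrFun h i) j
  exact ⟨h' (.inl ()) (.inl ()), funext fun j => h' (.inl ()) (.inr (.inl j)),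
    funext fun j => h' (.inl ()) (.inr (.inr j)), funext fun i => h' (.inr (.inl i)) (.inl ()),
    funext fun i => h' (.inr (.inr i)) (.inl ()), Matrix.ext fun i j => h' (.inr (.inl i)) (.inr (.inl j)),
    Matrix.ext fun i j => h' (.inr (.inl i)) (.inr (.inr j)), Matrix.ext fun i j => h' (.inr (.inr i)) (.inr (.inl j)),
    Matrix.ext fun i j => h' (.inr (.inr i)) (.inr (.inr j))⟩

theorem quadOdd_vec3 (z : K) (x y : Fin m → K) : Cfsg.quadFormOdd m K (vec3 z x y) = z ^ 2 + x ⬝ᵥ y := rfl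

/-- The hyperbolic part inside the odd space. -/
def emb3 (m : ℕ) (K : Type*) [Field K] : GL (Fin m ⊕ Fin m) K →* GL (OI m) K :=
  Units.map
    { toFun := fun M => fromBlocks 1 0 0 M
      map_one' := fromBlocks_one
      map_mul' := fun M N => by simp [fromBlocks_multiply] }

theorem coe_emb3 {g : GL (Fin m ⊕ Fin m) K} {A B C D : Matrix (Fin m) (Fin m) K}
    (hg : (g : Matrix (Fin m ⊕ Fin m) (Fin m ⊕ Fin m) K) = fromBlocks A B C D) :
    (emb3 m K g : Matrix (OI m) (OI m) K) = mk3 1 0 0 0 0 A B C D := by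
  show fromBlocks 1 0 0 (g : Matrix (Fin m ⊕ Fin m) (Fin m ⊕ Fin m) K) = _
  rw [hg]
  ext i j
  rcases i with u | i | i <;> rcases j with u' | j | j <;> simp [mk3]

/-- The Levi elements of the odd group. -/
def lev3 (m : ℕ) (K : Type*) [Field K] : GL (Fin m) K →* GL (OI m) K := (emb3 m K).comp (levGL m)

theorem coe_lev3 (A : GL (Fin m) K) : (lev3 m K A : Matrix (OI m) (OI m) K)
    = mk3 1 0 0 0 0 (A : Matrix (Fin m) (Fin m) K) 0 0 ((A⁻¹ : GL (Fin m) K) : Matrix (Fin m) (Fin m) K)ᵀ :=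
  coe_emb3 (coe_levGL A)

/-- The upper radical of the odd group. -/
def upO (b : Fin m → K) (S : Matrix (Fin m) (Fin m) K) : GL (OI m) K where
  val := mk3 1 0 b ((-2 : K) • b) 0 1 S 0 1
  inv := mk3 1 0 (-b) ((2 : K) • b) 0 1 (-S - (2 : K) • vecMulVec b b) 0 1
  val_inv := by
    rw [mk3_mul, ← mk3_one]
    congr 1 <;> first | (ext i j; simp [vecMulVec_apply]; ring) | (ext i; simp) | simp
  inv_val := by
    rw [mk3_mul, ← mk3_one]
    congr 1 <;> first | (ext i j; simp [vecMulVec_apply]; ring) | (ext i; simp) | simp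

/-- The lower radical of the odd group. -/
def loO (b : Fin m → K) (S : Matrix (Fin m) (Fin m) K) : GL (OI m) K where
  val := mk3 1 b 0 0 ((-2 : K) • b) 1 0 S 1
  inv := mk3 1 (-b) 0 0 ((2 : K) • b) 1 0 (-S - (2 : K) • vecMulVec b b) 1
  val_inv := by
    rw [mk3_mul, ← mk3_one]
    congr 1 <;> first | (ext i j; simp [vecMulVec_apply]; ring) | (ext i; simp) | simp
  inv_val := by
    rw [mk3_mul, ← mk3_one]
    congr 1 <;> first | (ext i j; simp [vecMulVec_apply]; ring) | (ext i; simp) | simp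

theorem coe_upO (b : Fin m → K) (S : Matrix (Fin m) (Fin m) K) :
    (upO b S : Matrix (OI m) (OI m) K) = mk3 1 0 b ((-2 : K) • b) 0 1 S 0 1 := rfl

theorem coe_loO (b : Fin m → K) (S : Matrix (Fin m) (Fin m) K) :
    (loO b S : Matrix (OI m) (OI m) K) = mk3 1 b 0 0 ((-2 : K) • b) 1 0 S 1 := rfl

theorem coe_upO_inv (b : Fin m → K) (S : Matrix (Fin m) (Fin m) K) :
    ((upO b S)⁻¹ : GL (OI m) K).val = mk3 1 0 (-b) ((2 : K) • b) 0 1 (-S - (2 : K) • vecMulVec b b) 0 1 := rfl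

theorem coe_loO_inv (b : Fin m → K) (S : Matrix (Fin m) (Fin m) K) :
    ((loO b S)⁻¹ : GL (OI m) K).val = mk3 1 (-b) 0 0 ((2 : K) • b) 1 0 (-S - (2 : K) • vecMulVec b b) 1 := rfl

theorem upO_mul (b b' : Fin m → K) (S S' : Matrix (Fin m) (Fin m) K) :
    upO b S * upO b' S' = upO (b + b') (S + S' - (2 : K) • vecMulVec b b') := by
  refine Units.ext ?_
  rw [Units.val_mul, coe_upO, coe_upO, coe_upO, mk3_mul]
  congr 1 <;> first | (ext i j; simp [vecMulVec_apply]; ring) | (ext i; simp; ring) | simp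

theorem loO_mul (b b' : Fin m → K) (S S' : Matrix (Fin m) (Fin m) K) :
    loO b S * loO b' S' = loO (b + b') (S + S' - (2 : K) • vecMulVec b b') := by
  refine Units.ext ?_
  rw [Units.val_mul, coe_loO, coe_loO, coe_loO, mk3_mul]
  congr 1 <;> first | (ext i j; simp [vecMulVec_apply]; ring) | (ext i; simp; ring) | simp

theorem upO_inv (b : Fin m → K) (S : Matrix (Fin m) (Fin m) K) :
    (upO b S)⁻¹ = upO (-b) (-S - (2 : K) • vecMulVec b b) := by
  refine Units.ext ?_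
  rw [coe_upO_inv, coe_upO, smul_neg, neg_smul, neg_neg]

theorem loO_inv (b : Fin m → K) (S : Matrix (Fin m) (Fin m) K) :
    (loO b S)⁻¹ = loO (-b) (-S - (2 : K) • vecMulVec b b) := by
  refine Units.ext ?_
  rw [coe_loO_inv, coe_loO, smul_neg, neg_smul, neg_neg]

theorem upO_zero : upO (0 : Fin m → K) 0 = 1 :=
  Units.ext (by rw [coe_upO, smul_zero, mk3_one]; rfl)

theorem loO_zero : loO (0 : Fin m → K) 0 = 1 :=
  Units.ext (by rw [coe_loO, smul_zero, mk3_one]; rfl)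

/-- The upper radical as a subgroup. -/
def upOSub (m : ℕ) (K : Type*) [Field K] : Subgroup (GL (OI m) K) where
  carrier := {g | ∃ b S, g = upO b S}
  one_mem' := ⟨0, 0, upO_zero.symm⟩
  mul_mem' := by rintro _ _ ⟨b, S, rfl⟩ ⟨b', S', rfl⟩; exact ⟨_, _, upO_mul b b' S S'⟩
  inv_mem' := by rintro _ ⟨b, S, rfl⟩; exact ⟨_, _, upO_inv b S⟩

/-- The lower radical as a subgroup. -/
def loOSub (m : ℕ) (K : Type*) [Field K] : Subgroup (GL (OI m) K) where
  carrier := {g | ∃ b S, g = loO b S}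
  one_mem' := ⟨0, 0, loO_zero.symm⟩
  mul_mem' := by rintro _ _ ⟨b, S, rfl⟩ ⟨b', S', rfl⟩; exact ⟨_, _, loO_mul b b' S S'⟩
  inv_mem' := by rintro _ ⟨b, S, rfl⟩; exact ⟨_, _, loO_inv b S⟩

theorem lev3_up (A : GL (Fin m) K) (b : Fin m → K) (S : Matrix (Fin m) (Fin m) K) :
    lev3 m K A * upO b S * (lev3 m K A)⁻¹
      = upO ((A : Matrix (Fin m) (Fin m) K) *ᵥ b)
          ((A : Matrix (Fin m) (Fin m) K) * S * (A : Matrix (Fin m) (Fin m) K)ᵀ) := by
  refine mul_inv_eq_iff_eq_mul.2 (Units.ext ?_)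
  simp [coe_lev3, coe_upO, mk3_mul, Matrix.mulVec_smul, Matrix.mulVec_neg, Matrix.mul_assoc, ← Matrix.transpose_mul,
    ← Matrix.mulVec_transpose, Matrix.mulVec_mulVec, ← Units.val_mul]

theorem lev3_lo (A : GL (Fin m) K) (b : Fin m → K) (S : Matrix (Fin m) (Fin m) K) :
    lev3 m K A * loO b S * (lev3 m K A)⁻¹
      = loO (((A⁻¹ : GL (Fin m) K) : Matrix (Fin m) (Fin m) K)ᵀ *ᵥ b)
          (((A⁻¹ : GL (Fin m) K) : Matrix (Fin m) (Fin m) K)ᵀ * S * ((A⁻¹ : GL (Fin m) K) : Matrix (Fin m) (Fin m) K)) := by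
  refine mul_inv_eq_iff_eq_mul.2 (Units.ext ?_)
  simp [coe_lev3, coe_loO, mk3_mul, Matrix.mulVec_smul, Matrix.mulVec_neg, Matrix.mul_assoc, ← Matrix.transpose_mul,
    ← Matrix.mulVec_transpose, Matrix.mulVec_mulVec, ← Units.val_mul]

theorem upO_injective {b b' : Fin m → K} {S S' : Matrix (Fin m) (Fin m) K} (h : upO b S = upO b' S') :
    b = b' ∧ S = S' := by
  obtain ⟨-, -, hq, -, -, -, hB, -, -⟩ := mk3_ext (show mk3 1 0 b ((-2 : K) • b) 0 1 S 0 1 = _ from congrArg Units.val h)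
  exact ⟨hq, hB⟩

theorem loO_injective {b b' : Fin m → K} {S S' : Matrix (Fin m) (Fin m) K} (h : loO b S = loO b' S') :
    b = b' ∧ S = S' := by
  obtain ⟨-, hp, -, -, -, -, -, hC, -⟩ := mk3_ext (show mk3 1 b 0 0 ((-2 : K) • b) 1 0 S 1 = _ from congrArg Units.val h)
  exact ⟨hp, hC⟩

/-- The condition on the radical parameters. -/
def IsSq3 (b : Fin m → K) (S : Matrix (Fin m) (Fin m) K) : Prop := ∀ y : Fin m → K, y ⬝ᵥ S *ᵥ y = -(b ⬝ᵥ y) ^ 2

theorem isSq3_square (b : Fin m → K) : IsSq3 b (-vecMulVec b b) := fun y => by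
  simp [Matrix.neg_mulVec, Matrix.vecMulVec_mulVec, dotProduct_comm y b, sq]

theorem isSq3_alt {S : Matrix (Fin m) (Fin m) K} : IsSq3 0 S ↔ IsAltM S := by
  simp [IsSq3, IsAltM]

theorem iso3_blocks {g : GL (OI m) K} {a : K} {p q e f : Fin m → K} {A B C D : Matrix (Fin m) (Fin m) K}
    (hg : (g : Matrix (OI m) (OI m) K) = mk3 a p q e f A B C D)
    (h : g ∈ isometryGroup K (Cfsg.quadFormOdd m K)) :
    (∀ x, (p ⬝ᵥ x) ^ 2 + (A *ᵥ x) ⬝ᵥ (C *ᵥ x) = 0) ∧ (∀ y, (q ⬝ᵥ y) ^ 2 + (B *ᵥ y) ⬝ᵥ (D *ᵥ y) = 0) ∧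
    (∀ x y, 2 * (p ⬝ᵥ x) * (q ⬝ᵥ y) + (A *ᵥ x) ⬝ᵥ (D *ᵥ y) + (B *ᵥ y) ⬝ᵥ (C *ᵥ x) = x ⬝ᵥ y) ∧
    (∀ x, 2 * a * (p ⬝ᵥ x) + e ⬝ᵥ (C *ᵥ x) + f ⬝ᵥ (A *ᵥ x) = 0) ∧
    (∀ y, 2 * a * (q ⬝ᵥ y) + e ⬝ᵥ (D *ᵥ y) + f ⬝ᵥ (B *ᵥ y) = 0) ∧ a ^ 2 + e ⬝ᵥ f = 1 := by
  have hQ : ∀ z x y, (a * z + p ⬝ᵥ x + q ⬝ᵥ y) ^ 2 + (z • e + A *ᵥ x + B *ᵥ y) ⬝ᵥ (z • f + C *ᵥ x + D *ᵥ y)
      = z ^ 2 + x ⬝ᵥ y := fun z x y => by
    have := mem_iso.1 h (vec3 z x y)
    rwa [hg, mk3_mulVec, quadOdd_vec3, quadOdd_vec3] at this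
  have h1 : ∀ x, (p ⬝ᵥ x) ^ 2 + (A *ᵥ x) ⬝ᵥ (C *ᵥ x) = 0 := fun x => by simpa using hQ 0 x 0
  have h2 : ∀ y, (q ⬝ᵥ y) ^ 2 + (B *ᵥ y) ⬝ᵥ (D *ᵥ y) = 0 := fun y => by simpa using hQ 0 0 y
  have h6 : a ^ 2 + e ⬝ᵥ f = 1 := by simpa using hQ 1 0 0
  refine ⟨h1, h2, fun x y => ?_, fun x => ?_, fun y => ?_, h6⟩
  · have := hQ 0 x y
    simp [add_dotProduct, dotProduct_add] at this
    linear_combination this - h1 x - h2 y
  · have := hQ 1 x 0
    simp [add_dotProduct, dotProduct_add] at this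
    rw [dotProduct_comm f]
    linear_combination this - h1 x - h6
  · have := hQ 1 0 y
    simp [add_dotProduct, dotProduct_add] at this
    rw [dotProduct_comm f]
    linear_combination this - h2 y - h6

theorem upO_mem_iso {b : Fin m → K} {S : Matrix (Fin m) (Fin m) K} :
    upO b S ∈ isometryGroup K (Cfsg.quadFormOdd m K) ↔ IsSq3 b S := by
  refine ⟨fun h y => ?_, fun h => mem_iso.2 fun v => ?_⟩
  · have := (iso3_blocks (coe_upO b S) h).2.1 y
    simp at this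
    rw [dotProduct_comm (S *ᵥ y)] at this
    linear_combination this
  · rw [vec3_eta v, coe_upO, mk3_mulVec, quadOdd_vec3, quadOdd_vec3]
    simp [add_dotProduct, dotProduct_comm (S *ᵥ _), h (fun i => v (.inr (.inr i)))]
    ring

theorem loO_mem_iso {b : Fin m → K} {S : Matrix (Fin m) (Fin m) K} :
    loO b S ∈ isometryGroup K (Cfsg.quadFormOdd m K) ↔ IsSq3 b S := by
  refine ⟨fun h x => ?_, fun h => mem_iso.2 fun v => ?_⟩
  · have := (iso3_blocks (coe_loO b S) h).1 x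
    simp at this
    linear_combination this
  · rw [vec3_eta v, coe_loO, mk3_mulVec, quadOdd_vec3, quadOdd_vec3]
    simp [dotProduct_add, h (fun i => v (.inr (.inl i)))]
    rw [dotProduct_comm (fun i => v (.inr (.inl i))) b]
    ring

theorem emb3_mem_iso {g : GL (Fin m ⊕ Fin m) K} (hg : g ∈ isometryGroup K (Cfsg.quadFormPlus m K)) :
    emb3 m K g ∈ isometryGroup K (Cfsg.quadFormOdd m K) := mem_iso.2 fun v => by
  rw [vec3_eta v, coe_emb3 (fromBlocks_toBlocks (g : Matrix (Fin m ⊕ Fin m) (Fin m ⊕ Fin m) K)).symm, mk3_mulVec,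
    quadOdd_vec3, quadOdd_vec3]
  have := mem_iso.1 hg (Sum.elim (fun i => v (.inr (.inl i))) (fun i => v (.inr (.inr i))))
  rw [quadFormPlus_eq, quadFormPlus_eq, ← fromBlocks_toBlocks (g : Matrix (Fin m ⊕ Fin m) (Fin m ⊕ Fin m) K),
    fromBlocks_mulVec] at this
  simp only [Sum.elim_comp_inl, Sum.elim_comp_inr] at this
  simp only [one_mul, zero_dotProduct, add_zero, smul_zero, zero_add]
  rw [this]

/-- `Ω` of the odd form among the invertible matrices. -/
abbrev omO (m : ℕ) (K : Type*) [Field K] : Subgroup (GL (OI m) K) :=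
  Cfsg.Geo.omegaGL (Cfsg.quadFormOdd m K)

theorem omO_le {g : GL (OI m) K} (h : g ∈ omO m K) : g ∈ isometryGroup K (Cfsg.quadFormOdd m K) := by
  obtain ⟨x, -, rfl⟩ := h
  exact x.2

theorem comm_mem_omO {a b : GL (OI m) K} (ha : a ∈ isometryGroup K (Cfsg.quadFormOdd m K))
    (hb : b ∈ isometryGroup K (Cfsg.quadFormOdd m K)) : ⁅a, b⁆ ∈ omO m K :=
  ⟨⁅(⟨a, ha⟩ : ↥(isometryGroup K (Cfsg.quadFormOdd m K))), ⟨b, hb⟩⁆,
    Subgroup.commutator_mem_commutator (Subgroup.mem_top _) (Subgroup.mem_top _), rfl⟩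

theorem emb3_mem_omO {g : GL (Fin m ⊕ Fin m) K} (hg : g ∈ omP m K) : emb3 m K g ∈ omO m K := by
  let f : ↥(isometryGroup K (Cfsg.quadFormPlus m K)) →* ↥(isometryGroup K (Cfsg.quadFormOdd m K)) :=
    ((emb3 m K).comp (isometryGroup K (Cfsg.quadFormPlus m K)).subtype).codRestrict _ fun x => emb3_mem_iso x.2
  obtain ⟨x, hx, rfl⟩ := hg
  refine ⟨f x, ?_, rfl⟩
  have : (commutator ↥(isometryGroup K (Cfsg.quadFormPlus m K))).map f
      ≤ commutator ↥(isometryGroup K (Cfsg.quadFormOdd m K)) := by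
    rw [_root_.commutator_def, Subgroup.map_commutator, _root_.commutator_def]
    exact Subgroup.commutator_mono le_top le_top
  exact this (Subgroup.mem_map_of_mem f hx)

theorem det_omO {g : GL (OI m) K} (h : g ∈ omO m K) : (g : Matrix (OI m) (OI m) K).det = 1 := by
  obtain ⟨x, hx, rfl⟩ := h
  exact congrArg Units.val (MonoidHom.mem_ker.1 (Abelianization.commutator_subset_ker
    (Matrix.GeneralLinearGroup.det.comp (isometryGroup K (Cfsg.quadFormOdd m K)).subtype) hx))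

/-- A diagonal Levi element whose entry is no square is outside `Ω`. -/
theorem lev3_single_not_mem [Fintype K] (h2 : (2 : K) ≠ 0) (hm : 1 ≤ m) (i : Fin m) (c : Kˣ)
    (h : lev3 m K (dUnit (Function.update 1 i c)) ∈ omO m K) : IsSquare (c : K) := by
  classical
  obtain ⟨B, C⟩ := exists_space (isQuad_odd (F := K) m h2)
  set v : OI m → K := vec3 0 (Pi.single i 1) (-Pi.single i 1) with hv
  set w : OI m → K := vec3 0 (Pi.single i 1) (-((c : K) • Pi.single i 1)) with hw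
  have hQv : Cfsg.quadFormOdd m K v = -1 := by simp [v, quadOdd_vec3]
  have hQw : Cfsg.quadFormOdd m K w = -(c : K) := by simp [w, quadOdd_vec3]
  obtain ⟨g, hg, -, hs⟩ := exists_refl_prod C h2 [v, w] (by
    intro u hu
    simp only [List.mem_cons, List.not_mem_nil, or_false] at hu
    rcases hu with rfl | rfl
    · rw [hQv]; simp
    · rw [hQw]; simp)
  have hB : ∀ z₁ x₁ y₁ z x y, B (vec3 z₁ x₁ y₁) (vec3 z x y) = 2 * z₁ * z + x₁ ⬝ᵥ y + x ⬝ᵥ y₁ := fun z₁ x₁ y₁ z x y => by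
    rw [← C.polar]
    simp only [QuadraticMap.polar, show vec3 z₁ x₁ y₁ + vec3 z x y = vec3 (z₁ + z) (x₁ + x) (y₁ + y) from by
      funext k; rcases k with k | k | k <;> rfl, quadOdd_vec3, add_dotProduct, dotProduct_add]
    ring
  have he : ((g : GL (OI m) K)).val = (lev3 m K (dUnit (Function.update 1 i c))).val := by
    refine mat_ext fun x => ?_
    rw [hg, coe_lev3, List.map_cons, List.map_cons, List.map_nil, List.prod_cons, List.prod_cons, List.prod_nil,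
      mul_one, ← Matrix.mulVec_mulVec, rMat_mulVec C, rMat_mulVec C, hQv, hQw, vec3_eta x, mk3_mulVec]
    have hc : (c : K) ≠ 0 := c.ne_zero
    simp only [v, w, map_sub, map_smul, hB]
    funext k
    rcases k with k | k | k
    · simp [vec3]
    all_goals by_cases hk : k = i
    all_goals simp [vec3, dUnit, hk, Matrix.mulVec_diagonal, Pi.single_apply, Function.update_apply,
      Matrix.diagonal_transpose]
    all_goals first | done | (field_simp; ring) | skip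
  obtain ⟨x, hx, e⟩ := h
  have hgx : g = x := Subtype.ext (Units.ext (he.trans (congrArg Units.val e.symm)))
  have hker : detSpin (Cfsg.quadFormOdd m K) g = 1 := by
    have hn : 2 ≤ Fintype.card (OI m) := by simp; omega
    rw [hgx, ← MonoidHom.mem_ker, ← (omega_odd C h2 hn).1]
    exact hx
  have hs1 : spin (Cfsg.quadFormOdd m K) g = 1 := congrArg Prod.snd hker
  rw [hs] at hs1
  simp [hQv, hQw, sqSign_eq_one] at hs1
  exact hs1

theorem lev3_mem [Fintype K] (hK : 4 ≤ Fintype.card K) (hm : 1 ≤ m) {A : GL (Fin m) K}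
    (h : IsSquare (A : Matrix (Fin m) (Fin m) K).det) : lev3 m K A ∈ omO m K :=
  emb3_mem_omO ((lev_mem_omP hK hm).2 h)

theorem lev3_det_square [Fintype K] (hK : 4 ≤ Fintype.card K) (hm : 1 ≤ m) (h2 : (2 : K) ≠ 0) {A : GL (Fin m) K}
    (h : lev3 m K A ∈ omO m K) : IsSquare (A : Matrix (Fin m) (Fin m) K).det := by
  classical
  set c : Kˣ := Matrix.GeneralLinearGroup.det A
  set d : GL (Fin m) K := dUnit (Function.update 1 ⟨0, hm⟩ c) with hd
  have hdd : (d : Matrix (Fin m) (Fin m) K).det = c := by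
    show (Matrix.diagonal _).det = _
    rw [Matrix.det_diagonal, Finset.prod_eq_single ⟨0, hm⟩] <;> simp +contextual
  have h1 : lev3 m K (d⁻¹ * A) ∈ omO m K := lev3_mem hK hm (by
    rw [Units.val_mul, Matrix.det_mul, Matrix.coe_units_inv, Matrix.det_nonsing_inv, hdd,
      show (A : Matrix (Fin m) (Fin m) K).det = c from rfl, Ring.inverse_eq_inv', inv_mul_cancel₀ c.ne_zero]
    exact IsSquare.one)
  refine lev3_single_not_mem h2 hm ⟨0, hm⟩ c ?_
  rw [← hd, show d = A * (d⁻¹ * A)⁻¹ by group, map_mul, map_inv]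
  exact mul_mem h (inv_mem h1)

end Cfsg.Lib.ClassSquare
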